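import Mathlib
import Cfsg.Agent.Lib.Helper7.SylowAux

set_option autoImplicit false

namespace Cfsg.Agent.Lib.Helper7

open Subgroup

/-- If `g` conjugates an element `t` of order `p^e` to `t^k`, `t` is not a power of `t^(k-1)`,
and some power `g^m` with `m` prime to `p` centralizes `t`, then `g` centralizes `t`. -/
theorem commute_of_conj_eq_zpow {Y : Type*} [Group Y] (p : ℕ) [Fact p.Prime] (t g : Y) (e : ℕ)
    (ht : orderOf t = p ^ e) (k : ℤ) (hk : g * t * g⁻¹ = t ^ k)
    (hnot : t ∉ zpowers (t ^ (k - 1)))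
    (m : ℕ) (hm : m.Coprime p) (hgm : g ^ m * t = t * g ^ m) : g * t = t * g := by
  have hp : p.Prime := Fact.out
  have hpk : (p : ℤ) ∣ k - 1 := by
    by_contra hnd
    apply hnot
    have hpI : Prime (p : ℤ) := Nat.prime_iff_prime_int.mp hp
    have hcop : IsCoprime (k - 1) ((p : ℤ) ^ e) :=
      IsCoprime.pow_right ((hpI.coprime_iff_not_dvd.mpr hnd).symm)
    obtain ⟨α, β, hαβ⟩ := hcop
    rw [mem_zpowers_iff]
    refine ⟨α, ?_⟩
    rw [← zpow_mul]
    have h1 : (k - 1) * α = 1 + (-β) * (p : ℤ) ^ e := by linarith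
    have h2 : t ^ ((p : ℤ) ^ e) = 1 := by
      have : ((p : ℤ) ^ e) = ((p ^ e : ℕ) : ℤ) := by push_cast; rfl
      rw [this, zpow_natCast, ← ht, pow_orderOf_eq_one]
    rw [h1, zpow_add, zpow_one, mul_comm (-β), zpow_mul, h2, one_zpow, mul_one]
  have hconj : ∀ j : ℕ, g ^ j * t * (g ^ j)⁻¹ = t ^ (k ^ j) := by
    intro j
    induction j with
    | zero => simp
    | succ j ih =>
      have h1 : g ^ (j + 1) * t * (g ^ (j + 1))⁻¹ = g * (g ^ j * t * (g ^ j)⁻¹) * g⁻¹ := by
        rw [pow_succ']; group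
      rw [h1, ih, ← conj_zpow, hk, ← zpow_mul, pow_succ, mul_comm]
  have hpe : g ^ (p ^ e) * t = t * g ^ (p ^ e) := by
    have h1 := hconj (p ^ e)
    have h2 : ((p : ℤ) ^ (e + 1)) ∣ k ^ p ^ e - 1 ^ p ^ e := dvd_sub_pow_of_dvd_sub hpk e
    rw [one_pow] at h2
    have h3 : ((orderOf t : ℕ) : ℤ) ∣ k ^ p ^ e - 1 := by
      rw [ht]; push_cast
      exact (pow_dvd_pow (p : ℤ) (Nat.le_succ e)).trans h2
    have h4 : t ^ (k ^ p ^ e - 1) = 1 := orderOf_dvd_iff_zpow_eq_one.mp h3
    have h5 : t ^ (k ^ p ^ e) = t := by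
      have : k ^ p ^ e = (k ^ p ^ e - 1) + 1 := by ring
      rw [this, zpow_add, h4, one_mul, zpow_one]
    rw [h5] at h1
    calc g ^ (p ^ e) * t = (g ^ (p ^ e) * t * (g ^ (p ^ e))⁻¹) * g ^ (p ^ e) := by group
      _ = t * g ^ (p ^ e) := by rw [h1]
  have hcop : Nat.Coprime (p ^ e) m := Nat.Coprime.pow_left e hm.symm
  have hbez : ((p ^ e : ℕ) : ℤ) * Nat.gcdA (p ^ e) m + (m : ℤ) * Nat.gcdB (p ^ e) m = 1 := by
    have := Nat.gcd_eq_gcd_ab (p ^ e) m
    rw [hcop.gcd_eq_one] at this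
    exact_mod_cast this.symm
  have h1 : g ^ (p ^ e) ∈ centralizer ({t} : Set Y) := by
    rw [mem_centralizer_iff]; intro y hy
    rw [Set.mem_singleton_iff] at hy; subst hy; exact hpe.symm
  have h2 : g ^ m ∈ centralizer ({t} : Set Y) := by
    rw [mem_centralizer_iff]; intro y hy
    rw [Set.mem_singleton_iff] at hy; subst hy; exact hgm.symm
  have h3 : g ∈ centralizer ({t} : Set Y) := by
    have h4 : g = (g ^ (p ^ e)) ^ (Nat.gcdA (p ^ e) m) * (g ^ m) ^ (Nat.gcdB (p ^ e) m) := by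
      rw [← zpow_natCast, ← zpow_natCast, ← zpow_mul, ← zpow_mul, ← zpow_add, hbez, zpow_one]
    rw [h4]
    exact mul_mem (zpow_mem h1 _) (zpow_mem h2 _)
  rw [mem_centralizer_iff] at h3
  exact (h3 t rfl).symm

/-- Burnside's normal `p`-complement theorem for a cyclic Sylow `p`-subgroup, under a condition
ruling out nontrivial `p'`-automorphisms. -/
theorem burnside_cyclic {Y : Type*} [Group Y] [Finite Y] {p : ℕ} [Fact p.Prime] (P : Sylow p Y)
    (hcyc : IsCyclic (P : Subgroup Y))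
    (hcond : ∀ g ∈ normalizer ((P : Subgroup Y) : Set Y), ∀ t ∈ (P : Subgroup Y), ∀ k : ℤ,
      zpowers t = (P : Subgroup Y) → g * t * g⁻¹ = t ^ k → t ∉ zpowers (t ^ (k - 1))) :
    ∃ N : Subgroup Y, N.Normal ∧ N.IsComplement' (P : Subgroup Y) ∧
      ∀ a b : Y, a * b * a⁻¹ * b⁻¹ ∈ N := by
  have hp : p.Prime := Fact.out
  obtain ⟨⟨t, htP⟩, hgen⟩ := hcyc.exists_generator
  have hzp : zpowers t = (P : Subgroup Y) := by
    apply le_antisymm
    · rw [zpowers_le]; exact htP
    · intro x hx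
      obtain ⟨i, hi⟩ := mem_zpowers_iff.mp (hgen ⟨x, hx⟩)
      rw [mem_zpowers_iff]
      refine ⟨i, ?_⟩
      have := congrArg Subtype.val hi
      simpa using this
  have hcomm : IsMulCommutative (P : Subgroup Y) := IsCyclic.isMulCommutative
  have hPC : (P : Subgroup Y) ≤ centralizer ((P : Subgroup Y) : Set Y) := by
    intro x hx
    rw [mem_centralizer_iff]
    intro y hy
    have := hcomm.is_comm.comm (⟨y, hy⟩ : (P : Subgroup Y)) ⟨x, hx⟩
    exact congrArg Subtype.val this
  have hNC : normalizer ((P : Subgroup Y) : Set Y) ≤ centralizer ((P : Subgroup Y) : Set Y) := by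
    intro g hg
    obtain ⟨e, he⟩ := orderOf_of_mem_sylow P t htP
    have hgt : g * t * g⁻¹ ∈ zpowers t := by
      rw [hzp]; exact (mem_normalizer_iff.mp hg t).mp htP
    obtain ⟨k, hk⟩ := mem_zpowers_iff.mp hgt
    -- the exponent m
    have hm : ((centralizer ((P : Subgroup Y) : Set Y)).relIndex
        (normalizer ((P : Subgroup Y) : Set Y))).Coprime p := by
      apply Nat.Coprime.coprime_dvd_left (relIndex_dvd_of_le_left _ hPC)
      apply Nat.Coprime.coprime_dvd_left (relIndex_dvd_index_of_le le_normalizer)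
      rw [Nat.coprime_comm, Nat.Prime.coprime_iff_not_dvd hp]
      exact P.not_dvd_index
    have hgm : g ^ ((centralizer ((P : Subgroup Y) : Set Y)).relIndex
        (normalizer ((P : Subgroup Y) : Set Y))) ∈ centralizer ((P : Subgroup Y) : Set Y) := by
      have h1 := (P : Subgroup Y).normalizerMonoidHom.ker.pow_index_mem (⟨g, hg⟩ :
        normalizer ((P : Subgroup Y) : Set Y))
      rw [normalizerMonoidHom_ker] at h1
      rw [mem_subgroupOf] at h1
      exact h1
    have hgt' : g * t = t * g := by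
      apply commute_of_conj_eq_zpow p t g e he k hk.symm (hcond g hg t htP k hzp hk.symm) _ hm
      exact ((mem_centralizer_iff.mp hgm) t htP).symm
    rw [mem_centralizer_iff]
    intro x hx
    rw [← hzp] at hx
    obtain ⟨i, rfl⟩ := mem_zpowers_iff.mp hx
    exact ((Commute.zpow_left (show Commute t g from hgt'.symm) i)).eq
  refine ⟨(MonoidHom.transferSylow P hNC).ker, inferInstance,
    MonoidHom.ker_transferSylow_isComplement' P hNC, ?_⟩
  intro a b
  rw [MonoidHom.mem_ker]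
  simp only [map_mul, map_inv]
  have := hcomm.is_comm.comm (MonoidHom.transferSylow P hNC a) (MonoidHom.transferSylow P hNC b)
  rw [this]; group

end Cfsg.Agent.Lib.Helper7
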