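import Mathlib
import Cfsg.Prelude.Def_Characters
import Cfsg.Prelude.Def_CharExt
import Cfsg.Prelude.Def_Blocks
import Cfsg.Agent.Lib.Lead.CharEquiv
import Cfsg.Agent.Lib.Lead.CharRing
import Cfsg.Agent.Lib.Lead.CharGallagher
import Cfsg.Agent.Lib.Lead.CharFullyRam
import Cfsg.Agent.Lib.Lead.CharArtin
import Cfsg.Agent.Lib.Lead.CharExtraspecial2
import Cfsg.Agent.Lib.Lead.CharZeros
import Cfsg.Agent.Lib.Lead.CharCenter
import Cfsg.Agent.Lib.Lead.CharCliffordCorr
import Cfsg.Agent.Lib.Helper7.DetChar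

set_option autoImplicit false

universe u

namespace Cfsg.Agent.Lib.Helper7

open Cfsg.Agent.Lib.Lead
open scoped ComplexConjugate

theorem unit_norm {G : Type u} [Group G] [Finite G] (lam : G →* ℂˣ) (g : G) :
    (lam g : ℂ) * conj (lam g : ℂ) = 1 := by
  have h1 : (lam g : ℂ) ^ (Nat.card G) = 1 := by
    rw [← Units.val_pow_eq_pow_val, ← map_pow, pow_card_eq_one', map_one, Units.val_one]
  have h2 : ‖(lam g : ℂ)‖ = 1 := Complex.norm_eq_one_of_pow_eq_one h1 Nat.card_pos.ne'
  rw [Complex.mul_conj, Complex.normSq_eq_norm_sq, h2]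
  simp

/-- twisting an irreducible character by a linear character -/
theorem isIrr_twist {G : Type u} [Group G] [Finite G] (lam : G →* ℂˣ) {χ : G → ℂ}
    (hχ : Cfsg.IsIrrCharacter G χ) : Cfsg.IsIrrCharacter G (fun g => (lam g : ℂ) * χ g) := by
  classical
  haveI := Fintype.ofFinite G
  obtain ⟨d, hd0, hd⟩ := irr_one hχ
  have hc := (detChar_twist lam (isCharacter_of_isIrrCharacter hχ) d hd).1
  apply isIrrCharacter_of_norm_one hc
  have h1 := classInner_irr_self hχ
  unfold Cfsg.classInner at h1 ⊢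
  rw [← h1]
  congr 1
  apply Finset.sum_congr rfl
  intro g _
  rw [map_mul]
  have h2 := unit_norm lam g
  calc (lam g : ℂ) * χ g * (conj (lam g : ℂ) * conj (χ g))
      = ((lam g : ℂ) * conj (lam g : ℂ)) * (χ g * conj (χ g)) := by ring
    _ = χ g * conj (χ g) := by rw [h2, one_mul]

theorem sum_eq_sum_subgroup {G : Type u} [Group G] [Fintype G] (M : Subgroup G) [Fintype M]
    (f : G → ℂ) (hf : ∀ g, g ∉ M → f g = 0) : ∑ g, f g = ∑ x : M, f x := by
  classical
  rw [← Finset.sum_filter_add_sum_filter_not Finset.univ (· ∈ M) f]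
  rw [Finset.sum_eq_zero (s := Finset.univ.filter (fun g => ¬ g ∈ M))
    (by intro g hg; exact hf g (Finset.mem_filter.1 hg).2), add_zero]
  exact Finset.sum_subtype (Finset.univ.filter (· ∈ M)) (by simp) f

/-- Gallagher: two extensions of the same irreducible character differ by a linear character
of the quotient -/
theorem gallagher_ext {G : Type u} [Group G] [Finite G] (N : Subgroup G) [hN : N.Normal]
    {χ₀ χ' : G → ℂ} (h0 : Cfsg.IsIrrCharacter G χ₀) (h' : Cfsg.IsIrrCharacter G χ')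
    (h0N : Cfsg.IsIrrCharacter N (fun n : N => χ₀ n)) (hres : ∀ n : N, χ' n = χ₀ n) :
    ∃ lam : G →* ℂˣ, (∀ x ∈ N, lam x = 1) ∧ χ' = fun g => (lam g : ℂ) * χ₀ g := by
  classical
  haveI := Fintype.ofFinite G
  haveI : Fintype N := Fintype.ofFinite N
  have h1N : Cfsg.IsIrrCharacter N (fun _ : N => (1 : ℂ)) := isIrrCharacter_one N
  have hfun : ((fun _ : N => (1 : ℂ)) * fun n : N => χ₀ n) = fun n : N => χ₀ n := by
    funext n
    simp
  have hprod : Cfsg.IsIrrCharacter N ((fun _ : N => (1 : ℂ)) * fun n : N => χ₀ n) := by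
    rw [hfun]; exact h0N
  obtain ⟨-, -, h3⟩ := gallagher_core N (fun _ : N => (1 : ℂ)) h1N (fun g n => rfl) χ₀
    (isCharacter_of_isIrrCharacter h0) hprod
  have hres' : (fun h : N => χ' h) = fun n : N => χ₀ n := funext hres
  have hne : Cfsg.classInner
      (Cfsg.indFun N ((fun _ : N => (1 : ℂ)) * fun n : N => χ₀ n)) χ' ≠ 0 := by
    rw [frobenius_reciprocity N _ χ'
      (isClassFunction_of_isCharacter (isCharacter_of_isIrrCharacter h')), hfun, hres',
      classInner_irr_self h0N]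
    exact one_ne_zero
  obtain ⟨β, hβ, hβne, hβeq⟩ := h3 χ' h' hne
  obtain ⟨d0, hd0, hd0'⟩ := irr_one h0
  have hβ1 : β 1 = 1 := by
    have h4 := congrFun hβeq 1
    have h5 : χ' 1 = χ₀ 1 := hres 1
    rw [Pi.mul_apply, h5, hd0'] at h4
    have h6 : (d0 : ℂ) ≠ 0 := by exact_mod_cast hd0
    have h7 : (β 1 - 1) * (d0 : ℂ) = 0 := by rw [sub_mul, one_mul, ← h4, sub_self]
    rcases mul_eq_zero.1 h7 with h | h
    · exact sub_eq_zero.1 h
    · exact absurd h h6
  obtain ⟨lam, hlam⟩ := exists_hom_of_linear hβ hβ1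
  refine ⟨lam, ?_, ?_⟩
  · intro x hx
    rw [frobenius_reciprocity N _ β
      (isClassFunction_of_isCharacter (isCharacter_of_isIrrCharacter hβ))] at hβne
    have hβN : Cfsg.IsIrrCharacter N (fun h : N => β h) := by
      apply isIrrCharacter_of_linear
        (isCharacter_restrict N (isCharacter_of_isIrrCharacter hβ))
      exact hβ1
    rw [classInner_irr h1N hβN] at hβne
    have h7 : (fun _ : N => (1 : ℂ)) = fun h : N => β h := by
      by_contra hcon
      rw [if_neg hcon] at hβne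
      exact hβne rfl
    have h8 := congrFun h7 ⟨x, hx⟩
    rw [hlam] at h8
    exact Units.ext h8.symm
  · rw [hβeq, hlam]
    rfl

/-- over an invariant irreducible character of a normal subgroup of prime index, every
irreducible character restricts irreducibly -/
theorem prime_index_restrict {G : Type u} [Group G] [Finite G] (p : ℕ) (hp : p.Prime)
    (M : Subgroup G) [hM : M.Normal] [Fintype M] (hidx : M.index = p) (ψ : M → ℂ)
    (hψ : Cfsg.IsIrrCharacter M ψ)
    (hinv : ∀ (g : G) (x : M), ψ ⟨g * x * g⁻¹, hM.conj_mem (x : G) x.2 g⟩ = ψ x)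
    (χ : G → ℂ) (hχ : Cfsg.IsIrrCharacter G χ)
    (hcon : Cfsg.classInner (fun n : M => χ n) ψ ≠ 0) :
    ∀ x : M, χ x = ψ x := by
  classical
  haveI := Fintype.ofFinite G
  haveI : Fintype (Cfsg.IrrCharacter G) := Fintype.ofFinite _
  haveI : Fact p.Prime := ⟨hp⟩
  obtain ⟨hd1, hd0⟩ := charDegree_irr hψ
  have hInd : Cfsg.IsCharacter G (Cfsg.indFun M ψ) :=
    isCharacter_indFun M _ (isCharacter_of_isIrrCharacter hψ)
  have hχcl := isClassFunction_of_isCharacter (isCharacter_of_isIrrCharacter hχ)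
  obtain ⟨e, he0, he, hres⟩ := restrict_eq_smul_of_invariant M χ hχ ψ hψ hcon hinv
  suffices h : e = 1 by
    intro x
    have h1 := congrFun hres x
    rw [h] at h1
    simpa using h1
  -- the cardinalities
  have hcard : Nat.card G = Nat.card M * p := by
    rw [← hidx]; exact (Subgroup.card_mul_index M).symm
  have hψψ := classInner_irr_self hψ
  have hψe : Cfsg.classInner ψ (fun n : M => χ n) = e := by
    rw [← classInner_conj_symm, he]
    simp
  -- a linear character with kernel `M`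
  have hcardQ : Nat.card (G ⧸ M) = p := by
    rw [← Subgroup.index_eq_card]; exact hidx
  haveI : Fact (Nat.card (G ⧸ M)).Prime := ⟨by rw [hcardQ]; exact hp⟩
  haveI : IsCyclic (G ⧸ M) := isCyclic_of_prime_card hcardQ
  letI : CommGroup (G ⧸ M) := IsCyclic.commGroup
  obtain ⟨g₀, hg₀⟩ : ∃ g₀ : G, g₀ ∉ M := by
    by_contra hcon
    have htop : M = ⊤ := eq_top_iff.2 (fun x _ => by
      by_contra hx; exact hcon ⟨x, hx⟩)
    rw [htop, Subgroup.index_top] at hidx
    exact hp.one_lt.ne hidx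
  have ha : (QuotientGroup.mk g₀ : G ⧸ M) ≠ 1 := by
    rw [Ne, QuotientGroup.eq_one_iff]; exact hg₀
  obtain ⟨φ, hφ⟩ := CommGroup.exists_apply_ne_one_of_hasEnoughRootsOfUnity (G ⧸ M) ℂ ha
  have hφinj : Function.Injective φ := by
    rw [← MonoidHom.ker_eq_bot_iff]
    rcases Subgroup.eq_bot_or_eq_top_of_prime_card φ.ker with h | h
    · exact h
    · exfalso
      apply hφ
      have : (QuotientGroup.mk g₀ : G ⧸ M) ∈ φ.ker := by rw [h]; trivial
      exact MonoidHom.mem_ker.1 this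
  let ω : G →* ℂˣ :=
    { toFun := fun g => φ (QuotientGroup.mk g)
      map_one' := map_one φ
      map_mul' := fun a b => by
        show φ (QuotientGroup.mk (a * b)) = _
        rw [QuotientGroup.mk_mul]
        exact map_mul φ _ _ }
  have hω1 : ∀ x ∈ M, ω x = 1 := by
    intro x hx
    show φ (QuotientGroup.mk x) = 1
    have : (QuotientGroup.mk x : G ⧸ M) = 1 := (QuotientGroup.eq_one_iff x).2 hx
    rw [this, map_one]
  have hω2 : ∀ g, g ∉ M → ∀ k : ℕ, 0 < k → k < p → (ω g : ℂ) ^ k ≠ 1 := by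
    intro g hg k hk0 hkp hk
    have h1 : (ω g) ^ k = 1 := by
      apply Units.ext
      rw [Units.val_pow_eq_pow_val, hk, Units.val_one]
    have h2 : φ ((QuotientGroup.mk g : G ⧸ M) ^ k) = 1 := by
      rw [map_pow]; exact h1
    have h3 : (QuotientGroup.mk g : G ⧸ M) ^ k = 1 := hφinj (by rw [h2, map_one])
    have h4 : (QuotientGroup.mk g : G ⧸ M) ≠ 1 := by
      rw [Ne, QuotientGroup.eq_one_iff]; exact hg
    have h5 : (QuotientGroup.mk g : G ⧸ M) ^ p = 1 := by
      rw [← hcardQ]; exact pow_card_eq_one'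
    have h6 : orderOf (QuotientGroup.mk g : G ⧸ M) = p := orderOf_eq_prime h5 h4
    have h7 := orderOf_dvd_of_pow_eq_one h3
    rw [h6] at h7
    exact absurd (Nat.le_of_dvd hk0 h7) (by omega)
  -- the twists
  let tw : ℕ → G → ℂ := fun j g => ((ω ^ j) g : ℂ) * χ g
  have htw : ∀ j, Cfsg.IsIrrCharacter G (tw j) := fun j => isIrr_twist (ω ^ j) hχ
  have htwval : ∀ j g, tw j g = (ω g : ℂ) ^ j * χ g := by
    intro j g
    show ((ω ^ j) g : ℂ) * χ g = _
    rw [MonoidHom.pow_apply, Units.val_pow_eq_pow_val]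
  have htwres : ∀ j, (fun n : M => tw j n) = fun n : M => χ n := by
    intro j
    funext n
    rw [htwval, hω1 n n.2, Units.val_one, one_pow, one_mul]
  have htwinner : ∀ j, Cfsg.classInner (Cfsg.indFun M ψ) (tw j) = e := by
    intro j
    rw [frobenius_reciprocity M _ (tw j)
      (isClassFunction_of_isCharacter (isCharacter_of_isIrrCharacter (htw j))), htwres, hψe]
  by_cases hvan : ∀ g, g ∉ M → χ g = 0
  · -- `χ` vanishes off `M`: impossible
    exfalso
    have h1 := classInner_irr_self hχ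
    unfold Cfsg.classInner at h1 hψψ
    rw [sum_eq_sum_subgroup M (fun g => χ g * conj (χ g))
      (fun g hg => by show χ g * conj (χ g) = 0; rw [hvan g hg, zero_mul])] at h1
    have h2 : ∑ x : M, χ x * conj (χ x) = (e : ℂ) * (e : ℂ) * ∑ x : M, ψ x * conj (ψ x) := by
      rw [Finset.mul_sum]
      apply Finset.sum_congr rfl
      intro x _
      have h3 : χ x = (e : ℂ) * ψ x := by
        have := congrFun hres x
        simpa using this
      rw [h3, map_mul, Complex.conj_natCast]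
      ring
    rw [h2] at h1
    have hMne : (Nat.card M : ℂ) ≠ 0 := by exact_mod_cast Nat.card_pos.ne'
    have hGne : (Nat.card G : ℂ) ≠ 0 := by exact_mod_cast Nat.card_pos.ne'
    have h4 : ∑ x : M, ψ x * conj (ψ x) = (Nat.card M : ℂ) := by
      field_simp at hψψ
      exact hψψ
    rw [h4] at h1
    have h5 : (e : ℂ) * (e : ℂ) * (Nat.card M : ℂ) = (Nat.card G : ℂ) := by
      field_simp at h1
      rw [← h1]; ring
    have h6 : e * e * Nat.card M = Nat.card M * p := by
      rw [← hcard]; exact_mod_cast h5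
    have h7 : e * e = p := by
      have h8 : Nat.card M * (e * e) = Nat.card M * p := by rw [← h6]; ring
      exact Nat.eq_of_mul_eq_mul_left Nat.card_pos h8
    have h9 : e ∣ p := ⟨e, h7.symm⟩
    rcases (Nat.dvd_prime hp).1 h9 with h | h
    · rw [h] at h7; exact hp.one_lt.ne (by omega)
    · rw [h] at h7
      have := hp.one_lt
      nlinarith
  · -- `χ` does not vanish off `M`: the twists are distinct
    push Not at hvan
    obtain ⟨g₁, hg₁, hχg₁⟩ := hvan
    have hinj : ∀ i j : ℕ, i < j → j < p → tw i ≠ tw j := by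
      intro i j hij hjp heq
      have h1 := congrFun heq g₁
      rw [htwval, htwval] at h1
      have h2 : (ω g₁ : ℂ) ^ i = (ω g₁ : ℂ) ^ j := mul_right_cancel₀ hχg₁ h1
      have h3 : (ω g₁ : ℂ) ^ (j - i) = 1 := by
        have h4 : (ω g₁ : ℂ) ^ j = (ω g₁ : ℂ) ^ (j - i) * (ω g₁ : ℂ) ^ i := by
          rw [← pow_add]; congr 1; omega
        rw [h4] at h2
        have h5 : (ω g₁ : ℂ) ^ i ≠ 0 := pow_ne_zero _ (Units.ne_zero _)
        have h6 : ((ω g₁ : ℂ) ^ (j - i) - 1) * (ω g₁ : ℂ) ^ i = 0 := by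
          rw [sub_mul, one_mul, ← h2, sub_self]
        rcases mul_eq_zero.1 h6 with h | h
        · exact sub_eq_zero.1 h
        · exact absurd h h5
      exact hω2 g₁ hg₁ (j - i) (by omega) (by omega) h3
    let X : Fin p → Cfsg.IrrCharacter G := fun j => ⟨tw j.1, htw j.1⟩
    have hXinj : Function.Injective X := by
      intro a b hab
      have h1 : tw a.1 = tw b.1 := congrArg Subtype.val hab
      by_contra hne
      rcases Nat.lt_or_gt_of_ne (fun h => hne (Fin.ext h)) with h | h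
      · exact hinj a.1 b.1 h b.2 h1
      · exact hinj b.1 a.1 h a.2 h1.symm
    obtain ⟨n, hn, hn'⟩ := isCharacter_expansion hInd
    have hnX : ∀ j : Fin p, n (X j) = e := by
      intro j
      have h1 := hn' (X j)
      rw [show ((X j : Cfsg.IrrCharacter G) : G → ℂ) = tw j.1 from rfl, htwinner] at h1
      exact_mod_cast h1.symm
    have hnorm := card_mul_norm_indFun_of_invariant M ψ hψ hinv
    have hcomb : Cfsg.classInner (Cfsg.indFun M ψ) (Cfsg.indFun M ψ) =
        ((∑ χ : Cfsg.IrrCharacter G, n χ * n χ : ℕ) : ℂ) := by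
      conv_lhs => rw [hn]
      rw [classInner_comb]
      push_cast
      apply Finset.sum_congr rfl
      intro χ _
      rw [Complex.conj_natCast]
    rw [hcomb] at hnorm
    have hsum : Nat.card M * ∑ χ : Cfsg.IrrCharacter G, n χ * n χ = Nat.card M * p := by
      rw [← hcard]; exact_mod_cast hnorm
    have hsum' : ∑ χ : Cfsg.IrrCharacter G, n χ * n χ = p :=
      Nat.eq_of_mul_eq_mul_left Nat.card_pos hsum
    have hle : ∑ j : Fin p, n (X j) * n (X j) ≤ ∑ χ : Cfsg.IrrCharacter G, n χ * n χ := by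
      rw [← Finset.sum_image (s := Finset.univ) (g := X) (f := fun χ => n χ * n χ)
        (fun a _ b _ hab => hXinj hab)]
      exact Finset.sum_le_sum_of_subset (Finset.subset_univ _)
    have hle' : p * (e * e) ≤ p := by
      have h1 : ∑ j : Fin p, n (X j) * n (X j) = p * (e * e) := by
        rw [Finset.sum_congr rfl (fun j _ => by rw [hnX j])]
        simp
      rw [← h1]
      exact le_trans hle (le_of_eq hsum')
    have hee : e * e ≤ 1 := by
      by_contra hcon
      have h2 : 2 ≤ e * e := by omega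
      have := hp.pos
      nlinarith
    have : e ≤ 1 := by
      by_contra hcon
      have h2 : 2 ≤ e := by omega
      nlinarith
    omega

/-- an invariant irreducible character of a normal subgroup of prime index extends -/
theorem ext_prime_index {G : Type u} [Group G] [Finite G] (p : ℕ) (hp : p.Prime)
    (M : Subgroup G) [hM : M.Normal] (hidx : M.index = p) (ψ : M → ℂ)
    (hψ : Cfsg.IsIrrCharacter M ψ)
    (hinv : ∀ (g : G) (x : M), ψ ⟨g * x * g⁻¹, hM.conj_mem (x : G) x.2 g⟩ = ψ x) :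
    ∃ χ : G → ℂ, Cfsg.IsIrrCharacter G χ ∧ ∀ x : M, χ x = ψ x := by
  classical
  haveI := Fintype.ofFinite G
  haveI : Fintype M := Fintype.ofFinite M
  obtain ⟨hd1, hd0⟩ := charDegree_irr hψ
  have hInd : Cfsg.IsCharacter G (Cfsg.indFun M ψ) :=
    isCharacter_indFun M _ (isCharacter_of_isIrrCharacter hψ)
  have hInd1 : Cfsg.indFun M ψ 1 ≠ 0 := by
    rw [indFun_one, hd1]
    have hi : M.index ≠ 0 := Subgroup.index_ne_zero_of_finite
    exact mul_ne_zero (by exact_mod_cast hi) (by exact_mod_cast hd0)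
  obtain ⟨χ, hχ, hne⟩ := exists_constituent hInd hInd1
  have hχcl := isClassFunction_of_isCharacter (isCharacter_of_isIrrCharacter hχ)
  rw [frobenius_reciprocity M _ χ hχcl] at hne
  have hcon : Cfsg.classInner (fun n : M => χ n) ψ ≠ 0 := by
    rw [← classInner_conj_symm]
    exact (map_ne_zero _).mpr hne
  exact ⟨χ, hχ, prime_index_restrict p hp M hidx ψ hψ hinv χ hχ hcon⟩

/-- a character whose restriction to a subgroup is irreducible is irreducible -/
theorem irr_of_restrict_irr {G : Type u} [Group G] [Finite G] (H : Subgroup G) {φ : G → ℂ}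
    (hφ : Cfsg.IsCharacter G φ) (hres : Cfsg.IsIrrCharacter H (fun h : H => φ h)) :
    Cfsg.IsIrrCharacter G φ := by
  classical
  haveI := Fintype.ofFinite G
  haveI : Fintype H := Fintype.ofFinite H
  haveI : Fintype (Cfsg.IrrCharacter G) := Fintype.ofFinite _
  obtain ⟨d, hd0, hd⟩ := irr_one hres
  have hφ1 : φ 1 = d := hd
  have hφ1ne : φ 1 ≠ 0 := by rw [hφ1]; exact_mod_cast hd0
  obtain ⟨ψ₁, hψ₁, hne1⟩ := exists_constituent hφ hφ1ne
  obtain ⟨d1, hd10, hd1⟩ := irr_one hψ₁
  have hψ₁H : Cfsg.IsCharacter H (fun h : H => ψ₁ h) :=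
    isCharacter_restrict H (isCharacter_of_isIrrCharacter hψ₁)
  have hψ₁H1' : (fun h : H => ψ₁ h) 1 = d1 := hd1
  have hψ₁H1 : (fun h : H => ψ₁ h) 1 ≠ 0 := by
    rw [hψ₁H1']; exact_mod_cast hd10
  obtain ⟨ξ, hξ, hne2⟩ := exists_constituent hψ₁H hψ₁H1
  obtain ⟨n, hn, hn'⟩ := isCharacter_expansion hφ
  have hkex : ∀ χ : Cfsg.IrrCharacter G, ∃ k : ℕ,
      Cfsg.classInner (fun h : H => (χ : G → ℂ) h) ξ = k :=
    fun χ => classInner_char_irr_nat
      (isCharacter_restrict H (isCharacter_of_isIrrCharacter χ.2)) hξ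
  choose k hk using hkex
  have hexp : Cfsg.classInner (fun h : H => φ h) ξ =
      ((∑ χ : Cfsg.IrrCharacter G, n χ * k χ : ℕ) : ℂ) := by
    have h1 : (fun h : H => φ h) =
        ∑ χ : Cfsg.IrrCharacter G, (n χ : ℂ) • (fun h : H => (χ : G → ℂ) h) := by
      funext h
      conv_lhs => rw [hn]
      simp [Finset.sum_apply]
    rw [h1, classInner_sum_left]
    push_cast
    apply Finset.sum_congr rfl
    intro χ _
    rw [classInner_smul_left, hk]
  have hn1 : n ⟨ψ₁, hψ₁⟩ ≠ 0 := by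
    intro h0
    have h2 := hn' ⟨ψ₁, hψ₁⟩
    rw [h0] at h2
    exact hne1 (by simpa using h2)
  have hk1 : k ⟨ψ₁, hψ₁⟩ ≠ 0 := by
    intro h0
    have h2 := hk ⟨ψ₁, hψ₁⟩
    rw [h0] at h2
    exact hne2 (by simpa using h2)
  have hpos : 0 < ∑ χ : Cfsg.IrrCharacter G, n χ * k χ := by
    have h2 := Finset.single_le_sum (f := fun χ : Cfsg.IrrCharacter G => n χ * k χ)
      (fun _ _ => Nat.zero_le _) (Finset.mem_univ ⟨ψ₁, hψ₁⟩)
    have h3 : 0 < n ⟨ψ₁, hψ₁⟩ * k ⟨ψ₁, hψ₁⟩ :=
      Nat.mul_pos (Nat.pos_of_ne_zero hn1) (Nat.pos_of_ne_zero hk1)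
    exact lt_of_lt_of_le h3 h2
  have hne3 : Cfsg.classInner (fun h : H => φ h) ξ ≠ 0 := by
    rw [hexp]; exact_mod_cast hpos.ne'
  rw [classInner_irr hres hξ] at hne3
  have hφξ : (fun h : H => φ h) = ξ := by
    by_contra hcon
    rw [if_neg hcon] at hne3
    exact hne3 rfl
  have hξ1 : ξ 1 = d := by rw [← hφξ]; exact hd
  have hle1 : d ≤ d1 := degree_le_of_constituent hψ₁H hξ hne2 d d1 hξ1 hψ₁H1'
  have hle2 : d1 ≤ d := degree_le_of_constituent hφ hψ₁ hne1 d1 d hd1 hφ1
  have hdd : d1 = d := le_antisymm hle2 hle1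
  have hfin : φ = ψ₁ := eq_of_constituent_of_degree_eq hφ hψ₁ hne1 (by rw [hφ1, hd1, hdd])
  rw [hfin]; exact hψ₁

/-- the canonical extension across a normal subgroup of index `p` -/
theorem canon_step {G : Type u} [Group G] [Finite G] (p : ℕ) (hp : p.Prime) (M : Subgroup G)
    [hM : M.Normal] (hidx : M.index = p) (ψ : M → ℂ) (hψ : Cfsg.IsIrrCharacter M ψ)
    (hinv : ∀ (g : G) (x : M), ψ ⟨g * x * g⁻¹, hM.conj_mem (x : G) x.2 g⟩ = ψ x)
    (hdeg : ¬ p ∣ Cfsg.charDegree ψ) (m : ℕ) (hm : m.Coprime p)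
    (hdet : ∀ x : M, Cfsg.detChar ψ x ^ m = 1) :
    ∃ χ : G → ℂ, (Cfsg.IsIrrCharacter G χ ∧ (∀ x : M, χ x = ψ x) ∧
        ∀ g, Cfsg.detChar χ g ^ m = 1) ∧
      ∀ χ' : G → ℂ, Cfsg.IsIrrCharacter G χ' → (∀ x : M, χ' x = ψ x) →
        (∀ g, Cfsg.detChar χ' g ^ m = 1) → χ' = χ := by
  classical
  obtain ⟨χ₀, hχ₀, hχ₀M⟩ := ext_prime_index p hp M hidx ψ hψ hinv
  obtain ⟨hd1, hd0⟩ := charDegree_irr hψ
  obtain ⟨d, hd⟩ : ∃ d, d = Cfsg.charDegree ψ := ⟨_, rfl⟩
  rw [← hd] at hd1 hd0 hdeg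
  have hχ₀1 : χ₀ 1 = d := by rw [← hd1]; exact hχ₀M 1
  have hχ₀c := isCharacter_of_isIrrCharacter hχ₀
  obtain ⟨δ, hδ⟩ := exists_detHom hχ₀c
  have hresfun : (fun n : M => χ₀ n) = ψ := funext hχ₀M
  have hδM : ∀ x ∈ M, (δ x) ^ m = 1 := by
    intro x hx
    apply Units.ext
    rw [Units.val_pow_eq_pow_val, ← hδ, Units.val_one]
    have h1 := detChar_restrict M hχ₀c ⟨x, hx⟩
    rw [hresfun] at h1
    have h2 := hdet ⟨x, hx⟩
    rw [h1] at h2
    exact h2
  have hpow : ∀ g : G, g ^ p ∈ M := by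
    intro g; rw [← hidx]; exact Subgroup.pow_index_mem M g
  have hcop : (d * m).Coprime p :=
    Nat.coprime_mul_iff_left.2 ⟨((Nat.Prime.coprime_iff_not_dvd hp).2 hdeg).symm, hm⟩
  obtain ⟨u, -, hu⟩ := Nat.exists_mul_mod_eq_one_of_coprime hcop hp.one_lt
  have hu' : u * (d * m) % p = 1 := by rw [mul_comm]; exact hu
  have hz : ∀ g : G, ((δ g) ^ m) ^ p = 1 := by
    intro g
    rw [← pow_mul, mul_comm, pow_mul, ← map_pow]
    exact hδM _ (hpow g)
  let lam : G →* ℂˣ := ((δ ^ m)⁻¹) ^ u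
  have hlam : ∀ g, lam g = (((δ g) ^ m)⁻¹) ^ u := by
    intro g
    show (((δ ^ m)⁻¹) ^ u) g = _
    rw [MonoidHom.pow_apply, MonoidHom.inv_apply, MonoidHom.pow_apply]
  have hlamM : ∀ x ∈ M, lam x = 1 := by
    intro x hx; rw [hlam, hδM x hx, inv_one, one_pow]
  have hkey : ∀ g, (lam g) ^ (d * m) * (δ g) ^ m = 1 := by
    intro g
    obtain ⟨z, hzdef⟩ : ∃ z, z = (δ g) ^ m := ⟨_, rfl⟩
    have hz' : z ^ p = 1 := by rw [hzdef]; exact hz g
    rw [hlam, ← hzdef, ← pow_mul, inv_pow, pow_eq_pow_mod (u * (d * m)) hz', hu', pow_one,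
      inv_mul_cancel]
  let χ : G → ℂ := fun g => (lam g : ℂ) * χ₀ g
  have hχ : Cfsg.IsIrrCharacter G χ := isIrr_twist lam hχ₀
  have hχM : ∀ x : M, χ x = ψ x := by
    intro x
    show (lam x : ℂ) * χ₀ x = ψ x
    rw [hlamM x x.2, Units.val_one, one_mul, hχ₀M]
  have hχdet : ∀ g, Cfsg.detChar χ g ^ m = 1 := by
    intro g
    have h1 := (detChar_twist lam hχ₀c d hχ₀1).2
    have h2 : Cfsg.detChar χ g = (lam g : ℂ) ^ d * Cfsg.detChar χ₀ g := congrFun h1 g
    rw [h2, hδ, mul_pow, ← pow_mul]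
    have h3 := congrArg Units.val (hkey g)
    rw [Units.val_mul, Units.val_pow_eq_pow_val, Units.val_pow_eq_pow_val, Units.val_one] at h3
    exact h3
  refine ⟨χ, ⟨hχ, hχM, hχdet⟩, ?_⟩
  intro χ' hχ' hχ'M hχ'det
  have hχN : Cfsg.IsIrrCharacter M (fun n : M => χ n) := by
    rw [show (fun n : M => χ n) = ψ from funext hχM]; exact hψ
  obtain ⟨lam', hlam'M, hlam'eq⟩ := gallagher_ext M hχ hχ' hχN
    (fun n => by rw [hχ'M, hχM])
  have hχ1 : χ 1 = d := by rw [← hd1]; exact hχM 1
  have h1 := (detChar_twist lam' (isCharacter_of_isIrrCharacter hχ) d hχ1).2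
  have hone : ∀ g, lam' g = 1 := by
    intro g
    have h2 : Cfsg.detChar χ' g = (lam' g : ℂ) ^ d * Cfsg.detChar χ g := by
      rw [hlam'eq]; exact congrFun h1 g
    have h3 := hχ'det g
    rw [h2, mul_pow, hχdet g, mul_one, ← pow_mul] at h3
    have h4 : (lam' g) ^ (d * m) = 1 := by
      apply Units.ext; rw [Units.val_pow_eq_pow_val, h3, Units.val_one]
    have h5 : (lam' g) ^ p = 1 := by
      rw [← map_pow]; exact hlam'M _ (hpow g)
    have h6 : (lam' g) ^ (Nat.gcd (d * m) p) = 1 := pow_gcd_eq_one.2 ⟨h4, h5⟩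
    have h7 : Nat.gcd (d * m) p = 1 := hcop
    rw [h7, pow_one] at h6
    exact h6
  rw [hlam'eq]
  funext g
  rw [hone g, Units.val_one, one_mul]

/-- canonical extension of an invariant irreducible character of `p'`-degree across a normal
subgroup of `p`-power index: there is exactly one extension whose determinantal character has
`m`-th power one (`m` prime to `p`) -/
theorem canon_ext (p : ℕ) (hp : p.Prime) (m : ℕ) (hm : m.Coprime p) :
    ∀ (r : ℕ) (G : Type u) [Group G] [Finite G] (K : Subgroup G) [hK : K.Normal],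
      K.index = p ^ r → ∀ (θ : K → ℂ), Cfsg.IsIrrCharacter K θ →
      (∀ (g : G) (x : K), θ ⟨g * x * g⁻¹, hK.conj_mem (x : G) x.2 g⟩ = θ x) →
      ¬ p ∣ Cfsg.charDegree θ → (∀ x : K, Cfsg.detChar θ x ^ m = 1) →
      ∃ χ : G → ℂ, (Cfsg.IsIrrCharacter G χ ∧ (∀ x : K, χ x = θ x) ∧
          ∀ g, Cfsg.detChar χ g ^ m = 1) ∧
        ∀ χ' : G → ℂ, Cfsg.IsIrrCharacter G χ' → (∀ x : K, χ' x = θ x) →
          (∀ g, Cfsg.detChar χ' g ^ m = 1) → χ' = χ := by
  intro r
  induction r with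
  | zero =>
    intro G _ _ K hK hidx θ hθ hinv hdeg hdet
    have hmem : ∀ g : G, g ∈ K := by
      have htop : K = ⊤ := by rw [pow_zero] at hidx; exact Subgroup.index_eq_one.1 hidx
      intro g; rw [htop]; trivial
    let f : G →* K :=
      { toFun := fun g => ⟨g, hmem g⟩, map_one' := rfl, map_mul' := fun _ _ => rfl }
    have hf : Function.Surjective f := fun x => ⟨x, Subtype.ext rfl⟩
    refine ⟨θ ∘ f, ⟨isIrrCharacter_comp_surj f hf hθ, fun x => ?_, fun g => ?_⟩, ?_⟩
    · show θ (f x) = θ x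
      congr 1
    · rw [detChar_comp f (isCharacter_of_isIrrCharacter hθ)]
      exact hdet (f g)
    · intro χ' _ hχ' _
      funext g
      exact hχ' (f g)
  | succ r ih =>
    intro G _ _ K hK hidx θ hθ hinv hdeg hdet
    haveI : Fact p.Prime := ⟨hp⟩
    obtain ⟨M, hMn, hKM, hMidx⟩ : ∃ M : Subgroup G, M.Normal ∧ K ≤ M ∧ M.index = p := by
      have hcardQ : Nat.card (G ⧸ K) = p ^ (r + 1) := by
        rw [← Subgroup.index_eq_card]; exact hidx
      obtain ⟨H, hH⟩ := Sylow.exists_subgroup_card_pow_prime p (n := r) (G := G ⧸ K)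
        (by rw [hcardQ]; exact pow_dvd_pow p (Nat.le_succ r))
      have hHidx : H.index = p := by
        have h1 := Subgroup.card_mul_index H
        rw [hH, hcardQ, pow_succ] at h1
        exact Nat.eq_of_mul_eq_mul_left (pow_pos hp.pos r) h1
      have hHn : H.Normal := by
        apply Subgroup.normal_of_index_eq_minFac_card
        rw [hHidx, hcardQ, Nat.pow_minFac (Nat.succ_ne_zero r), Nat.Prime.minFac_eq hp]
      refine ⟨H.comap (QuotientGroup.mk' K), hHn.comap _, ?_, ?_⟩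
      · intro x hx
        rw [Subgroup.mem_comap]
        have h2 : (QuotientGroup.mk' K) x = 1 := (QuotientGroup.eq_one_iff x).2 hx
        rw [h2]; exact H.one_mem
      · rw [Subgroup.index_comap_of_surjective H (QuotientGroup.mk'_surjective K)]
        exact hHidx
    haveI := hMn
    have hrel : (K.subgroupOf M).index = p ^ r := by
      have h1 := Subgroup.relIndex_mul_index hKM
      rw [hidx, hMidx, pow_succ] at h1
      exact Nat.eq_of_mul_eq_mul_right hp.pos h1
    let e : K.subgroupOf M →* K := (Subgroup.subgroupOfEquivOfLe hKM).toMonoidHom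
    have hesurj : Function.Surjective e := (Subgroup.subgroupOfEquivOfLe hKM).surjective
    have hθ' : Cfsg.IsIrrCharacter (K.subgroupOf M) (θ ∘ e) :=
      isIrrCharacter_comp_surj e hesurj hθ
    have hθ'inv : ∀ (g : M) (x : K.subgroupOf M),
        (θ ∘ e) ⟨g * x * g⁻¹,
          (inferInstance : (K.subgroupOf M).Normal).conj_mem (x : M) x.2 g⟩ = (θ ∘ e) x := by
      intro g x
      show θ (e ⟨g * x * g⁻¹, _⟩) = θ (e x)
      rw [← hinv (g : G) (e x)]
      congr 1
    have hθ'deg : ¬ p ∣ Cfsg.charDegree (θ ∘ e) := by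
      have h1 : Cfsg.charDegree (θ ∘ e) = Cfsg.charDegree θ := by
        unfold Cfsg.charDegree
        show ⌊(θ (e 1)).re⌋₊ = _
        rw [map_one]
      rw [h1]; exact hdeg
    have hθ'det : ∀ x : K.subgroupOf M, Cfsg.detChar (θ ∘ e) x ^ m = 1 := by
      intro x
      rw [detChar_comp e (isCharacter_of_isIrrCharacter hθ)]
      exact hdet (e x)
    obtain ⟨ψ, ⟨hψ, hψK, hψdet⟩, hψuniq⟩ :=
      ih M (K.subgroupOf M) hrel (θ ∘ e) hθ' hθ'inv hθ'deg hθ'det
    have hψinv : ∀ (g : G) (x : M),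
        ψ ⟨g * x * g⁻¹, hMn.conj_mem (x : G) x.2 g⟩ = ψ x := by
      intro g x
      have h1 : ψ ∘ conjHom M g = ψ := by
        apply hψuniq
        · exact isIrrCharacter_conjHom M g hψ
        · intro y
          have hmem : conjHom M g (y : M) ∈ K.subgroupOf M := by
            rw [Subgroup.mem_subgroupOf]
            exact hK.conj_mem _ (Subgroup.mem_subgroupOf.1 y.2) g
          have h2 := hψK ⟨conjHom M g (y : M), hmem⟩
          show ψ (conjHom M g (y : M)) = θ (e y)
          rw [h2]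
          show θ (e ⟨conjHom M g (y : M), hmem⟩) = θ (e y)
          rw [← hinv g (e y)]
          congr 1
        · intro x
          rw [detChar_comp (conjHom M g) (isCharacter_of_isIrrCharacter hψ)]
          exact hψdet _
      exact congrFun h1 x
    have hψdeg : ¬ p ∣ Cfsg.charDegree ψ := by
      have h0 : Cfsg.charDegree ψ = Cfsg.charDegree θ := by
        unfold Cfsg.charDegree
        have h1 : ψ 1 = θ 1 := by
          have h2 := hψK 1
          have h3 : (θ ∘ e) 1 = θ 1 := by show θ (e 1) = θ 1; rw [map_one]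
          rw [h3] at h2
          exact h2
        rw [h1]
      rw [h0]; exact hdeg
    obtain ⟨χ, ⟨hχ, hχM, hχdet⟩, hχuniq⟩ :=
      canon_step p hp M hMidx ψ hψ hψinv hψdeg m hm hψdet
    have hext : ∀ (φ : G → ℂ), (∀ x : M, φ x = ψ x) → ∀ x : K, φ x = θ x := by
      intro φ hφ x
      have h1 := hφ ⟨x, hKM x.2⟩
      have h2 := hψK ⟨⟨x, hKM x.2⟩, Subgroup.mem_subgroupOf.2 x.2⟩
      have h3 : φ (x : G) = ψ ⟨x, hKM x.2⟩ := h1
      rw [h3]
      have h4 : ψ ⟨x, hKM x.2⟩ = θ (e ⟨⟨x, hKM x.2⟩, Subgroup.mem_subgroupOf.2 x.2⟩) := h2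
      rw [h4]
      congr 1
    refine ⟨χ, ⟨hχ, hext χ hχM, hχdet⟩, ?_⟩
    intro χ' hχ' hχ'K hχ'det
    have hχ'c := isCharacter_of_isIrrCharacter hχ'
    have hres : (fun y : M => χ' y) = ψ := by
      apply hψuniq
      · apply irr_of_restrict_irr (K.subgroupOf M) (isCharacter_restrict M hχ'c)
        have h1 : (fun h : K.subgroupOf M => (fun y : M => χ' y) h) = θ ∘ e := by
          funext h
          show χ' ((h : M) : G) = θ (e h)
          exact hχ'K (e h)
        rw [h1]; exact hθ'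
      · intro y
        show χ' ((y : M) : G) = θ (e y)
        exact hχ'K (e y)
      · intro x
        rw [detChar_restrict M hχ'c x]
        exact hχ'det _
    exact hχuniq χ' hχ' (fun x => congrFun hres x) hχ'det

end Cfsg.Agent.Lib.Helper7
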