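import Mathlib
import Cfsg.Prelude.Def_Characters
import Cfsg.Prelude.Def_CharExt
import Cfsg.Prelude.Def_Blocks
import Cfsg.Prelude.Def_Transfer
import Cfsg.Agent.Lib.Lead.PResidual
import Cfsg.Agent.Lib.Lead.CharIto
import Cfsg.Agent.Lib.Lead.CharQuot
import Cfsg.Agent.Lib.Helper7.CharExt

set_option autoImplicit false

universe u

namespace Cfsg.Agent.Lib.Helper7

open Cfsg.Agent.Lib.Lead
open scoped ComplexConjugate Pointwise

/-- weighted fixed point congruence for a `p`-group action -/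
theorem sum_modEq_fixed {P X : Type*} [Group P] [Fintype X] [MulAction P X] (p : ℕ)
    [Fact p.Prime] (hP : IsPGroup p P) (f : X → ℕ) (hf : ∀ (g : P) (x : X), f (g • x) = f x)
    (s : Finset X) (hs : ∀ x, x ∈ s ↔ ∀ g : P, g • x = x) :
    ∑ x, f x ≡ ∑ x ∈ s, f x [MOD p] := by
  classical
  let Y := {y : X × ℕ // y.2 < f y.1}
  letI : MulAction P Y :=
    { smul := fun g y => ⟨(g • y.1.1, y.1.2), by rw [hf]; exact y.2⟩
      one_smul := fun y => Subtype.ext (Prod.ext (one_smul P y.1.1) rfl)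
      mul_smul := fun g h y => Subtype.ext (Prod.ext (mul_smul g h y.1.1) rfl) }
  let eY : Y ≃ Σ x : X, Fin (f x) :=
    { toFun := fun y => ⟨y.1.1, ⟨y.1.2, y.2⟩⟩
      invFun := fun t => ⟨(t.1, t.2.1), t.2.2⟩
      left_inv := fun y => rfl
      right_inv := fun t => rfl }
  haveI : Finite Y := Finite.of_equiv _ eY.symm
  have h1 := hP.card_modEq_card_fixedPoints Y
  have hcY : Nat.card Y = ∑ x, f x := by
    rw [Nat.card_congr eY, Nat.card_sigma]
    simp
  let eF : MulAction.fixedPoints P Y ≃ Σ x : ↥s, Fin (f x.1) :=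
    { toFun := fun y => ⟨⟨y.1.1.1, (hs _).2 (fun g => by
          have h2 := congrArg (fun z : Y => z.1.1) (y.2 g)
          exact h2)⟩, ⟨y.1.1.2, y.1.2⟩⟩
      invFun := fun t => ⟨⟨(t.1.1, t.2.1), t.2.2⟩, fun g =>
          Subtype.ext (Prod.ext ((hs _).1 t.1.2 g) rfl)⟩
      left_inv := fun y => rfl
      right_inv := fun t => rfl }
  have hcF : Nat.card (MulAction.fixedPoints P Y) = ∑ x ∈ s, f x := by
    rw [Nat.card_congr eF, Nat.card_sigma]
    simp only [Nat.card_fin]
    exact Finset.sum_coe_sort s f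
  rw [hcY, hcF] at h1
  exact h1

theorem exists_normal_index_p {G : Type u} [Group G] [Finite G] (p : ℕ) (hp : p.Prime) (r : ℕ)
    (K : Subgroup G) [hK : K.Normal] (hidx : K.index = p ^ (r + 1)) :
    ∃ M : Subgroup G, M.Normal ∧ K ≤ M ∧ M.index = p ∧ (K.subgroupOf M).index = p ^ r := by
  haveI : Fact p.Prime := ⟨hp⟩
  have hcardQ : Nat.card (G ⧸ K) = p ^ (r + 1) := by
    rw [← Subgroup.index_eq_card]; exact hidx
  obtain ⟨H, hH⟩ := Sylow.exists_subgroup_card_pow_prime p (n := r) (G := G ⧸ K)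
    (by rw [hcardQ]; exact pow_dvd_pow p (Nat.le_succ r))
  have hHidx : H.index = p := by
    have h1 := Subgroup.card_mul_index H
    rw [hH, hcardQ, pow_succ] at h1
    exact Nat.eq_of_mul_eq_mul_left (pow_pos hp.pos r) h1
  have hHn : H.Normal := by
    apply Subgroup.normal_of_index_eq_minFac_card
    rw [hHidx, hcardQ, Nat.pow_minFac (Nat.succ_ne_zero r), Nat.Prime.minFac_eq hp]
  have hKM : K ≤ H.comap (QuotientGroup.mk' K) := by
    intro x hx
    rw [Subgroup.mem_comap]
    have h2 : (QuotientGroup.mk' K) x = 1 := (QuotientGroup.eq_one_iff x).2 hx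
    rw [h2]; exact H.one_mem
  have hMidx : (H.comap (QuotientGroup.mk' K)).index = p := by
    rw [Subgroup.index_comap_of_surjective H (QuotientGroup.mk'_surjective K)]
    exact hHidx
  refine ⟨H.comap (QuotientGroup.mk' K), hHn.comap _, hKM, hMidx, ?_⟩
  have h1 := Subgroup.relIndex_mul_index hKM
  rw [hidx, hMidx, pow_succ] at h1
  exact Nat.eq_of_mul_eq_mul_right hp.pos h1

/-- an irreducible character of degree prime to `p` restricts irreducibly to a normal subgroup
of index `p` -/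
theorem restrict_irr_prime_index {G : Type u} [Group G] [Finite G] (p : ℕ) (hp : p.Prime)
    (M : Subgroup G) [hM : M.Normal] (hidx : M.index = p) (χ : G → ℂ)
    (hχ : Cfsg.IsIrrCharacter G χ) (hdeg : ¬ p ∣ Cfsg.charDegree χ) :
    Cfsg.IsIrrCharacter M (fun x : M => χ x) := by
  classical
  haveI := Fintype.ofFinite G
  haveI : Fintype M := Fintype.ofFinite M
  obtain ⟨hχ1, hχ0⟩ := charDegree_irr hχ
  have hχc := isCharacter_of_isIrrCharacter hχ
  have hres : Cfsg.IsCharacter M (fun x : M => χ x) := isCharacter_restrict M hχc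
  have hres1' : (fun x : M => χ x) 1 = (Cfsg.charDegree χ : ℂ) := hχ1
  have hres1 : (fun x : M => χ x) 1 ≠ 0 := by
    rw [hres1']; exact_mod_cast hχ0
  obtain ⟨ψ, hψ, hcon⟩ := exists_constituent hres hres1
  by_cases hinv : ∀ (g : G) (x : M), ψ ⟨g * x * g⁻¹, hM.conj_mem (x : G) x.2 g⟩ = ψ x
  · have h := prime_index_restrict p hp M hidx ψ hψ hinv χ hχ hcon
    rw [show (fun x : M => χ x) = ψ from funext h]; exact hψ
  · exfalso
    apply hdeg
    obtain ⟨e, he⟩ := classInner_char_char_nat hres (isCharacter_of_isIrrCharacter hψ)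
    have hdegf := clifford_degree M (stabChar M ψ) ψ hψ (fun g => by
        rw [mem_stabChar]
        constructor
        · intro h n; exact congrFun h n
        · intro h; funext n; exact h n) χ hχ hcon e (Cfsg.charDegree ψ) he
        (charDegree_irr hψ).1
    rw [hχ1] at hdegf
    have hnat : Cfsg.charDegree χ = e * (stabChar M ψ).index * Cfsg.charDegree ψ := by
      exact_mod_cast hdegf
    have hMT : M ≤ stabChar M ψ := by
      intro g hg
      rw [mem_stabChar]
      funext n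
      have hcl := isClassFunction_of_isCharacter (isCharacter_of_isIrrCharacter hψ)
      have e1 : conjHom M g n = ⟨g, hg⟩ * n * ⟨g, hg⟩⁻¹ := Subtype.ext rfl
      show ψ (conjHom M g n) = ψ n
      rw [e1]
      exact hcl n ⟨g, hg⟩
    have hdvd : (stabChar M ψ).index ∣ p := by
      rw [← hidx]; exact Subgroup.index_dvd_of_le hMT
    rcases (Nat.dvd_prime hp).1 hdvd with h1 | h1
    · exfalso
      apply hinv
      intro g x
      have h2 : g ∈ stabChar M ψ := by rw [Subgroup.index_eq_one.1 h1]; trivial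
      rw [mem_stabChar] at h2
      exact congrFun h2 x
    · rw [hnat, h1]
      exact Dvd.dvd.mul_right (Dvd.dvd.mul_left (dvd_refl p) e) _

/-- an irreducible character of degree prime to `p` restricts irreducibly to a normal subgroup
of `p`-power index -/
theorem restrict_irr_ppow_index (p : ℕ) (hp : p.Prime) :
    ∀ (r : ℕ) (G : Type u) [Group G] [Finite G] (K : Subgroup G) [hK : K.Normal],
      K.index = p ^ r → ∀ (χ : G → ℂ), Cfsg.IsIrrCharacter G χ → ¬ p ∣ Cfsg.charDegree χ →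
      Cfsg.IsIrrCharacter K (fun x : K => χ x) := by
  intro r
  induction r with
  | zero =>
    intro G _ _ K hK hidx χ hχ hdeg
    have htop : K = ⊤ := by rw [pow_zero] at hidx; exact Subgroup.index_eq_one.1 hidx
    have hsurj : Function.Surjective K.subtype := by
      intro g; exact ⟨⟨g, by rw [htop]; trivial⟩, rfl⟩
    exact isIrrCharacter_comp_surj K.subtype hsurj hχ
  | succ r ih =>
    intro G _ _ K hK hidx χ hχ hdeg
    obtain ⟨M, hMn, hKM, hMidx, hrel⟩ := exists_normal_index_p p hp r K hidx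
    haveI := hMn
    have hχM := restrict_irr_prime_index p hp M hMidx χ hχ hdeg
    have hdegM : ¬ p ∣ Cfsg.charDegree (fun x : M => χ x) := by
      have h0 : Cfsg.charDegree (fun x : M => χ x) = Cfsg.charDegree χ := rfl
      rw [h0]; exact hdeg
    have h1 := ih M (K.subgroupOf M) hrel (fun x : M => χ x) hχM hdegM
    let e' : K →* K.subgroupOf M := (Subgroup.subgroupOfEquivOfLe hKM).symm.toMonoidHom
    have hs : Function.Surjective e' := (Subgroup.subgroupOfEquivOfLe hKM).symm.surjective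
    have h2 := isIrrCharacter_comp_surj e' hs h1
    have h3 : ((fun y : K.subgroupOf M => (fun x : M => χ x) y) ∘ e') = fun x : K => χ x := by
      funext x
      rfl
    rw [h3] at h2
    exact h2

theorem pow_ordCompl_eq_one {G : Type u} [Group G] [Finite G] (p : ℕ) (x : G)
    (hx : Nat.Coprime (orderOf x) p) : x ^ (ordCompl[p] (Nat.card G)) = 1 := by
  apply orderOf_dvd_iff_pow_eq_one.1
  have h1 : orderOf x ∣ Nat.card G := orderOf_dvd_natCard x
  rw [← Nat.ordProj_mul_ordCompl_eq_self (Nat.card G) p] at h1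
  exact Nat.Coprime.dvd_of_dvd_mul_left (Nat.Coprime.pow_right _ hx) h1

/-- homomorphisms from `O^p(G)` to `ℂˣ` have order prime to `p` -/
theorem hom_pow_pResidual {G : Type u} [Group G] [Finite G] (p : ℕ)
    (f : (Cfsg.pResidual p G) →* ℂˣ) (k : Cfsg.pResidual p G) :
    f k ^ (ordCompl[p] (Nat.card G)) = 1 := by
  obtain ⟨k, hk⟩ := k
  refine Subgroup.closure_induction
    (p := fun x hx => f ⟨x, hx⟩ ^ (ordCompl[p] (Nat.card G)) = 1) ?_ ?_ ?_ ?_ hk
  · intro y hy
    rw [← map_pow]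
    have h1 : (⟨y, Subgroup.subset_closure hy⟩ : Cfsg.pResidual p G) ^
        (ordCompl[p] (Nat.card G)) = 1 := by
      apply Subtype.ext
      rw [Subgroup.coe_pow]
      exact pow_ordCompl_eq_one p y hy
    rw [h1, map_one]
  · show f 1 ^ _ = 1
    rw [map_one, one_pow]
  · intro a b ha hb h1 h2
    show f (⟨a, ha⟩ * ⟨b, hb⟩) ^ _ = 1
    rw [map_mul, mul_pow, h1, h2, one_mul]
  · intro a ha h1
    show f (⟨a, ha⟩⁻¹) ^ _ = 1
    rw [map_inv, inv_pow, h1, inv_one]

theorem det_pow_pResidual {G : Type u} [Group G] [Finite G] (p : ℕ)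
    {θ : Cfsg.pResidual p G → ℂ} (hθ : Cfsg.IsCharacter (Cfsg.pResidual p G) θ)
    (k : Cfsg.pResidual p G) : Cfsg.detChar θ k ^ (ordCompl[p] (Nat.card G)) = 1 := by
  obtain ⟨f, hf⟩ := exists_detHom hθ
  rw [hf, ← Units.val_pow_eq_pow_val, hom_pow_pResidual p f k, Units.val_one]

/-- the counting congruence: the order of a normal subgroup `K` supplemented by a Sylow
`p`-subgroup is congruent mod `p` to the sum of squares of the degrees of the invariant
irreducible characters of `K` -/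
theorem count_lemma {G : Type u} [Group G] [Finite G] (p : ℕ) (hp : p.Prime) (K : Subgroup G)
    [hK : K.Normal] (P : Sylow p G) (hKP : K ⊔ (P : Subgroup G) = ⊤) :
    ∃ s : Finset (Cfsg.IrrCharacter K),
      (∀ θ : Cfsg.IrrCharacter K, θ ∈ s ↔ ∀ (g : G) (x : K),
        (θ : K → ℂ) ⟨g * x * g⁻¹, hK.conj_mem (x : G) x.2 g⟩ = (θ : K → ℂ) x) ∧
      Nat.card K ≡ ∑ θ ∈ s, Cfsg.charDegree (θ : K → ℂ) ^ 2 [MOD p] := by
  classical
  haveI : Fact p.Prime := ⟨hp⟩
  haveI : Fintype K := Fintype.ofFinite K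
  haveI : Fintype (Cfsg.IrrCharacter K) := Fintype.ofFinite _
  letI : MulAction (P : Subgroup G) (Cfsg.IrrCharacter K) :=
    { smul := fun g θ => ⟨(θ : K → ℂ) ∘ conjHom K ((g : G)⁻¹), isIrrCharacter_conjHom K _ θ.2⟩
      one_smul := fun θ => Subtype.ext (funext fun k => by
        show (θ : K → ℂ) (conjHom K (((1 : (P : Subgroup G)) : G)⁻¹) k) = (θ : K → ℂ) k
        rw [Subgroup.coe_one, inv_one, conjHom_one])
      mul_smul := fun g h θ => Subtype.ext (funext fun k => by
        show (θ : K → ℂ) (conjHom K (((g * h : (P : Subgroup G)) : G)⁻¹) k) =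
          (θ : K → ℂ) (conjHom K ((h : G)⁻¹) (conjHom K ((g : G)⁻¹) k))
        rw [conjHom_mul, Subgroup.coe_mul, mul_inv_rev]) }
  let inv : Cfsg.IrrCharacter K → Prop := fun θ => ∀ (g : G) (x : K),
    (θ : K → ℂ) ⟨g * x * g⁻¹, hK.conj_mem (x : G) x.2 g⟩ = (θ : K → ℂ) x
  let s : Finset (Cfsg.IrrCharacter K) := Finset.univ.filter inv
  have hsinv : ∀ θ, θ ∈ s ↔ inv θ := fun θ => by simp [s]
  refine ⟨s, hsinv, ?_⟩
  have hsfix : ∀ θ : Cfsg.IrrCharacter K, θ ∈ s ↔ ∀ g : (P : Subgroup G), g • θ = θ := by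
    intro θ
    rw [hsinv]
    constructor
    · intro h g
      apply Subtype.ext
      funext k
      show (θ : K → ℂ) (conjHom K ((g : G)⁻¹) k) = (θ : K → ℂ) k
      exact h (g : G)⁻¹ k
    · intro h g x
      have hg : g ∈ (↑(K ⊔ (P : Subgroup G)) : Set G) := by rw [hKP]; trivial
      rw [Subgroup.normal_mul] at hg
      obtain ⟨a, ha, b, hb, rfl⟩ := Set.mem_mul.1 hg
      have hcl := isClassFunction_of_isCharacter (isCharacter_of_isIrrCharacter θ.2)
      have h1 : (θ : K → ℂ) (conjHom K b x) = (θ : K → ℂ) x := by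
        have h2 := h ⟨b⁻¹, (P : Subgroup G).inv_mem hb⟩
        have h3 := congrFun (congrArg Subtype.val h2) x
        have h4 : (θ : K → ℂ) (conjHom K ((b⁻¹ : G)⁻¹) x) = (θ : K → ℂ) x := h3
        rw [inv_inv] at h4
        exact h4
      have h5 : (⟨a * b * x * (a * b)⁻¹, hK.conj_mem (x : G) x.2 (a * b)⟩ : K) =
          ⟨a, ha⟩ * conjHom K b x * ⟨a, ha⟩⁻¹ := by
        apply Subtype.ext
        show a * b * x * (a * b)⁻¹ = a * (b * x * b⁻¹) * a⁻¹
        group
      rw [h5, hcl, h1]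
  have hf : ∀ (g : (P : Subgroup G)) (θ : Cfsg.IrrCharacter K),
      Cfsg.charDegree ((g • θ : Cfsg.IrrCharacter K) : K → ℂ) ^ 2 =
        Cfsg.charDegree (θ : K → ℂ) ^ 2 := by
    intro g θ
    have h0 : Cfsg.charDegree ((g • θ : Cfsg.IrrCharacter K) : K → ℂ) =
        Cfsg.charDegree (θ : K → ℂ) := by
      unfold Cfsg.charDegree
      show ⌊((θ : K → ℂ) (conjHom K ((g : G)⁻¹) 1)).re⌋₊ = _
      rw [map_one]
    rw [h0]
  have h1 := sum_modEq_fixed p P.isPGroup'
    (fun θ : Cfsg.IrrCharacter K => Cfsg.charDegree (θ : K → ℂ) ^ 2) hf s hsfix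
  have h2 : ∑ θ : Cfsg.IrrCharacter K, Cfsg.charDegree (θ : K → ℂ) ^ 2 = Nat.card K :=
    sum_sq_degrees_nat (K := ↥K) (fun θ : Cfsg.IrrCharacter K => Cfsg.charDegree (θ : K → ℂ))
      (fun θ => (charDegree_irr θ.2).1)
  rw [h2] at h1
  exact h1

end Cfsg.Agent.Lib.Helper7
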