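import Mathlib
import Cfsg.Prelude.Def_Local
import Cfsg.Agent.Lib.Helper7.CyclicSylow
import Cfsg.Agent.Lib.Lead.PNilp

set_option autoImplicit false

namespace Cfsg.Agent.Lib.Helper7

open Subgroup

/-- A three-step chain `⊥ ≤ U ≤ C ≤ ⊤` with factors `p'`, `p`, `p'` shows `p`-solvability. -/
theorem isPSolvable_of_three {G : Type*} [Group G] (p : ℕ) (U C : Subgroup G) [hU : U.Normal]
    [hC : C.Normal] (hUC : U ≤ C) (h1 : (Nat.card U).Coprime p)
    (h2 : ∃ m : ℕ, U.relIndex C = p ^ m) (h3 : C.index.Coprime p) : Cfsg.IsPSolvable p G := by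
  refine ⟨3, ![⊥, U, C, ⊤], rfl, rfl, ?_, ?_, ?_⟩
  · rw [Fin.monotone_iff_le_succ]
    intro i
    fin_cases i
    · exact bot_le
    · exact hUC
    · exact le_top
  · intro i
    fin_cases i
    · exact (inferInstance : (⊥ : Subgroup G).Normal)
    · exact hU
    · exact hC
    · exact (inferInstance : (⊤ : Subgroup G).Normal)
  · intro i
    fin_cases i
    · right
      show ((⊥ : Subgroup G).relIndex U).Coprime p
      rw [Subgroup.relIndex_bot_left]; exact h1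
    · left
      exact h2
    · right
      show (C.relIndex ⊤).Coprime p
      rw [Subgroup.relIndex_top_right]; exact h3

/-- Burnside for a cyclic Sylow `p`-subgroup `P` inside a subgroup `Y ≥ P` of `G`, stated with
subgroups of `G`: a normal `p`-complement `T` of `Y` containing all commutators and all
`p'`-elements of `Y`. -/
theorem burnside_cyclic_sub {G : Type*} [Group G] [Finite G] {p : ℕ} [Fact p.Prime]
    (P : Sylow p G) (hP : IsCyclic (P : Subgroup G)) (Y : Subgroup G)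
    (hPY : (P : Subgroup G) ≤ Y)
    (hcond : ∀ g ∈ Y, ∀ t ∈ (P : Subgroup G), ∀ k : ℤ, zpowers t = (P : Subgroup G) →
      g * t * g⁻¹ = t ^ k → t ∉ zpowers (t ^ (k - 1))) :
    ∃ T : Subgroup G, T ≤ Y ∧ (∀ y ∈ Y, ∀ x ∈ T, y * x * y⁻¹ ∈ T) ∧ (Nat.card T).Coprime p ∧
      (∀ a ∈ Y, ∀ b ∈ Y, a * b * a⁻¹ * b⁻¹ ∈ T) ∧ (∀ y ∈ Y, (orderOf y).Coprime p → y ∈ T) ∧
      T.relIndex Y = Nat.card (P : Subgroup G) ∧ (∀ y ∈ T, y ∈ (P : Subgroup G) → y = 1) := by
  have hp : p.Prime := Fact.out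
  have hcyc' : IsCyclic ↥((P.subtype hPY : Sylow p ↥Y) : Subgroup ↥Y) :=
    isCyclic_of_surjective (Subgroup.subgroupOfEquivOfLe hPY).symm.toMonoidHom
      (Subgroup.subgroupOfEquivOfLe hPY).symm.surjective
  have hmemP' : ∀ x : ↥Y, x ∈ ((P.subtype hPY : Sylow p ↥Y) : Subgroup ↥Y) ↔
      (x : G) ∈ (P : Subgroup G) := fun x => Iff.rfl
  have hcond' : ∀ g ∈ normalizer (((P.subtype hPY : Sylow p ↥Y) : Subgroup ↥Y) : Set ↥Y),
      ∀ t ∈ ((P.subtype hPY : Sylow p ↥Y) : Subgroup ↥Y), ∀ k : ℤ,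
      zpowers t = ((P.subtype hPY : Sylow p ↥Y) : Subgroup ↥Y) → g * t * g⁻¹ = t ^ k →
      t ∉ zpowers (t ^ (k - 1)) := by
    intro g _ t ht k hz hk hmem
    have hz' : zpowers (t : G) = (P : Subgroup G) := by
      apply le_antisymm
      · rw [zpowers_le]; exact (hmemP' t).mp ht
      · intro x hx
        have hx' : (⟨x, hPY hx⟩ : ↥Y) ∈ zpowers t := by rw [hz, hmemP']; exact hx
        obtain ⟨i, hi⟩ := mem_zpowers_iff.mp hx'
        rw [mem_zpowers_iff]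
        refine ⟨i, ?_⟩
        have := congrArg Subtype.val hi
        simpa using this
    have hk' : (g : G) * (t : G) * (g : G)⁻¹ = (t : G) ^ k := by
      have := congrArg Subtype.val hk
      simpa using this
    apply hcond (g : G) g.2 (t : G) ((hmemP' t).mp ht) k hz' hk'
    obtain ⟨i, hi⟩ := mem_zpowers_iff.mp hmem
    rw [mem_zpowers_iff]
    refine ⟨i, ?_⟩
    have := congrArg Subtype.val hi
    simpa using this
  obtain ⟨T', hT'n, hc, hcomm⟩ := burnside_cyclic (P.subtype hPY) hcyc' hcond'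
  have hT'cop : (Nat.card T').Coprime p := by
    rw [← hc.index_eq_card]
    exact ((Nat.Prime.coprime_iff_not_dvd hp).mpr (P.subtype hPY).not_dvd_index).symm
  have hmemT : ∀ y : ↥Y, (y : G) ∈ T'.map Y.subtype ↔ y ∈ T' := by
    intro y
    constructor
    · rintro ⟨z, hz, hzy⟩
      have : z = y := Subtype.ext hzy
      rw [← this]; exact hz
    · intro hy; exact ⟨y, hy, rfl⟩
  refine ⟨T'.map Y.subtype, ?_, ?_, ?_, ?_, ?_, ?_, ?_⟩
  · rintro _ ⟨z, _, rfl⟩; exact z.2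
  · rintro y hy _ ⟨x, hx, rfl⟩
    have h1 := hT'n.conj_mem x hx ⟨y, hy⟩
    exact (hmemT (⟨y, hy⟩ * x * ⟨y, hy⟩⁻¹)).mpr h1
  · rw [← Nat.card_congr (T'.equivMapOfInjective Y.subtype Y.subtype_injective).toEquiv]
    exact hT'cop
  · intro a ha b hb
    exact (hmemT (⟨a, ha⟩ * ⟨b, hb⟩ * ⟨a, ha⟩⁻¹ * ⟨b, hb⟩⁻¹)).mpr (hcomm ⟨a, ha⟩ ⟨b, hb⟩)
  · intro y hy hcop
    apply (hmemT ⟨y, hy⟩).mpr
    apply Cfsg.Agent.Lib.Lead.mem_of_coprime_of_complement
      ((P.subtype hPY : Sylow p ↥Y) : Subgroup ↥Y) T' (P.subtype hPY).2 hc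
    rw [Subgroup.orderOf_mk]; exact hcop
  · have h1 : (T'.map Y.subtype).subgroupOf Y = T' :=
      Subgroup.comap_map_eq_self_of_injective Y.subtype_injective T'
    rw [Subgroup.relIndex, h1, hc.symm.index_eq_card]
    exact Nat.card_congr (Subgroup.subgroupOfEquivOfLe hPY).toEquiv
  · rintro _ ⟨y, hy, rfl⟩ hyP
    have h1 : y ∈ T' ⊓ ((P.subtype hPY : Sylow p ↥Y) : Subgroup ↥Y) := ⟨hy, hyP⟩
    rw [disjoint_iff.mp hc.disjoint, mem_bot] at h1
    rw [h1]; rfl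

end Cfsg.Agent.Lib.Helper7
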