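import Mathlib
import Cfsg.Prelude.Def_Characters
import Cfsg.Prelude.Def_CharExt
import Cfsg.Agent.Lib.Lead.CharEquiv
import Cfsg.Agent.Lib.Lead.CharRing

set_option autoImplicit false

universe u

namespace Cfsg.Agent.Lib.Helper7

open Cfsg.Agent.Lib.Lead

/-- the determinantal character, computed from any affording representation -/
theorem detChar_of_rep {G : Type u} [Group G] [Finite G] {n : ℕ}
    (ρ : Representation ℂ G (Fin n → ℂ)) :
    Cfsg.detChar ρ.character = fun g => LinearMap.det (ρ g) := by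
  have h : Cfsg.IsCharacter G ρ.character := ⟨n, ρ, rfl⟩
  unfold Cfsg.detChar
  rw [dif_pos h]
  funext g
  obtain ⟨e⟩ := equiv_of_char_eq (Classical.choose (Classical.choose_spec h)) ρ
    (Classical.choose_spec (Classical.choose_spec h))
  have h1 := e.isIntertwining' g
  have h2 : ρ g = (e.toLinearEquiv : _ →ₗ[ℂ] _) ∘ₗ
      (Classical.choose (Classical.choose_spec h)) g ∘ₗ (e.toLinearEquiv.symm : _ →ₗ[ℂ] _) := by
    apply LinearMap.ext
    intro v
    have h3 := congrArg (fun F : _ →ₗ[ℂ] _ => F (e.toLinearEquiv.symm v)) h1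
    simp only [LinearMap.comp_apply] at h3 ⊢
    have h4 : e.toLinearMap (e.toLinearEquiv.symm v) = v := e.toLinearEquiv.apply_symm_apply v
    rw [h4] at h3
    exact h3.symm
  rw [h2, LinearMap.det_conj]

theorem detChar_mul {G : Type u} [Group G] [Finite G] {χ : G → ℂ} (hχ : Cfsg.IsCharacter G χ)
    (a b : G) : Cfsg.detChar χ (a * b) = Cfsg.detChar χ a * Cfsg.detChar χ b := by
  obtain ⟨n, ρ, rfl⟩ := hχ
  rw [detChar_of_rep]
  show LinearMap.det (ρ (a * b)) = LinearMap.det (ρ a) * LinearMap.det (ρ b)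
  rw [map_mul, map_mul]

theorem detChar_one {G : Type u} [Group G] [Finite G] {χ : G → ℂ} (hχ : Cfsg.IsCharacter G χ) :
    Cfsg.detChar χ 1 = 1 := by
  obtain ⟨n, ρ, rfl⟩ := hχ
  rw [detChar_of_rep]
  show LinearMap.det (ρ 1) = 1
  rw [map_one, map_one]

theorem detChar_pow {G : Type u} [Group G] [Finite G] {χ : G → ℂ} (hχ : Cfsg.IsCharacter G χ)
    (a : G) (k : ℕ) : Cfsg.detChar χ (a ^ k) = Cfsg.detChar χ a ^ k := by
  induction k with
  | zero => rw [pow_zero, pow_zero, detChar_one hχ]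
  | succ k ih => rw [pow_succ, pow_succ, detChar_mul hχ, ih]

/-- the determinantal character as a homomorphism to the units -/
theorem exists_detHom {G : Type u} [Group G] [Finite G] {χ : G → ℂ}
    (hχ : Cfsg.IsCharacter G χ) : ∃ f : G →* ℂˣ, ∀ g, Cfsg.detChar χ g = (f g : ℂ) := by
  have hne : ∀ g, Cfsg.detChar χ g ≠ 0 := by
    intro g h0
    have h1 := detChar_mul hχ g g⁻¹
    rw [mul_inv_cancel, detChar_one hχ, h0, zero_mul] at h1
    exact one_ne_zero h1
  refine ⟨{ toFun := fun g => Units.mk0 (Cfsg.detChar χ g) (hne g)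
            map_one' := by ext; simp [detChar_one hχ]
            map_mul' := fun a b => by ext; simp [detChar_mul hχ] }, fun g => rfl⟩

/-- composition with a homomorphism -/
theorem detChar_comp {G H : Type u} [Group G] [Finite G] [Group H] [Finite H] (f : H →* G)
    {χ : G → ℂ} (hχ : Cfsg.IsCharacter G χ) :
    Cfsg.detChar (χ ∘ f) = Cfsg.detChar χ ∘ f := by
  obtain ⟨n, ρ, rfl⟩ := hχ
  let σ : Representation ℂ H (Fin n → ℂ) := MonoidHom.comp ρ f
  have h1 : (ρ.character ∘ f) = σ.character := rfl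
  rw [h1, detChar_of_rep, detChar_of_rep]
  rfl

/-- restriction to a subgroup -/
theorem detChar_restrict {G : Type u} [Group G] [Finite G] (N : Subgroup G)
    {χ : G → ℂ} (hχ : Cfsg.IsCharacter G χ) (x : N) :
    Cfsg.detChar (fun n : N => χ n) x = Cfsg.detChar χ x := by
  have h := detChar_comp N.subtype hχ
  exact congrFun h x

/-- twisting by a linear character -/
theorem detChar_twist {G : Type u} [Group G] [Finite G] (lam : G →* ℂˣ) {χ : G → ℂ}
    (hχ : Cfsg.IsCharacter G χ) (d : ℕ) (hd : χ 1 = d) :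
    Cfsg.IsCharacter G (fun g => (lam g : ℂ) * χ g) ∧
    Cfsg.detChar (fun g => (lam g : ℂ) * χ g) = fun g => (lam g : ℂ) ^ d * Cfsg.detChar χ g := by
  obtain ⟨n, ρ, rfl⟩ := hχ
  have hn : n = d := by
    have h1 : ρ.character 1 = (n : ℂ) := by
      show LinearMap.trace ℂ (Fin n → ℂ) (ρ 1) = n
      rw [map_one]
      show LinearMap.trace ℂ (Fin n → ℂ) LinearMap.id = n
      rw [LinearMap.trace_id, Module.finrank_fin_fun]
    rw [h1] at hd
    exact_mod_cast hd
  subst hn
  let σ : Representation ℂ G (Fin n → ℂ) :=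
    { toFun := fun g => (lam g : ℂ) • ρ g
      map_one' := by simp
      map_mul' := fun a b => by
        rw [map_mul, map_mul, Units.val_mul, smul_mul_smul_comm] }
  have hσ : σ.character = fun g => (lam g : ℂ) * ρ.character g := by
    funext g
    show LinearMap.trace ℂ (Fin n → ℂ) ((lam g : ℂ) • ρ g) = _
    rw [map_smul]
    rfl
  refine ⟨⟨n, σ, hσ⟩, ?_⟩
  rw [← hσ, detChar_of_rep, detChar_of_rep]
  funext g
  show LinearMap.det ((lam g : ℂ) • ρ g) = _
  rw [LinearMap.det_smul, Module.finrank_fin_fun]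

end Cfsg.Agent.Lib.Helper7
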