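import Mathlib
import Cfsg.Agent.Lib.Helper7.CharExt

/-!
# The group of intertwining pairs of an invariant representation

For a normal subgroup `N` of `G` and a representation `ρ` of `N`, the pairs `(g, P)` with
`P ρ(m) = ρ(g m g⁻¹) P` form a group mapping to `G`; a subgroup of it that maps isomorphically
onto `G` and contains the graph of `ρ` gives an extension of `ρ` to `G`.
-/

set_option autoImplicit false

namespace Cfsg.Agent.Lib.Helper7

open Cfsg.Agent.Lib.Lead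

universe u

/-- endomorphisms of the coordinate space -/
abbrev Endn (n : ℕ) := Module.End ℂ (Fin n → ℂ)

section liftgrp

variable {G : Type u} [Group G] (N : Subgroup G) [hN : N.Normal] {n : ℕ}
  (ρ : Representation ℂ N (Fin n → ℂ))

theorem conjHom_one' (m : N) : conjHom N (1 : G) m = m := by
  apply Subtype.ext
  show (1 : G) * m * (1 : G)⁻¹ = m
  rw [one_mul, inv_one, mul_one]

theorem conjHom_mul' (a b : G) (m : N) :
    conjHom N (a * b) m = conjHom N a (conjHom N b m) := by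
  apply Subtype.ext
  show (a * b) * m * (a * b)⁻¹ = a * (b * m * b⁻¹) * a⁻¹
  rw [mul_inv_rev]; simp only [mul_assoc]

theorem conjHom_inv_cancel' (a : G) (m : N) : conjHom N a (conjHom N a⁻¹ m) = m := by
  rw [← conjHom_mul', mul_inv_cancel, conjHom_one']

theorem conjHom_of_mem (a m : N) : conjHom N (a : G) m = a * m * a⁻¹ := by
  apply Subtype.ext
  rfl

/-- pairs `(g, P)` with `P` intertwining `ρ` with its `g`-conjugate -/
def liftGrp : Subgroup (G × (Endn n)ˣ) where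
  carrier := {x | ∀ m : N, (x.2 : Endn n) * ρ m = ρ (conjHom N x.1 m) * (x.2 : Endn n)}
  mul_mem' := by
    intro a b ha hb m
    have ha' := ha (conjHom N b.1 m)
    have hb' := hb m
    show ((a.2 * b.2 : (Endn n)ˣ) : Endn n) * ρ m =
      ρ (conjHom N (a.1 * b.1) m) * ((a.2 * b.2 : (Endn n)ˣ) : Endn n)
    rw [Units.val_mul]
    calc (a.2 : Endn n) * (b.2 : Endn n) * ρ m
        = (a.2 : Endn n) * ((b.2 : Endn n) * ρ m) := mul_assoc _ _ _
      _ = (a.2 : Endn n) * (ρ (conjHom N b.1 m) * (b.2 : Endn n)) := by rw [hb']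
      _ = ((a.2 : Endn n) * ρ (conjHom N b.1 m)) * (b.2 : Endn n) := (mul_assoc _ _ _).symm
      _ = (ρ (conjHom N a.1 (conjHom N b.1 m)) * (a.2 : Endn n)) * (b.2 : Endn n) := by rw [ha']
      _ = ρ (conjHom N (a.1 * b.1) m) * ((a.2 : Endn n) * (b.2 : Endn n)) := by
          rw [conjHom_mul', mul_assoc]
  one_mem' := by
    intro m
    show ((1 : (Endn n)ˣ) : Endn n) * ρ m =
      ρ (conjHom N (1 : G) m) * ((1 : (Endn n)ˣ) : Endn n)
    rw [conjHom_one', Units.val_one, one_mul, mul_one]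
  inv_mem' := by
    intro a ha m
    have h := ha (conjHom N a.1⁻¹ m)
    rw [conjHom_inv_cancel'] at h
    show ((a.2⁻¹ : (Endn n)ˣ) : Endn n) * ρ m =
      ρ (conjHom N a.1⁻¹ m) * ((a.2⁻¹ : (Endn n)ˣ) : Endn n)
    calc ((a.2⁻¹ : (Endn n)ˣ) : Endn n) * ρ m
        = ((a.2⁻¹ : (Endn n)ˣ) : Endn n) * (ρ m * (a.2 : Endn n)) *
            ((a.2⁻¹ : (Endn n)ˣ) : Endn n) := by
          rw [mul_assoc, mul_assoc, Units.mul_inv, mul_one]
      _ = ((a.2⁻¹ : (Endn n)ˣ) : Endn n) * ((a.2 : Endn n) * ρ (conjHom N a.1⁻¹ m)) *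
            ((a.2⁻¹ : (Endn n)ˣ) : Endn n) := by rw [h]
      _ = ρ (conjHom N a.1⁻¹ m) * ((a.2⁻¹ : (Endn n)ˣ) : Endn n) := by
          rw [← mul_assoc, Units.inv_mul, one_mul]

theorem mem_liftGrp (x : G × (Endn n)ˣ) :
    x ∈ liftGrp N ρ ↔ ∀ m : N, (x.2 : Endn n) * ρ m = ρ (conjHom N x.1 m) * (x.2 : Endn n) :=
  Iff.rfl

/-- every `g` has a lift when the character is invariant -/
theorem liftGrp_surj [Finite G]
    (hinv : ∀ (g : G) (m : N), ρ.character (conjHom N g m) = ρ.character m) (g : G) :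
    ∃ P : (Endn n)ˣ, (g, P) ∈ liftGrp N ρ := by
  let σ : Representation ℂ N (Fin n → ℂ) := MonoidHom.comp ρ (conjHom N g)
  have hchar : ρ.character = σ.character := by
    funext m
    exact (hinv g m).symm
  obtain ⟨e⟩ := equiv_of_char_eq ρ σ hchar
  refine ⟨LinearMap.GeneralLinearGroup.ofLinearEquiv e.toLinearEquiv, ?_⟩
  rw [mem_liftGrp]
  intro m
  exact e.isIntertwining' m

/-- Schur: a lift of an element of `N` is a scalar multiple of its image under `ρ` -/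
theorem liftGrp_scalar [ρ.IsIrreducible] (m₀ : N) (P : (Endn n)ˣ)
    (h : ((m₀ : G), P) ∈ liftGrp N ρ) : ∃ c : ℂ, (P : Endn n) = c • ρ m₀ := by
  rw [mem_liftGrp] at h
  let T : Endn n := (P : Endn n) * ρ m₀⁻¹
  have hT : ∀ m : N, T ∘ₗ ρ m = ρ m ∘ₗ T := by
    intro m
    show (P : Endn n) * ρ m₀⁻¹ * ρ m = ρ m * ((P : Endn n) * ρ m₀⁻¹)
    have h1 : (P : Endn n) * ρ (m₀⁻¹ * m * m₀) =
        ρ (conjHom N (m₀ : G) (m₀⁻¹ * m * m₀)) * (P : Endn n) := h (m₀⁻¹ * m * m₀)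
    have h2 : conjHom N (m₀ : G) (m₀⁻¹ * m * m₀) = m := by
      rw [conjHom_of_mem]; group
    have h1' : (P : Endn n) * ρ (m₀⁻¹ * m * m₀) = ρ m * (P : Endn n) := by
      rw [h2] at h1; exact h1
    have e1 : ρ (m₀⁻¹ * m * m₀) * ρ m₀⁻¹ = ρ m₀⁻¹ * ρ m := by
      rw [← map_mul, ← map_mul]; congr 1; group
    calc (P : Endn n) * ρ m₀⁻¹ * ρ m
        = (P : Endn n) * ρ (m₀⁻¹ * m * m₀) * ρ m₀⁻¹ := by
          rw [mul_assoc, mul_assoc, e1]
      _ = ρ m * ((P : Endn n) * ρ m₀⁻¹) := by rw [h1', mul_assoc]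
  obtain ⟨c, hc⟩ : ∃ c : ℂ, T = c • LinearMap.id := ⟨_, schur_scalar ρ T hT⟩
  have hP : (P : Endn n) = T * ρ m₀ := by
    show (P : Endn n) = (P : Endn n) * ρ m₀⁻¹ * ρ m₀
    rw [mul_assoc, ← map_mul, inv_mul_cancel, map_one, mul_one]
  refine ⟨c, ?_⟩
  rw [hP, hc]
  show c • (1 : Endn n) * ρ m₀ = c • ρ m₀
  rw [smul_mul_assoc, one_mul]

/-- scalar units -/
noncomputable def scalarUnit (n : ℕ) : ℂˣ →* (Endn n)ˣ :=
  Units.map (algebraMap ℂ (Endn n)).toMonoidHom

theorem scalarUnit_val (a : ℂˣ) :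
    ((scalarUnit n a : (Endn n)ˣ) : Endn n) = (a : ℂ) • (1 : Endn n) := by
  show algebraMap ℂ (Endn n) (a : ℂ) = _
  rw [Algebra.algebraMap_eq_smul_one]

theorem scalarUnit_commute (a : ℂˣ) (P : (Endn n)ˣ) : Commute (scalarUnit n a) P := by
  apply Units.ext
  rw [Units.val_mul, Units.val_mul, scalarUnit_val, smul_mul_assoc, mul_smul_comm, one_mul,
    mul_one]

theorem scalarUnit_mem (a : ℂˣ) : ((1 : G), scalarUnit n a) ∈ liftGrp N ρ := by
  rw [mem_liftGrp]
  intro m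
  show ((scalarUnit n a : (Endn n)ˣ) : Endn n) * ρ m =
    ρ (conjHom N (1 : G) m) * ((scalarUnit n a : (Endn n)ˣ) : Endn n)
  rw [conjHom_one', scalarUnit_val, smul_mul_assoc, mul_smul_comm, one_mul, mul_one]

/-- the graph of `ρ` -/
noncomputable def liftIncl : N →* liftGrp N ρ :=
  MonoidHom.codRestrict (MonoidHom.prod N.subtype (MonoidHom.toHomUnits ρ)) (liftGrp N ρ)
    (fun m => by
      rw [mem_liftGrp]
      intro m'
      show ((MonoidHom.toHomUnits ρ m : (Endn n)ˣ) : Endn n) * ρ m' =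
        ρ (conjHom N (m : G) m') * ((MonoidHom.toHomUnits ρ m : (Endn n)ˣ) : Endn n)
      rw [MonoidHom.coe_toHomUnits, conjHom_of_mem, ← map_mul, ← map_mul, inv_mul_cancel_right])

/-- projection to `G` -/
def liftProj : liftGrp N ρ →* G :=
  (MonoidHom.fst G (Endn n)ˣ).comp (liftGrp N ρ).subtype

/-- projection to the linear group -/
def liftRep : liftGrp N ρ →* (Endn n)ˣ :=
  (MonoidHom.snd G (Endn n)ˣ).comp (liftGrp N ρ).subtype

theorem liftProj_incl (m : N) : liftProj N ρ (liftIncl N ρ m) = m := rfl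

theorem liftRep_incl (m : N) :
    ((liftRep N ρ (liftIncl N ρ m) : (Endn n)ˣ) : Endn n) = ρ m :=
  MonoidHom.coe_toHomUnits ρ m

theorem liftIncl_conj (y : liftGrp N ρ) (m : N) :
    y * liftIncl N ρ m * y⁻¹ = liftIncl N ρ (conjHom N (liftProj N ρ y) m) := by
  have hy := (mem_liftGrp N ρ _).1 y.2 m
  apply Subtype.ext
  apply Prod.ext
  · rfl
  · apply Units.ext
    show ((y : G × (Endn n)ˣ).2 : Endn n) * ((MonoidHom.toHomUnits ρ m : (Endn n)ˣ) : Endn n) *
      (((y : G × (Endn n)ˣ).2⁻¹ : (Endn n)ˣ) : Endn n) =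
      ((MonoidHom.toHomUnits ρ (conjHom N (y : G × (Endn n)ˣ).1 m) : (Endn n)ˣ) : Endn n)
    rw [MonoidHom.coe_toHomUnits, MonoidHom.coe_toHomUnits, hy, mul_assoc, Units.mul_inv, mul_one]

theorem liftIncl_range_normal : ((liftIncl N ρ).range).Normal := by
  constructor
  rintro x ⟨m, rfl⟩ y
  exact ⟨conjHom N (liftProj N ρ y) m, (liftIncl_conj N ρ y m).symm⟩

theorem liftIncl_eq_one_of_proj {k : liftGrp N ρ} (hk : k ∈ (liftIncl N ρ).range)
    (h1 : liftProj N ρ k = 1) : k = 1 := by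
  obtain ⟨m, rfl⟩ := hk
  rw [liftProj_incl] at h1
  have hm : m = 1 := Subtype.ext h1
  rw [hm, map_one]

end liftgrp

/-- a subgroup of an auxiliary group mapping isomorphically onto `G` and containing a copy of
the graph of `ρ` yields an extension of `ρ` -/
theorem ext_of_section {G : Type u} [Group G] [Finite G] (N : Subgroup G) {n : ℕ}
    (ρ : Representation ℂ N (Fin n → ℂ)) [ρ.IsIrreducible]
    {E : Type*} [Group E] (π : E →* G) (τ : E →* (Endn n)ˣ)
    (ι : N →* E) (hπι : ∀ m : N, π (ι m) = m)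
    (hτι : ∀ m : N, ((τ (ι m) : (Endn n)ˣ) : Endn n) = ρ m)
    (K : Subgroup E) (hιK : ∀ m : N, ι m ∈ K) (hsurj : ∀ g : G, ∃ k ∈ K, π k = g)
    (hinj : ∀ k ∈ K, π k = 1 → k = 1) :
    ∃ χ : G → ℂ, Cfsg.IsIrrCharacter G χ ∧ ∀ m : N, χ m = ρ.character m := by
  classical
  let f : K →* G := π.comp K.subtype
  have hf : Function.Bijective f := by
    constructor
    · rw [injective_iff_map_eq_one]
      intro k hk
      exact Subtype.ext (hinj k k.2 hk)
    · intro g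
      obtain ⟨k, hk, hkg⟩ := hsurj g
      exact ⟨⟨k, hk⟩, hkg⟩
  let e : K ≃* G := MulEquiv.ofBijective f hf
  let Y : G →* (Endn n)ˣ := (τ.comp K.subtype).comp e.symm.toMonoidHom
  let σ : Representation ℂ G (Fin n → ℂ) := (Units.coeHom (Endn n)).comp Y
  have hσN : ∀ m : N, σ (m : G) = ρ m := by
    intro m
    have h1 : e.symm (m : G) = ⟨ι m, hιK m⟩ := by
      rw [MulEquiv.symm_apply_eq]
      exact (hπι m).symm
    show ((τ ((e.symm (m : G) : K) : E) : (Endn n)ˣ) : Endn n) = ρ m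
    rw [h1]
    exact hτι m
  have hσchar : Cfsg.IsCharacter G σ.character := ⟨n, σ, rfl⟩
  have h2 : (fun m : N => σ.character m) = ρ.character := by
    funext m
    show LinearMap.trace ℂ _ (σ (m : G)) = LinearMap.trace ℂ _ (ρ m)
    rw [hσN]
  refine ⟨σ.character, ?_, fun m => congrFun h2 m⟩
  apply irr_of_restrict_irr N hσchar
  rw [h2]
  exact ⟨n, ρ, inferInstance, rfl⟩

end Cfsg.Agent.Lib.Helper7
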