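import Mathlib
import Cfsg.Agent.Lib.Helper7.ExtGrp
import Cfsg.Agent.S0864

/-!
# A finite group of intertwining pairs

The pairs `(g, P)` intertwining `ρ` with its `g`-conjugate whose determinant has `M`-th power
one form a finite central extension of `G`; the preimage of `N` carries a canonical invariant
linear character, and `ρ` extends to `G` exactly when this linear character extends.
-/

set_option autoImplicit false

namespace Cfsg.Agent.Lib.Helper7

open Cfsg.Agent.Lib.Lead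

universe u

theorem endn_nontrivial {n : ℕ} (hn : 0 < n) : Nontrivial (Endn n) := by
  haveI : Nonempty (Fin n) := ⟨⟨0, hn⟩⟩
  infer_instance

theorem smul_unit_cancel {n : ℕ} (hn : 0 < n) {c c' : ℂ} (A : (Endn n)ˣ)
    (h : c • (A : Endn n) = c' • (A : Endn n)) : c = c' := by
  haveI := endn_nontrivial hn
  have h1 : (c - c') • (A : Endn n) = 0 := by
    have h0 : (c - c') • (A : Endn n) = c • (A : Endn n) - c' • (A : Endn n) :=
      @sub_smul ℂ (Endn n) _ _ _ c c' (A : Endn n)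
    rw [h0, h, sub_self]
  rcases smul_eq_zero.1 h1 with h2 | h2
  · exact sub_eq_zero.1 h2
  · exact absurd h2 (Units.ne_zero A)

/-- scalar ratio of two homomorphisms into the linear group -/
theorem scalar_ratio_hom {n : ℕ} (hn : 0 < n) {A : Type*} [Group A] (f₁ f₂ : A →* (Endn n)ˣ)
    (h : ∀ a, ∃ c : ℂ, ((f₁ a : (Endn n)ˣ) : Endn n) = c • ((f₂ a : (Endn n)ˣ) : Endn n)) :
    ∃ ν : A →* ℂˣ, ∀ a,
      ((f₁ a : (Endn n)ˣ) : Endn n) = (ν a : ℂ) • ((f₂ a : (Endn n)ˣ) : Endn n) := by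
  classical
  haveI := endn_nontrivial hn
  choose c hc using h
  have hc0 : ∀ a, c a ≠ 0 := by
    intro a h0
    have h1 := hc a
    rw [h0, zero_smul] at h1
    exact Units.ne_zero (f₁ a) h1
  have hmul : ∀ a b, c (a * b) = c a * c b := by
    intro a b
    apply smul_unit_cancel hn (f₂ (a * b))
    rw [← hc (a * b), map_mul, map_mul, Units.val_mul, Units.val_mul, hc a, hc b,
      smul_mul_smul_comm]
  have hone : c 1 = 1 := by
    apply smul_unit_cancel hn (f₂ 1)
    rw [← hc 1, map_one, map_one, one_smul]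
  exact ⟨{ toFun := fun a => Units.mk0 (c a) (hc0 a)
           map_one' := Units.ext hone
           map_mul' := fun a b => Units.ext (hmul a b) }, fun a => hc a⟩

/-- a homomorphism to the linear group that factors through a surjection onto `G` and restricts
to `ρ` gives an extension of `ρ` -/
theorem ext_of_factor {G : Type u} [Group G] [Finite G] (N : Subgroup G) {n : ℕ}
    (ρ : Representation ℂ N (Fin n → ℂ)) [ρ.IsIrreducible]
    {E : Type*} [Group E] (π : E →* G) (hπ : Function.Surjective π) (τ : E →* (Endn n)ˣ)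
    (ι : N →* E) (hπι : ∀ m : N, π (ι m) = m)
    (hτι : ∀ m : N, ((τ (ι m) : (Endn n)ˣ) : Endn n) = ρ m)
    (hker : ∀ k, π k = 1 → τ k = 1) :
    ∃ χ : G → ℂ, Cfsg.IsIrrCharacter G χ ∧ ∀ m : N, χ m = ρ.character m := by
  classical
  let Y : G →* (Endn n)ˣ :=
    (MonoidHom.liftOfRightInverse π (Function.surjInv hπ) (Function.rightInverse_surjInv hπ))
      ⟨τ, fun k hk => MonoidHom.mem_ker.2 (hker k (MonoidHom.mem_ker.1 hk))⟩
  have hY : ∀ x, Y (π x) = τ x := fun x =>
    MonoidHom.liftOfRightInverse_comp_apply π _ _ _ x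
  let σ : Representation ℂ G (Fin n → ℂ) := (Units.coeHom (Endn n)).comp Y
  have hσN : ∀ m : N, σ (m : G) = ρ m := by
    intro m
    show ((Y (m : G) : (Endn n)ˣ) : Endn n) = ρ m
    rw [← hπι m, hY]
    exact hτι m
  have hσchar : Cfsg.IsCharacter G σ.character := ⟨n, σ, rfl⟩
  have h2 : (fun m : N => σ.character m) = ρ.character := by
    funext m
    show LinearMap.trace ℂ _ (σ (m : G)) = LinearMap.trace ℂ _ (ρ m)
    rw [hσN]
  refine ⟨σ.character, ?_, fun m => congrFun h2 m⟩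
  apply irr_of_restrict_irr N hσchar
  rw [h2]
  exact ⟨n, ρ, inferInstance, rfl⟩

/-- extension of an invariant homomorphism when, for every prime `p`, it extends to a subgroup
of index prime to `p` -/
theorem hom_ext_of_coprime_indices {Γ : Type u} [Group Γ] [Finite Γ] (D : Subgroup Γ)
    [hD : D.Normal] (lh : D →* ℂˣ)
    (hinv : ∀ (g : Γ) (y : D), lh ⟨g * y * g⁻¹, hD.conj_mem (y : Γ) y.2 g⟩ = lh y)
    (hsyl : ∀ p : ℕ, p.Prime → ∃ (H : Subgroup Γ) (hDH : D ≤ H) (ν : H →* ℂˣ),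
      Nat.Coprime H.index p ∧ ∀ y : D, ν ⟨(y : Γ), hDH y.2⟩ = lh y) :
    ∃ μ : Γ →* ℂˣ, ∀ y : D, μ y = lh y := by
  classical
  let S : ℕ → Prop := fun k => ∃ μ : Γ →* ℂˣ, ∀ y : D, μ y = lh y ^ k
  have hS_o : S (orderOf lh) := ⟨1, fun y => by
    rw [MonoidHom.one_apply, ← MonoidHom.pow_apply, pow_orderOf_eq_one, MonoidHom.one_apply]⟩
  have ho0 : 0 < orderOf lh := by
    have h1 : lh ^ Nat.card D = 1 := by
      apply MonoidHom.ext; intro x
      rw [MonoidHom.pow_apply, MonoidHom.one_apply, ← map_pow, pow_card_eq_one', map_one]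
    exact orderOf_pos_iff.2 (isOfFinOrder_iff_pow_eq_one.2 ⟨Nat.card D, Nat.card_pos, h1⟩)
  have hS_p : ∀ p : ℕ, p.Prime → ∃ m, Nat.Coprime m p ∧ S m := by
    intro p hp
    obtain ⟨H, hDH, ν, hcop, hν⟩ := hsyl p hp
    exact ⟨H.index, hcop, MonoidHom.transfer ν, fun y =>
      Cfsg.Agent.S0864.transfer_over D H hDH lh ν hν hinv y⟩
  have hex : ∃ k, 0 < k ∧ S k := ⟨_, ho0, hS_o⟩
  obtain ⟨g, hg⟩ : ∃ g, g = Nat.find hex := ⟨_, rfl⟩
  have hgS : 0 < g ∧ S g := by rw [hg]; exact Nat.find_spec hex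
  have hgmin : ∀ k, 0 < k → S k → g ≤ k := by
    intro k hk hSk; rw [hg]; exact Nat.find_min' hex ⟨hk, hSk⟩
  have hdvd : ∀ k, S k → g ∣ k := by
    rintro k ⟨μ, hμ⟩
    obtain ⟨μg, hμg⟩ := hgS.2
    by_contra hnd
    have hmod : 0 < k % g := Nat.pos_of_ne_zero (fun h => hnd (Nat.dvd_of_mod_eq_zero h))
    have hSmod : S (k % g) := by
      refine ⟨μ * (μg ^ (k / g))⁻¹, fun y => ?_⟩
      rw [MonoidHom.mul_apply, MonoidHom.inv_apply, MonoidHom.pow_apply, hμ, hμg]
      rw [mul_inv_eq_iff_eq_mul, ← pow_mul, ← pow_add, Nat.mod_add_div]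
    have h1 := hgmin _ hmod hSmod
    have h2 := Nat.mod_lt k hgS.1
    omega
  have hg1 : g = 1 := by
    by_contra hne
    obtain ⟨p, hp, hpg⟩ := Nat.exists_prime_and_dvd hne
    obtain ⟨m, hmcop, hSm⟩ := hS_p p hp
    have hpm : p ∣ m := dvd_trans hpg (hdvd _ hSm)
    have h3 := Nat.Coprime.eq_one_of_dvd hmcop.symm hpm
    exact hp.one_lt.ne' h3
  obtain ⟨μ, hμ⟩ := hgS.2
  rw [hg1] at hμ
  exact ⟨μ, fun y => by rw [hμ, pow_one]⟩

section fingrp

variable {G : Type u} [Group G] (N : Subgroup G) [hN : N.Normal] {n : ℕ}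
  (ρ : Representation ℂ N (Fin n → ℂ))

/-- the group of intertwining pairs whose determinant has `M`-th power one -/
noncomputable def finGrp (M : ℕ) : Subgroup (liftGrp N ρ) :=
  (((Units.map (LinearMap.det : Endn n →* ℂ)).comp (liftRep N ρ)) ^ M).ker

theorem mem_finGrp (M : ℕ) (x : liftGrp N ρ) :
    x ∈ finGrp N ρ M ↔ LinearMap.det ((liftRep N ρ x : (Endn n)ˣ) : Endn n) ^ M = 1 := by
  unfold finGrp
  rw [MonoidHom.mem_ker, MonoidHom.pow_apply]
  constructor
  · intro h
    have h1 := congrArg Units.val h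
    rw [Units.val_pow_eq_pow_val] at h1
    exact h1
  · intro h
    apply Units.ext
    rw [Units.val_pow_eq_pow_val]
    exact h

/-- projection to `G` -/
noncomputable def finProj (M : ℕ) : finGrp N ρ M →* G := (liftProj N ρ).comp (finGrp N ρ M).subtype

/-- projection to the linear group -/
noncomputable def finRep (M : ℕ) : finGrp N ρ M →* (Endn n)ˣ := (liftRep N ρ).comp (finGrp N ρ M).subtype

/-- the graph of `ρ` -/
noncomputable def finIncl (M : ℕ) (hM : ∀ m : N, LinearMap.det (ρ m) ^ M = 1) :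
    N →* finGrp N ρ M :=
  (liftIncl N ρ).codRestrict _ (fun m => by rw [mem_finGrp, liftRep_incl]; exact hM m)

theorem finProj_incl (M : ℕ) (hM : ∀ m : N, LinearMap.det (ρ m) ^ M = 1) (m : N) :
    finProj N ρ M (finIncl N ρ M hM m) = m := rfl

theorem finRep_incl (M : ℕ) (hM : ∀ m : N, LinearMap.det (ρ m) ^ M = 1) (m : N) :
    ((finRep N ρ M (finIncl N ρ M hM m) : (Endn n)ˣ) : Endn n) = ρ m :=
  liftRep_incl N ρ m

theorem finProj_surj [Finite G] [ρ.IsIrreducible]
    (hinv : ∀ (g : G) (m : N), ρ.character (conjHom N g m) = ρ.character m) (M : ℕ) :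
    Function.Surjective (finProj N ρ M) := by
  intro g
  have hn0 : 0 < n := by
    have h1 := finrank_pos_of_irr ρ
    rw [Module.finrank_fin_fun] at h1
    exact h1
  obtain ⟨P, hP⟩ := liftGrp_surj N ρ hinv g
  have hdet0 : LinearMap.det (P : Endn n) ≠ 0 :=
    (Units.map (LinearMap.det : Endn n →* ℂ) P).ne_zero
  obtain ⟨a, ha⟩ := IsAlgClosed.exists_pow_nat_eq ((LinearMap.det (P : Endn n))⁻¹) hn0
  have ha0 : a ≠ 0 := by
    rintro rfl
    rw [zero_pow hn0.ne'] at ha
    exact (inv_ne_zero hdet0) ha.symm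
  have hmem : ((g, scalarUnit n (Units.mk0 a ha0) * P) : G × (Endn n)ˣ) ∈ liftGrp N ρ := by
    have h1 := Subgroup.mul_mem _ (scalarUnit_mem N ρ (Units.mk0 a ha0)) hP
    have h2 : (((1 : G), scalarUnit n (Units.mk0 a ha0)) : G × (Endn n)ˣ) *
        ((g, P) : G × (Endn n)ˣ) = (g, scalarUnit n (Units.mk0 a ha0) * P) := by
      rw [Prod.mk_mul_mk, one_mul]
    rw [h2] at h1; exact h1
  have hmem1 : (⟨_, hmem⟩ : liftGrp N ρ) ∈ finGrp N ρ M := by
    rw [mem_finGrp]
    show LinearMap.det (((scalarUnit n (Units.mk0 a ha0) * P : (Endn n)ˣ)) : Endn n) ^ M = 1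
    rw [Units.val_mul, scalarUnit_val, smul_mul_assoc, one_mul, LinearMap.det_smul,
      Module.finrank_fin_fun, Units.val_mk0, ha, inv_mul_cancel₀ hdet0, one_pow]
  exact ⟨⟨⟨_, hmem⟩, hmem1⟩, rfl⟩

theorem finGrp_ker_scalar [ρ.IsIrreducible] (M : ℕ) (y : finGrp N ρ M)
    (hy : finProj N ρ M y = 1) :
    ∃ c : ℂ, ((finRep N ρ M y : (Endn n)ˣ) : Endn n) = c • (1 : Endn n) ∧ c ^ (n * M) = 1 := by
  have hmem : ((((1 : N) : G), finRep N ρ M y) : G × (Endn n)ˣ) ∈ liftGrp N ρ := by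
    have h1 := y.1.2
    have h2 : (y.1 : G × (Endn n)ˣ) = (((1 : N) : G), finRep N ρ M y) := by
      apply Prod.ext
      · exact hy
      · rfl
    rw [h2] at h1; exact h1
  obtain ⟨c, hc⟩ := liftGrp_scalar N ρ 1 _ hmem
  rw [map_one] at hc
  refine ⟨c, hc, ?_⟩
  have h4 : LinearMap.det ((finRep N ρ M y : (Endn n)ˣ) : Endn n) ^ M = 1 :=
    (mem_finGrp N ρ M y.1).1 y.2
  rw [hc, LinearMap.det_smul, Module.finrank_fin_fun, map_one, mul_one, ← pow_mul] at h4
  exact h4

theorem finGrp_finite [Finite G] [ρ.IsIrreducible]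
    (hinv : ∀ (g : G) (m : N), ρ.character (conjHom N g m) = ρ.character m) (M : ℕ)
    (hM : 0 < M) : Finite (finGrp N ρ M) := by
  classical
  have hn0 : 0 < n := by
    have h1 := finrank_pos_of_irr ρ
    rw [Module.finrank_fin_fun] at h1
    exact h1
  have hfinker : Finite (finProj N ρ M).ker := by
    have hfinroots : Finite {z : ℂ // z ^ (n * M) = 1} := by
      have h1 : {z : ℂ | z ^ (n * M) = 1}.Finite := by
        apply Set.Finite.subset (Polynomial.nthRoots (n * M) (1 : ℂ)).toFinset.finite_toSet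
        intro z hz
        rw [Finset.mem_coe, Multiset.mem_toFinset, Polynomial.mem_nthRoots (Nat.mul_pos hn0 hM)]
        exact hz
      exact h1.to_subtype
    have hker_scal : ∀ y : (finProj N ρ M).ker, ∃ c : ℂ,
        ((finRep N ρ M y.1 : (Endn n)ˣ) : Endn n) = c • (1 : Endn n) ∧ c ^ (n * M) = 1 :=
      fun y => finGrp_ker_scalar N ρ M y.1 y.2
    let φ : (finProj N ρ M).ker → {z : ℂ // z ^ (n * M) = 1} := fun y =>
      ⟨Classical.choose (hker_scal y), (Classical.choose_spec (hker_scal y)).2⟩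
    have hφ : Function.Injective φ := by
      intro y y' hyy
      have h1 := (Classical.choose_spec (hker_scal y)).1
      have h2 := (Classical.choose_spec (hker_scal y')).1
      have hc : Classical.choose (hker_scal y) = Classical.choose (hker_scal y') :=
        congrArg Subtype.val hyy
      rw [hc, ← h2] at h1
      apply Subtype.ext; apply Subtype.ext; apply Subtype.ext
      apply Prod.ext
      · exact (y.2 : finProj N ρ M y.1 = 1).trans (y'.2 : finProj N ρ M y'.1 = 1).symm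
      · exact Units.ext h1
    exact Finite.of_injective φ hφ
  have h1 := Subgroup.card_mul_index (finProj N ρ M).ker
  have h2 : (finProj N ρ M).ker.index = Nat.card G := by
    rw [Subgroup.index_ker, MonoidHom.range_eq_top.2 (finProj_surj N ρ hinv M),
      Subgroup.card_top]
  have h3 : Nat.card (finGrp N ρ M) ≠ 0 := by
    rw [← h1, h2]
    exact mul_ne_zero Nat.card_pos.ne' Nat.card_pos.ne'
  exact Nat.finite_of_card_ne_zero h3

/-- the preimage of `N` -/
noncomputable def finD (M : ℕ) : Subgroup (finGrp N ρ M) := N.comap (finProj N ρ M)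

theorem finD_normal (M : ℕ) : (finD N ρ M).Normal := hN.comap _

/-- projection from the preimage of `N` to `N` -/
noncomputable def finDProj (M : ℕ) : finD N ρ M →* N :=
  ((finProj N ρ M).comp (finD N ρ M).subtype).codRestrict N (fun y => y.2)

/-- the canonical linear character of the preimage of `N` -/
theorem exists_finLam [ρ.IsIrreducible] (M : ℕ) (hn : 0 < n) :
    ∃ lam : finD N ρ M →* ℂˣ, ∀ y : finD N ρ M,
      ((finRep N ρ M y.1 : (Endn n)ˣ) : Endn n) = (lam y : ℂ) • ρ (finDProj N ρ M y) := by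
  obtain ⟨ν, hν⟩ := scalar_ratio_hom hn ((finRep N ρ M).comp (finD N ρ M).subtype)
    ((MonoidHom.toHomUnits ρ).comp (finDProj N ρ M)) (fun y => by
      have hmem : ((((finDProj N ρ M y : N) : G)), finRep N ρ M y.1) ∈ liftGrp N ρ := y.1.1.2
      obtain ⟨c, hc⟩ := liftGrp_scalar N ρ (finDProj N ρ M y) _ hmem
      refine ⟨c, ?_⟩
      rw [MonoidHom.comp_apply, MonoidHom.comp_apply, MonoidHom.coe_toHomUnits]
      exact hc)
  refine ⟨ν, fun y => ?_⟩
  have h1 := hν y
  rw [MonoidHom.comp_apply, MonoidHom.comp_apply, MonoidHom.coe_toHomUnits] at h1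
  exact h1

theorem finLam_inv (M : ℕ) (hn : 0 < n) (lam : finD N ρ M →* ℂˣ)
    (hlam : ∀ y : finD N ρ M,
      ((finRep N ρ M y.1 : (Endn n)ˣ) : Endn n) = (lam y : ℂ) • ρ (finDProj N ρ M y))
    (x : finGrp N ρ M) (y : finD N ρ M) :
    lam ⟨x * y * x⁻¹, (finD_normal N ρ M).conj_mem (y : finGrp N ρ M) y.2 x⟩ = lam y := by
  obtain ⟨y', hy'⟩ : ∃ y' : finD N ρ M, y' =
      ⟨x * y * x⁻¹, (finD_normal N ρ M).conj_mem (y : finGrp N ρ M) y.2 x⟩ := ⟨_, rfl⟩
  rw [← hy']
  apply Units.ext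
  apply smul_unit_cancel hn (MonoidHom.toHomUnits ρ (finDProj N ρ M y'))
  rw [MonoidHom.coe_toHomUnits, ← hlam y']
  have hval : (y' : finGrp N ρ M) = x * y * x⁻¹ := by rw [hy']
  rw [hval, map_mul, map_mul, map_inv, Units.val_mul, Units.val_mul, hlam y, mul_smul_comm,
    smul_mul_assoc]
  congr 1
  have hx := (mem_liftGrp N ρ _).1 x.1.2 (finDProj N ρ M y)
  have hconj : conjHom N (finProj N ρ M x) (finDProj N ρ M y) = finDProj N ρ M y' := by
    apply Subtype.ext
    show finProj N ρ M x * finProj N ρ M y.1 * (finProj N ρ M x)⁻¹ = finProj N ρ M y'.1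
    rw [hval, map_mul, map_mul, map_inv]
  have hx' : ((finRep N ρ M x : (Endn n)ˣ) : Endn n) * ρ (finDProj N ρ M y) =
      ρ (finDProj N ρ M y') * ((finRep N ρ M x : (Endn n)ˣ) : Endn n) := by
    rw [← hconj]; exact hx
  rw [hx', mul_assoc, Units.mul_inv, mul_one]

end fingrp

end Cfsg.Agent.Lib.Helper7
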