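import Mathlib
import Cfsg.Prelude.Def_Characters
import Cfsg.Agent.Lib.Lead.CharComplete
import Cfsg.Agent.Lib.Lead.CharCount
import Cfsg.Agent.Lib.Lead.CharRing
import Cfsg.Agent.Lib.Lead.CharInd3
import Cfsg.Agent.Lib.Helper7.CharExt

set_option autoImplicit false

universe u

namespace Cfsg.Agent.Lib.Helper7

open Cfsg.Agent.Lib.Lead
open scoped ComplexConjugate

/-! ### Fourier analysis on `ℤ/p` -/

theorem gp_root_sum (p : ℕ) (w : ℂ) (hw : w ^ p = 1) :
    ∑ k ∈ Finset.range p, w ^ k = if w = 1 then (p : ℂ) else 0 := by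
  by_cases h : w = 1
  · rw [if_pos h, h]; simp
  · rw [if_neg h]
    have h1 := mul_geom_sum w p
    rw [hw, sub_self] at h1
    rcases mul_eq_zero.1 h1 with h2 | h2
    · exact absurd (sub_eq_zero.1 h2) h
    · exact h2

theorem gp_kernel {p : ℕ} {ζ : ℂ} (hζ : IsPrimitiveRoot ζ p) (hp0 : 0 < p) (i j : ℕ) (hi : i < p)
    (hj : j < p) :
    ∑ k ∈ Finset.range p, ζ ^ (k * j) * conj (ζ ^ (k * i)) = if i = j then (p : ℂ) else 0 := by
  have hn : ‖ζ‖ = 1 := Complex.norm_eq_one_of_pow_eq_one hζ.pow_eq_one hp0.ne'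
  have hcz : ζ * conj ζ = 1 := by
    rw [Complex.mul_conj, Complex.normSq_eq_norm_sq, hn]; simp
  have hci : ∀ n : ℕ, ζ ^ n * conj (ζ ^ n) = 1 := by
    intro n
    rw [map_pow, ← mul_pow, hcz, one_pow]
  have h1 : ∀ k : ℕ, ζ ^ (k * j) * conj (ζ ^ (k * i)) = (ζ ^ j * conj (ζ ^ i)) ^ k := by
    intro k
    rw [mul_pow, mul_comm k j, mul_comm k i, pow_mul, pow_mul, map_pow]
  simp_rw [h1]
  have hw : (ζ ^ j * conj (ζ ^ i)) ^ p = 1 := by
    rw [mul_pow, ← map_pow, ← pow_mul, ← pow_mul, mul_comm j p, mul_comm i p, pow_mul, pow_mul,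
      hζ.pow_eq_one, one_pow, one_pow, map_one, mul_one]
  rw [gp_root_sum p _ hw]
  by_cases hij : i = j
  · rw [if_pos hij, if_pos]
    rw [hij]; exact hci j
  · rw [if_neg hij, if_neg]
    intro h
    apply hij
    have h2 : ζ ^ j = ζ ^ i := by
      have h3 : ζ ^ j * conj (ζ ^ i) * ζ ^ i = 1 * ζ ^ i := by rw [h]
      rw [mul_assoc, mul_comm (conj (ζ ^ i)), hci i, mul_one, one_mul] at h3
      exact h3
    exact (hζ.pow_inj hj hi h2).symm

/-- Fourier inversion -/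
theorem gp_inversion {p : ℕ} {ζ : ℂ} (hζ : IsPrimitiveRoot ζ p) (hp0 : 0 < p) (a b : ℕ → ℂ)
    (hb : ∀ k, k < p → b k = (p : ℂ)⁻¹ * ∑ j ∈ Finset.range p, conj (ζ ^ (k * j)) * a j)
    (j : ℕ) (hj : j < p) : a j = ∑ k ∈ Finset.range p, ζ ^ (k * j) * b k := by
  have hp' : (p : ℂ) ≠ 0 := by exact_mod_cast hp0.ne'
  have h1 : ∑ k ∈ Finset.range p, ζ ^ (k * j) * b k =
      ∑ k ∈ Finset.range p, ∑ i ∈ Finset.range p,
        (p : ℂ)⁻¹ * (a i * (ζ ^ (k * j) * conj (ζ ^ (k * i)))) := by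
    apply Finset.sum_congr rfl
    intro k hk
    rw [hb k (Finset.mem_range.1 hk), Finset.mul_sum, Finset.mul_sum]
    apply Finset.sum_congr rfl
    intro i _
    ring
  rw [h1, Finset.sum_comm]
  have h2 : ∀ i ∈ Finset.range p, ∑ k ∈ Finset.range p,
      (p : ℂ)⁻¹ * (a i * (ζ ^ (k * j) * conj (ζ ^ (k * i)))) = if i = j then a i else 0 := by
    intro i hi
    rw [← Finset.mul_sum, ← Finset.mul_sum, gp_kernel hζ hp0 i j (Finset.mem_range.1 hi) hj]
    split_ifs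
    · field_simp
    · simp
  rw [Finset.sum_congr rfl h2, Finset.sum_ite_eq' (Finset.range p) j a, if_pos (Finset.mem_range.2 hj)]

/-- Parseval -/
theorem gp_parseval {p : ℕ} {ζ : ℂ} (hζ : IsPrimitiveRoot ζ p) (hp0 : 0 < p) (a : ℕ → ℂ)
    (B : ℕ → ℤ) (ha : ∀ j, j < p → a j = ∑ k ∈ Finset.range p, ζ ^ (k * j) * (B k : ℂ)) :
    ∑ j ∈ Finset.range p, a j * conj (a j) = (p : ℂ) * ∑ k ∈ Finset.range p, (B k : ℂ) ^ 2 := by
  have h1 : ∀ j ∈ Finset.range p, a j * conj (a j) =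
      ∑ k ∈ Finset.range p, ∑ l ∈ Finset.range p,
        (B k : ℂ) * (B l : ℂ) * (ζ ^ (j * k) * conj (ζ ^ (j * l))) := by
    intro j hj
    rw [ha j (Finset.mem_range.1 hj), map_sum, Finset.sum_mul_sum]
    apply Finset.sum_congr rfl
    intro k _
    apply Finset.sum_congr rfl
    intro l _
    rw [map_mul, map_intCast, mul_comm k j, mul_comm l j]
    ring
  rw [Finset.sum_congr rfl h1, Finset.sum_comm]
  rw [Finset.mul_sum]
  apply Finset.sum_congr rfl
  intro k hk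
  rw [Finset.sum_comm]
  have h2 : ∀ l ∈ Finset.range p, ∑ j ∈ Finset.range p,
      (B k : ℂ) * (B l : ℂ) * (ζ ^ (j * k) * conj (ζ ^ (j * l))) =
      if l = k then (p : ℂ) * (B k : ℂ) ^ 2 else 0 := by
    intro l hl
    rw [← Finset.mul_sum, gp_kernel hζ hp0 l k (Finset.mem_range.1 hl) (Finset.mem_range.1 hk)]
    split_ifs with h
    · rw [h]; ring
    · simp
  rw [Finset.sum_congr rfl h2, Finset.sum_ite_eq' (Finset.range p) k, if_pos hk]

/-! ### the integer lemma -/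

theorem gp_int_nonneg {ι : Type*} (s : Finset ι) (B : ι → ℤ) :
    0 ≤ (s.card : ℤ) * ∑ i ∈ s, B i ^ 2 - (∑ i ∈ s, B i) ^ 2 := by
  have := sq_sum_le_card_mul_sum_sq (s := s) (f := B)
  linarith

theorem gp_int_lb {ι : Type*} [DecidableEq ι] (B : ι → ℤ) (s : Finset ι) :
    (∃ a ∈ s, ∃ b ∈ s, B a ≠ B b) →
    (s.card : ℤ) - 1 ≤ (s.card : ℤ) * ∑ i ∈ s, B i ^ 2 - (∑ i ∈ s, B i) ^ 2 := by
  induction s using Finset.induction_on with
  | empty =>
    rintro ⟨a, ha, -⟩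
    exact absurd ha (Finset.notMem_empty a)
  | insert a s has ih =>
    intro hne
    rw [Finset.card_insert_of_notMem has, Finset.sum_insert has, Finset.sum_insert has]
    have hid : ((s.card + 1 : ℕ) : ℤ) * (B a ^ 2 + ∑ i ∈ s, B i ^ 2) - (B a + ∑ i ∈ s, B i) ^ 2 =
        ((s.card : ℤ) * ∑ i ∈ s, B i ^ 2 - (∑ i ∈ s, B i) ^ 2) + ∑ i ∈ s, (B i - B a) ^ 2 := by
      have h1 : ∑ i ∈ s, (B i - B a) ^ 2 =
          ∑ i ∈ s, B i ^ 2 - 2 * B a * ∑ i ∈ s, B i + (s.card : ℤ) * B a ^ 2 := by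
        have : ∀ i ∈ s, (B i - B a) ^ 2 = B i ^ 2 - 2 * B a * B i + B a ^ 2 := fun i _ => by ring
        rw [Finset.sum_congr rfl this, Finset.sum_add_distrib, Finset.sum_sub_distrib,
          ← Finset.mul_sum, Finset.sum_const, nsmul_eq_mul]
      rw [h1]
      push_cast
      ring
    rw [hid]
    by_cases hs : ∃ b ∈ s, ∃ c ∈ s, B b ≠ B c
    · have h1 := ih hs
      obtain ⟨b, hb, c, hc, hbc⟩ := hs
      have h2 : ∃ l ∈ s, B l ≠ B a := by
        by_cases hba : B b = B a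
        · exact ⟨c, hc, fun h => hbc (hba.trans h.symm)⟩
        · exact ⟨b, hb, hba⟩
      obtain ⟨l, hl, hla⟩ := h2
      have h3 : (1 : ℤ) ≤ (B l - B a) ^ 2 := by
        have : B l - B a ≠ 0 := sub_ne_zero.2 hla
        have h4 : 0 < (B l - B a) ^ 2 := by positivity
        omega
      have h5 : (B l - B a) ^ 2 ≤ ∑ i ∈ s, (B i - B a) ^ 2 :=
        Finset.single_le_sum (f := fun i => (B i - B a) ^ 2) (fun i _ => sq_nonneg _) hl
      push_cast
      linarith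
    · have hs : ∀ b ∈ s, ∀ c ∈ s, B b = B c := by
        intro b hb c hc
        by_contra hbc
        exact hs ⟨b, hb, c, hc, hbc⟩
      have hall : ∀ l ∈ s, B l ≠ B a := by
        intro l hl hla
        obtain ⟨x, hx, y, hy, hxy⟩ := hne
        apply hxy
        have hx' : B x = B a := by
          rcases Finset.mem_insert.1 hx with rfl | hx
          · rfl
          · rw [hs x hx l hl, hla]
        have hy' : B y = B a := by
          rcases Finset.mem_insert.1 hy with rfl | hy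
          · rfl
          · rw [hs y hy l hl, hla]
        rw [hx', hy']
      have h3 : (s.card : ℤ) ≤ ∑ i ∈ s, (B i - B a) ^ 2 := by
        have h4 : ∀ i ∈ s, (1 : ℤ) ≤ (B i - B a) ^ 2 := by
          intro i hi
          have : B i - B a ≠ 0 := sub_ne_zero.2 (hall i hi)
          have h4 : 0 < (B i - B a) ^ 2 := by positivity
          omega
        have h5 := Finset.card_nsmul_le_sum s (fun i => (B i - B a) ^ 2) 1 h4
        simpa using h5
      have h6 := gp_int_nonneg s B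
      push_cast
      linarith

/-! ### group basics: `K = M⟨s⟩` with `M` of prime index -/

theorem gp_pow_gen {K : Type u} [Group K] {p : ℕ} (hp : p.Prime) (s : K)
    (hsp : s ^ p = 1) (j : ℕ) (hj0 : 0 < j) (hjp : j < p) : ∃ a : ℕ, (s ^ j) ^ a = s := by
  have hcop : Nat.Coprime j p :=
    (Nat.Coprime.symm ((Nat.Prime.coprime_iff_not_dvd hp).2 (Nat.not_dvd_of_pos_of_lt hj0 hjp)))
  obtain ⟨a, -, ha⟩ := Nat.exists_mul_mod_eq_one_of_coprime hcop hp.one_lt
  refine ⟨a, ?_⟩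
  rw [← pow_mul, ← Nat.div_add_mod (j * a) p, ha, pow_add, pow_mul, hsp, one_pow, one_mul, pow_one]

theorem gp_pow_not_mem {K : Type u} [Group K] {p : ℕ} (hp : p.Prime) (M : Subgroup K) (s : K)
    (hsM : s ∉ M) (hsp : s ^ p = 1) (j : ℕ) (hj0 : 0 < j) (hjp : j < p) : s ^ j ∉ M := by
  intro h
  obtain ⟨a, ha⟩ := gp_pow_gen hp s hsp j hj0 hjp
  apply hsM
  rw [← ha]
  exact M.pow_mem h a

theorem gp_bij {K : Type u} [Group K] [Finite K] {p : ℕ} (hp : p.Prime) (M : Subgroup K)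
    (hidx : M.index = p) (s : K) (hsM : s ∉ M) (hsp : s ^ p = 1) :
    Function.Bijective (fun a : M × Fin p => (a.1 : K) * s ^ (a.2 : ℕ)) := by
  classical
  haveI := Fintype.ofFinite K
  have hinj : Function.Injective (fun a : M × Fin p => (a.1 : K) * s ^ (a.2 : ℕ)) := by
    rintro ⟨m, i⟩ ⟨m', j⟩ h
    simp only at h
    have key : ∀ (m m' : M) (i j : ℕ), i < j → j < p → (m : K) * s ^ i = (m' : K) * s ^ j →
        False := by
      intro m m' i j hij hjp h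
      have h1 : s ^ (j - i) = (m' : K)⁻¹ * m := by
        have h3 : s ^ j = s ^ (j - i) * s ^ i := by rw [← pow_add, Nat.sub_add_cancel hij.le]
        rw [h3, ← mul_assoc] at h
        have h2 := mul_right_cancel h
        rw [h2]; group
      apply gp_pow_not_mem hp M s hsM hsp (j - i) (Nat.sub_pos_of_lt hij)
        (lt_of_le_of_lt (Nat.sub_le _ _) hjp)
      rw [h1]
      exact M.mul_mem (M.inv_mem m'.2) m.2
    rcases lt_trichotomy (i : ℕ) (j : ℕ) with hij | hij | hij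
    · exact (key m m' i j hij j.2 h).elim
    · have hij' : i = j := Fin.ext hij
      subst hij'
      have := mul_right_cancel h
      exact Prod.ext (Subtype.ext this) rfl
    · exact (key m' m j i hij i.2 h.symm).elim
  have hcard : Fintype.card (M × Fin p) = Fintype.card K := by
    rw [Fintype.card_prod, Fintype.card_fin, ← Nat.card_eq_fintype_card,
      ← Nat.card_eq_fintype_card, ← hidx, Subgroup.card_mul_index]
  exact (Fintype.bijective_iff_injective_and_card _).2 ⟨hinj, hcard⟩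

theorem gp_sum_K {K : Type u} [Group K] [Fintype K] {p : ℕ} (hp : p.Prime) (M : Subgroup K)
    [Fintype M] (hidx : M.index = p) (s : K) (hsM : s ∉ M) (hsp : s ^ p = 1) (f : K → ℂ) :
    ∑ x : K, f x = ∑ j ∈ Finset.range p, ∑ m : M, f ((m : K) * s ^ j) := by
  classical
  have hbij := gp_bij hp M hidx s hsM hsp
  rw [← Fintype.sum_bijective _ hbij (fun a => f ((a.1 : K) * s ^ (a.2 : ℕ))) f (fun a => rfl)]
  rw [Fintype.sum_prod_type_right]
  rw [← Fin.sum_univ_eq_sum_range (fun j => ∑ m : M, f ((m : K) * s ^ j)) p]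

theorem gp_decomp {K : Type u} [Group K] [Finite K] {p : ℕ} (hp : p.Prime) (M : Subgroup K)
    (hidx : M.index = p) (s : K) (hsM : s ∉ M) (hsp : s ^ p = 1) (x : K) :
    ∃ m ∈ M, ∃ j < p, x = m * s ^ j := by
  obtain ⟨⟨m, j⟩, h⟩ := (gp_bij hp M hidx s hsM hsp).2 x
  exact ⟨m, m.2, j, j.2, h.symm⟩

theorem gp_exists_lam {K : Type u} [Group K] [Finite K] {p : ℕ} (hp : p.Prime) (M : Subgroup K)
    [hM : M.Normal] (hidx : M.index = p) (s : K) (hsM : s ∉ M) :
    ∃ (lam : K →* ℂˣ) (ζ : ℂ), IsPrimitiveRoot ζ p ∧ (∀ m ∈ M, lam m = 1) ∧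
      ((lam s : ℂ) = ζ) := by
  haveI : Fact p.Prime := ⟨hp⟩
  have hcardQ : Nat.card (K ⧸ M) = p := by
    rw [← Subgroup.index_eq_card]; exact hidx
  haveI : Fact (Nat.card (K ⧸ M)).Prime := ⟨by rw [hcardQ]; exact hp⟩
  haveI : IsCyclic (K ⧸ M) := isCyclic_of_prime_card hcardQ
  letI : CommGroup (K ⧸ M) := IsCyclic.commGroup
  have ha : (QuotientGroup.mk s : K ⧸ M) ≠ 1 := by
    rw [Ne, QuotientGroup.eq_one_iff]; exact hsM
  obtain ⟨φ, hφ⟩ := CommGroup.exists_apply_ne_one_of_hasEnoughRootsOfUnity (K ⧸ M) ℂ ha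
  let ω : K →* ℂˣ :=
    { toFun := fun g => φ (QuotientGroup.mk g)
      map_one' := map_one φ
      map_mul' := fun a b => by
        show φ (QuotientGroup.mk (a * b)) = _
        rw [QuotientGroup.mk_mul]
        exact map_mul φ _ _ }
  refine ⟨ω, ((ω s : ℂˣ) : ℂ), ?_, ?_, rfl⟩
  · have h1 : (ω s) ^ p = 1 := by
      show (φ (QuotientGroup.mk s)) ^ p = 1
      rw [← map_pow, ← hcardQ, pow_card_eq_one', map_one]
    have h2 : orderOf (ω s) = p := orderOf_eq_prime h1 hφ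
    have h3 := IsPrimitiveRoot.orderOf (ω s)
    rw [h2] at h3
    exact IsPrimitiveRoot.coe_units_iff.2 h3
  · intro x hx
    show φ (QuotientGroup.mk x) = 1
    have : (QuotientGroup.mk x : K ⧸ M) = 1 := (QuotientGroup.eq_one_iff x).2 hx
    rw [this, map_one]

theorem gp_lam_val {K : Type u} [Group K] (M : Subgroup K) (s : K) (lam : K →* ℂˣ) (ζ : ℂ)
    (hlamM : ∀ m ∈ M, lam m = 1) (hlams : (lam s : ℂ) = ζ) (m : K) (hm : m ∈ M) (j : ℕ) :
    (lam (m * s ^ j) : ℂ) = ζ ^ j := by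
  rw [map_mul, hlamM m hm, one_mul, map_pow, Units.val_pow_eq_pow_val, hlams]

theorem gp_T1 {K : Type u} [Group K] [Fintype K] {p : ℕ} (hp : p.Prime) (M : Subgroup K)
    [Fintype M] (hidx : M.index = p) (s : K) (hsM : s ∉ M) (hsp : s ^ p = 1) (lam : K →* ℂˣ)
    (ζ : ℂ) (hlamM : ∀ m ∈ M, lam m = 1) (hlams : (lam s : ℂ) = ζ) (f g : K → ℂ) (k : ℕ) :
    Cfsg.classInner (fun x => (lam x : ℂ) ^ k * f x) g =
      (Nat.card K : ℂ)⁻¹ * ∑ j ∈ Finset.range p, ζ ^ (k * j) *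
        ∑ m : M, f ((m : K) * s ^ j) * conj (g ((m : K) * s ^ j)) := by
  unfold Cfsg.classInner
  congr 1
  rw [gp_sum_K hp M hidx s hsM hsp]
  apply Finset.sum_congr rfl
  intro j _
  rw [Finset.mul_sum]
  apply Finset.sum_congr rfl
  intro m _
  show (lam ((m : K) * s ^ j) : ℂ) ^ k * f ((m : K) * s ^ j) * conj (g ((m : K) * s ^ j)) = _
  rw [gp_lam_val M s lam ζ hlamM hlams m m.2 j, ← pow_mul, mul_comm j k]
  ring

theorem gp_sum_A {p : ℕ} {ζ : ℂ} (hζ : IsPrimitiveRoot ζ p) (hp0 : 0 < p) (S : ℕ → ℂ) :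
    ∑ k ∈ Finset.range p, ∑ j ∈ Finset.range p, ζ ^ (k * j) * S j = (p : ℂ) * S 0 := by
  rw [Finset.sum_comm]
  have h : ∀ j ∈ Finset.range p, ∑ k ∈ Finset.range p, ζ ^ (k * j) * S j =
      if 0 = j then (p : ℂ) * S j else 0 := by
    intro j hj
    rw [← Finset.sum_mul]
    have h1 := gp_kernel hζ hp0 0 j hp0 (Finset.mem_range.1 hj)
    simp only [mul_zero, pow_zero, map_one, mul_one] at h1
    rw [h1]
    split_ifs <;> simp
  rw [Finset.sum_congr rfl h, Finset.sum_ite_eq (Finset.range p) 0, if_pos (Finset.mem_range.2 hp0)]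

theorem gp_inversion' {p : ℕ} {ζ : ℂ} (hζ : IsPrimitiveRoot ζ p) (hp0 : 0 < p) (A S : ℕ → ℂ)
    (hA : ∀ k, k < p → A k = ∑ j ∈ Finset.range p, ζ ^ (k * j) * S j) (j : ℕ) (hj : j < p) :
    S j = (p : ℂ)⁻¹ * ∑ k ∈ Finset.range p, conj (ζ ^ (k * j)) * A k := by
  have hp' : (p : ℂ) ≠ 0 := by exact_mod_cast hp0.ne'
  have h1 : ∑ k ∈ Finset.range p, conj (ζ ^ (k * j)) * A k =
      ∑ k ∈ Finset.range p, ∑ i ∈ Finset.range p,
        S i * (ζ ^ (k * i) * conj (ζ ^ (k * j))) := by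
    apply Finset.sum_congr rfl
    intro k hk
    rw [hA k (Finset.mem_range.1 hk), Finset.mul_sum]
    apply Finset.sum_congr rfl
    intro i _
    ring
  rw [h1, Finset.sum_comm]
  have h2 : ∀ i ∈ Finset.range p, ∑ k ∈ Finset.range p,
      S i * (ζ ^ (k * i) * conj (ζ ^ (k * j))) = if i = j then (p : ℂ) * S i else 0 := by
    intro i hi
    rw [← Finset.mul_sum, gp_kernel hζ hp0 j i hj (Finset.mem_range.1 hi)]
    by_cases h : i = j
    · rw [if_pos h, if_pos h.symm]; ring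
    · rw [if_neg h, if_neg (fun h' => h h'.symm), mul_zero]
  rw [Finset.sum_congr rfl h2, Finset.sum_ite_eq' (Finset.range p) j,
    if_pos (Finset.mem_range.2 hj)]
  field_simp

theorem gp_twist_irr {K : Type u} [Group K] [Finite K] (lam : K →* ℂˣ) (k : ℕ) {Ψ : K → ℂ}
    (hΨ : Cfsg.IsIrrCharacter K Ψ) : Cfsg.IsIrrCharacter K (fun x => (lam x : ℂ) ^ k * Ψ x) := by
  have h := isIrr_twist (lam ^ k) hΨ
  have h2 : (fun g => ((lam ^ k) g : ℂ) * Ψ g) = fun x => (lam x : ℂ) ^ k * Ψ x := by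
    funext g
    rw [MonoidHom.pow_apply, Units.val_pow_eq_pow_val]
  rw [h2] at h
  exact h

theorem gp_C3 {K : Type u} [Group K] [Fintype K] {p : ℕ} (hp : p.Prime) (M : Subgroup K)
    [hM : M.Normal] [Fintype M] (hidx : M.index = p) (s : K) (hsM : s ∉ M) (hsp : s ^ p = 1)
    {Ψ Ψ' : K → ℂ} (hΨ : Cfsg.IsIrrCharacter K Ψ) (hΨ' : Cfsg.IsIrrCharacter K Ψ')
    (hne : (fun m : M => Ψ m) ≠ (fun m : M => Ψ' m)) (j : ℕ) (hj : j < p) :
    ∑ m : M, Ψ ((m : K) * s ^ j) * conj (Ψ' ((m : K) * s ^ j)) = 0 := by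
  obtain ⟨lam, ζ, hζ, hlamM, hlams⟩ := gp_exists_lam hp M hidx s hsM
  have hp0 := hp.pos
  have hA : ∀ k, k < p → (0 : ℂ) = ∑ j ∈ Finset.range p, ζ ^ (k * j) *
      ∑ m : M, Ψ ((m : K) * s ^ j) * conj (Ψ' ((m : K) * s ^ j)) := by
    intro k _
    have h1 := gp_T1 hp M hidx s hsM hsp lam ζ hlamM hlams Ψ Ψ' k
    rw [classInner_irr (gp_twist_irr lam k hΨ) hΨ', if_neg] at h1
    · have hK : (Nat.card K : ℂ) ≠ 0 := by exact_mod_cast Nat.card_pos.ne'
      rcases mul_eq_zero.1 h1.symm with h | h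
      · exact absurd (inv_eq_zero.1 h) hK
      · exact h.symm
    · intro h
      apply hne
      funext m
      have h2 : (lam (m : K) : ℂ) ^ k * Ψ m = Ψ' m := congrFun h (m : K)
      rw [hlamM m m.2] at h2
      simpa using h2
  have h2 := gp_inversion' hζ hp0 (fun _ => 0)
    (fun j => ∑ m : M, Ψ ((m : K) * s ^ j) * conj (Ψ' ((m : K) * s ^ j))) (fun k hk => hA k hk)
    j hj
  simpa using h2

theorem gp_vanish {K : Type u} [Group K] {p : ℕ} (hp : p.Prime) (M : Subgroup K) (s : K)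
    (lam : K →* ℂˣ) (ζ : ℂ) (hζ : IsPrimitiveRoot ζ p) (hlamM : ∀ m ∈ M, lam m = 1)
    (hlams : (lam s : ℂ) = ζ) (Ψ : K → ℂ) (k : ℕ) (hk0 : 0 < k) (hkp : k < p)
    (h : (fun x => (lam x : ℂ) ^ k * Ψ x) = Ψ) (m : K) (hm : m ∈ M) (j : ℕ) (hj0 : 0 < j)
    (hjp : j < p) : Ψ (m * s ^ j) = 0 := by
  have h1 : (lam (m * s ^ j) : ℂ) ^ k * Ψ (m * s ^ j) = Ψ (m * s ^ j) := congrFun h (m * s ^ j)
  rw [gp_lam_val M s lam ζ hlamM hlams m hm j, ← pow_mul] at h1
  have h2 : ζ ^ (j * k) ≠ 1 := by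
    intro h3
    have h4 := (hζ.pow_eq_one_iff_dvd _).1 h3
    rcases (Nat.Prime.dvd_mul hp).1 h4 with h5 | h5
    · exact absurd (Nat.le_of_dvd hj0 h5) (by omega)
    · exact absurd (Nat.le_of_dvd hk0 h5) (by omega)
  have h3 : (ζ ^ (j * k) - 1) * Ψ (m * s ^ j) = 0 := by rw [sub_mul, h1, one_mul, sub_self]
  rcases mul_eq_zero.1 h3 with h4 | h4
  · exact absurd (sub_eq_zero.1 h4) h2
  · exact h4

/-- if the twists are distinct, the coset sums are all `|M|` -/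
theorem gp_C2' {K : Type u} [Group K] [Fintype K] {p : ℕ} (hp : p.Prime) (M : Subgroup K)
    [Fintype M] (hidx : M.index = p) (s : K) (hsM : s ∉ M) (hsp : s ^ p = 1)
    (lam : K →* ℂˣ) (ζ : ℂ) (hζ : IsPrimitiveRoot ζ p) (hlamM : ∀ m ∈ M, lam m = 1)
    (hlams : (lam s : ℂ) = ζ) {Ψ : K → ℂ} (hΨ : Cfsg.IsIrrCharacter K Ψ)
    (h0 : ∀ k, 0 < k → k < p → (fun x => (lam x : ℂ) ^ k * Ψ x) ≠ Ψ) (j : ℕ) (hj : j < p) :
    ∑ m : M, Ψ ((m : K) * s ^ j) * conj (Ψ ((m : K) * s ^ j)) = (Nat.card M : ℂ) := by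
  have hp0 := hp.pos
  have hK : (Nat.card K : ℂ) ≠ 0 := by exact_mod_cast Nat.card_pos.ne'
  have hA : ∀ k, k < p → (if k = 0 then (Nat.card K : ℂ) else 0) =
      ∑ j ∈ Finset.range p, ζ ^ (k * j) *
      ∑ m : M, Ψ ((m : K) * s ^ j) * conj (Ψ ((m : K) * s ^ j)) := by
    intro k hk
    have h1 := gp_T1 hp M hidx s hsM hsp lam ζ hlamM hlams Ψ Ψ k
    rw [classInner_irr (gp_twist_irr lam k hΨ) hΨ] at h1
    by_cases hk0 : k = 0
    · rw [if_pos hk0]
      rw [if_pos (by rw [hk0]; funext x; simp)] at h1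
      rw [← mul_one (Nat.card K : ℂ), h1, ← mul_assoc, mul_inv_cancel₀ hK, one_mul]
    · rw [if_neg hk0]
      rw [if_neg (h0 k (Nat.pos_of_ne_zero hk0) hk)] at h1
      rcases mul_eq_zero.1 h1.symm with h | h
      · exact absurd (inv_eq_zero.1 h) hK
      · exact h.symm
  have h2 := gp_inversion' hζ hp0 (fun k => if k = 0 then (Nat.card K : ℂ) else 0)
    (fun j => ∑ m : M, Ψ ((m : K) * s ^ j) * conj (Ψ ((m : K) * s ^ j))) hA j hj
  rw [h2, Finset.sum_eq_single 0]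
  · have hcard : (Nat.card K : ℂ) = (Nat.card M : ℂ) * (p : ℂ) := by
      rw [← hidx, ← Nat.cast_mul, Subgroup.card_mul_index]
    have hp' : (p : ℂ) ≠ 0 := by exact_mod_cast hp0.ne'
    simp only [zero_mul, pow_zero, map_one, one_mul, if_true]
    rw [hcard]
    field_simp
  · intro k _ hk
    rw [if_neg hk, mul_zero]
  · intro h
    exact absurd (Finset.mem_range.2 hp0) h

theorem gp_C1 {K : Type u} [Group K] [Fintype K] {p : ℕ} (hp : p.Prime) (M : Subgroup K)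
    [hM : M.Normal] [Fintype M] (hidx : M.index = p) (s : K) (hsM : s ∉ M) (hsp : s ^ p = 1)
    {Ψ : K → ℂ} (hΨ : Cfsg.IsIrrCharacter K Ψ) :
    Cfsg.IsIrrCharacter M (fun m : M => Ψ m) ∨ ∀ x, x ∉ M → Ψ x = 0 := by
  obtain ⟨lam, ζ, hζ, hlamM, hlams⟩ := gp_exists_lam hp M hidx s hsM
  by_cases hV : ∀ x, x ∉ M → Ψ x = 0
  · exact Or.inr hV
  · left
    have hV' : ∃ x, x ∉ M ∧ Ψ x ≠ 0 := by
      by_contra hcon
      apply hV
      intro x hx
      by_contra hne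
      exact hcon ⟨x, hx, hne⟩
    obtain ⟨x₀, hx₀, hΨx₀⟩ := hV'
    obtain ⟨m₀, hm₀, j₀, hj₀, hx₀eq⟩ := gp_decomp hp M hidx s hsM hsp x₀
    have hj₀0 : 0 < j₀ := by
      rcases Nat.eq_zero_or_pos j₀ with h | h
      · exfalso; apply hx₀; rw [hx₀eq, h, pow_zero, mul_one]; exact hm₀
      · exact h
    have h0 : ∀ k, 0 < k → k < p → (fun x => (lam x : ℂ) ^ k * Ψ x) ≠ Ψ := by
      intro k hk0 hkp h
      apply hΨx₀
      rw [hx₀eq]
      exact gp_vanish hp M s lam ζ hζ hlamM hlams Ψ k hk0 hkp h m₀ hm₀ j₀ hj₀0 hj₀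
    have h1 := gp_C2' hp M hidx s hsM hsp lam ζ hζ hlamM hlams hΨ h0 0 hp.pos
    apply isIrrCharacter_of_norm_one (isCharacter_restrict M (isCharacter_of_isIrrCharacter hΨ))
    unfold Cfsg.classInner
    simp only [pow_zero, mul_one] at h1
    rw [h1, inv_mul_cancel₀]
    exact_mod_cast Nat.card_pos.ne'

theorem gp_C2 {K : Type u} [Group K] [Fintype K] {p : ℕ} (hp : p.Prime) (M : Subgroup K)
    [hM : M.Normal] [Fintype M] (hidx : M.index = p) (s : K) (hsM : s ∉ M) (hsp : s ^ p = 1)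
    {Ψ : K → ℂ} (hΨ : Cfsg.IsIrrCharacter K Ψ)
    (hΨM : Cfsg.IsIrrCharacter M (fun m : M => Ψ m)) (j : ℕ) (hj : j < p) :
    ∑ m : M, Ψ ((m : K) * s ^ j) * conj (Ψ ((m : K) * s ^ j)) = (Nat.card M : ℂ) := by
  obtain ⟨lam, ζ, hζ, hlamM, hlams⟩ := gp_exists_lam hp M hidx s hsM
  apply gp_C2' hp M hidx s hsM hsp lam ζ hζ hlamM hlams hΨ _ j hj
  intro k hk0 hkp h
  -- then Ψ vanishes off M, so its norm is 1/p
  have hvan := gp_vanish hp M s lam ζ hζ hlamM hlams Ψ k hk0 hkp h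
  have h1 := classInner_irr_self hΨ
  have h2 := classInner_irr_self hΨM
  unfold Cfsg.classInner at h1 h2
  rw [gp_sum_K hp M hidx s hsM hsp, Finset.sum_eq_single 0] at h1
  · simp only [pow_zero, mul_one] at h1
    have hM0 : (Nat.card M : ℂ) ≠ 0 := by exact_mod_cast Nat.card_pos.ne'
    have hK0 : (Nat.card K : ℂ) ≠ 0 := by exact_mod_cast Nat.card_pos.ne'
    have hcard : (Nat.card K : ℂ) = (Nat.card M : ℂ) * (p : ℂ) := by
      rw [← hidx, ← Nat.cast_mul, Subgroup.card_mul_index]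
    have h3 : ∑ m : M, Ψ (m : K) * conj (Ψ (m : K)) = (Nat.card M : ℂ) := by
      have := congrArg (fun z => (Nat.card M : ℂ) * z) h2
      simp only at this
      rw [← mul_assoc, mul_inv_cancel₀ hM0, one_mul, mul_one] at this
      exact this
    rw [h3, hcard] at h1
    have hp' : (p : ℂ) ≠ 0 := by exact_mod_cast hp.pos.ne'
    have h4' := (inv_mul_eq_one₀ (mul_ne_zero hM0 hp')).1 h1
    have h4 : (p : ℂ) = 1 := by
      apply mul_left_cancel₀ hM0
      rw [h4', mul_one]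
    have h5 : p = 1 := by exact_mod_cast h4
    exact hp.one_lt.ne' h5
  · intro j hj hj0
    apply Finset.sum_eq_zero
    intro m _
    rw [hvan m m.2 j (Nat.pos_of_ne_zero hj0) (Finset.mem_range.1 hj), zero_mul]
  · intro h
    exact absurd (Finset.mem_range.2 hp.pos) h

/-! ### the coset sum -/

theorem gp_exponent {K : Type u} [Group K] [Finite K] {p : ℕ} (hp : p.Prime) (M : Subgroup K)
    (hcop : (Nat.card M).Coprime p) (t : K) (htp : t ^ p = 1) :
    ∃ e : ℕ, (∀ c ∈ M, c ^ e = 1) ∧ t ^ e = t := by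
  let e := Nat.chineseRemainder hcop 0 1
  refine ⟨e.1, ?_, ?_⟩
  · intro c hc
    have h1 : Nat.card M ∣ e.1 := (Nat.modEq_zero_iff_dvd).1 e.2.1
    have h2 : orderOf c ∣ Nat.card M := Subgroup.orderOf_dvd_natCard M hc
    exact orderOf_dvd_iff_pow_eq_one.1 (h2.trans h1)
  · have h1 : e.1 % p = 1 := by
      have h2 := e.2.2
      rw [Nat.ModEq, Nat.mod_eq_of_lt hp.one_lt] at h2
      exact h2
    rw [pow_eq_pow_mod e.1 htp, h1, pow_one]

theorem gp_coset_sum {K : Type u} [Group K] [Fintype K] {p : ℕ} (hp : p.Prime) (M : Subgroup K)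
    [hM : M.Normal] [Fintype M] (hcop : (Nat.card M).Coprime p) (t : K) (htp : t ^ p = 1)
    (C : Subgroup K) [Fintype C] (hC : C = M ⊓ Subgroup.centralizer {t}) (f : K → ℂ)
    (hf : Cfsg.IsClassFunction K f) :
    (Nat.card C : ℂ) * ∑ m : M, f ((m : K) * t) = (Nat.card M : ℂ) * ∑ c : C, f ((c : K) * t) := by
  classical
  have hCM : ∀ c ∈ C, c ∈ M := fun c hc => by rw [hC] at hc; exact hc.1
  have hCt : ∀ c ∈ C, Commute c t := fun c hc => by
    rw [hC] at hc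
    exact (Subgroup.mem_centralizer_iff.1 hc.2 t rfl).symm
  obtain ⟨e, he1, he2⟩ := gp_exponent hp M hcop t htp
  have hpow : ∀ c ∈ C, (c * t) ^ e = t := by
    intro c hc
    rw [(hCt c hc).mul_pow, he1 c (hCM c hc), one_mul, he2]
  let Φ : M × C → K := fun a => (a.1 : K) * ((a.2 : K) * t) * (a.1 : K)⁻¹
  -- fibre lemma
  have hfib : ∀ a a' : M × C, Φ a' = Φ a →
      ∃ z : C, (a'.1 : K) = (a.1 : K) * (z : K)⁻¹ ∧
        (a'.2 : K) = (z : K) * (a.2 : K) * (z : K)⁻¹ := by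
    rintro ⟨x, c⟩ ⟨x', c'⟩ h
    have h0 : (x' : K) * ((c' : K) * t) * (x' : K)⁻¹ = (x : K) * ((c : K) * t) * (x : K)⁻¹ := h
    have h1 : ((x' : K)⁻¹ * x) * ((c : K) * t) * ((x' : K)⁻¹ * x)⁻¹ = (c' : K) * t := by
      calc ((x' : K)⁻¹ * x) * ((c : K) * t) * ((x' : K)⁻¹ * x)⁻¹
          = (x' : K)⁻¹ * ((x : K) * ((c : K) * t) * (x : K)⁻¹) * x' := by group
        _ = (x' : K)⁻¹ * ((x' : K) * ((c' : K) * t) * (x' : K)⁻¹) * x' := by rw [h0]
        _ = (c' : K) * t := by group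
    have h2 : ((x' : K)⁻¹ * x) * t * ((x' : K)⁻¹ * x)⁻¹ = t := by
      have h3 : (((x' : K)⁻¹ * x) * ((c : K) * t) * ((x' : K)⁻¹ * x)⁻¹) ^ e = ((c' : K) * t) ^ e := by
        rw [h1]
      rw [conj_pow, hpow c c.2, hpow c' c'.2] at h3
      exact h3
    have hzM : (x' : K)⁻¹ * x ∈ M := M.mul_mem (M.inv_mem x'.2) x.2
    have hzt : ((x' : K)⁻¹ * x) * t = t * ((x' : K)⁻¹ * x) := by
      calc ((x' : K)⁻¹ * x) * t
          = (((x' : K)⁻¹ * x) * t * ((x' : K)⁻¹ * x)⁻¹) * ((x' : K)⁻¹ * x) := by group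
        _ = t * ((x' : K)⁻¹ * x) := by rw [h2]
    have hzC : (x' : K)⁻¹ * x ∈ C := by
      rw [hC]
      exact Subgroup.mem_inf.2 ⟨hzM, Subgroup.mem_centralizer_iff.2 (fun y hy => by
        rw [Set.mem_singleton_iff] at hy
        rw [hy]
        exact hzt.symm)⟩
    refine ⟨⟨(x' : K)⁻¹ * x, hzC⟩, ?_, ?_⟩
    · show (x' : K) = (x : K) * ((x' : K)⁻¹ * x)⁻¹
      group
    · show (c' : K) = ((x' : K)⁻¹ * x) * (c : K) * ((x' : K)⁻¹ * x)⁻¹
      have h3 : ((x' : K)⁻¹ * x) * ((c : K) * t) * ((x' : K)⁻¹ * x)⁻¹ =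
          (((x' : K)⁻¹ * x) * (c : K) * ((x' : K)⁻¹ * x)⁻¹) *
            (((x' : K)⁻¹ * x) * t * ((x' : K)⁻¹ * x)⁻¹) := by group
      rw [h3, h2] at h1
      exact (mul_right_cancel h1).symm
  -- the fibres have `|C|` elements
  have hfibcard : ∀ a : M × C, (Finset.univ.filter (fun a' => Φ a' = Φ a)).card = Fintype.card C := by
    intro a
    let ι : C → M × C := fun z => (a.1 * (⟨z, hCM z z.2⟩ : M)⁻¹, z * a.2 * z⁻¹)
    have hιinj : Function.Injective ι := by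
      intro z z' h
      have h1 : a.1 * (⟨z, hCM z z.2⟩ : M)⁻¹ = a.1 * (⟨z', hCM z' z'.2⟩ : M)⁻¹ := congrArg Prod.fst h
      have h2 := inv_injective (mul_left_cancel h1)
      exact Subtype.ext (show (z : K) = (z' : K) from congrArg (fun w : M => (w : K)) h2)
    have himg : Finset.univ.filter (fun a' => Φ a' = Φ a) = Finset.univ.image ι := by
      ext a'
      simp only [Finset.mem_filter, Finset.mem_univ, true_and, Finset.mem_image]
      constructor
      · intro h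
        obtain ⟨z, hz1, hz2⟩ := hfib a a' h
        refine ⟨z, ?_⟩
        apply Prod.ext
        · apply Subtype.ext
          show (a.1 : K) * (z : K)⁻¹ = (a'.1 : K)
          exact hz1.symm
        · apply Subtype.ext
          show (z : K) * (a.2 : K) * (z : K)⁻¹ = (a'.2 : K)
          exact hz2.symm
      · rintro ⟨z, rfl⟩
        show ((a.1 : K) * (z : K)⁻¹) * (((z : K) * (a.2 : K) * (z : K)⁻¹) * t) *
          ((a.1 : K) * (z : K)⁻¹)⁻¹ = (a.1 : K) * ((a.2 : K) * t) * (a.1 : K)⁻¹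
        have hz := (hCt z z.2).eq
        calc ((a.1 : K) * (z : K)⁻¹) * (((z : K) * (a.2 : K) * (z : K)⁻¹) * t) *
              ((a.1 : K) * (z : K)⁻¹)⁻¹
            = (a.1 : K) * (a.2 : K) * ((z : K)⁻¹ * (t * z)) * (a.1 : K)⁻¹ := by group
          _ = (a.1 : K) * (a.2 : K) * ((z : K)⁻¹ * (z * t)) * (a.1 : K)⁻¹ := by rw [hz]
          _ = (a.1 : K) * ((a.2 : K) * t) * (a.1 : K)⁻¹ := by group
    rw [himg, Finset.card_image_of_injective _ hιinj, Finset.card_univ]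
  -- first evaluation
  have hsum1 : ∑ a : M × C, f (Φ a) = (Nat.card M : ℂ) * ∑ c : C, f ((c : K) * t) := by
    rw [Fintype.sum_prod_type]
    have h1 : ∀ x : M, ∑ c : C, f (Φ (x, c)) = ∑ c : C, f ((c : K) * t) := by
      intro x
      apply Finset.sum_congr rfl
      intro c _
      exact hf ((c : K) * t) (x : K)
    rw [Finset.sum_congr rfl (fun x _ => h1 x), Finset.sum_const, Finset.card_univ, nsmul_eq_mul,
      Nat.card_eq_fintype_card]
  -- second evaluation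
  have hsum2 : ∑ a : M × C, f (Φ a) =
      (Nat.card C : ℂ) * ∑ y ∈ Finset.univ.image Φ, f y := by
    rw [Finset.sum_comp f Φ, Finset.mul_sum]
    apply Finset.sum_congr rfl
    intro y hy
    obtain ⟨a, -, rfl⟩ := Finset.mem_image.1 hy
    rw [hfibcard a, nsmul_eq_mul, Nat.card_eq_fintype_card]
  -- the image is the coset
  have himage : Finset.univ.image Φ = Finset.univ.image (fun m : M => (m : K) * t) := by
    apply Finset.eq_of_subset_of_card_le
    · intro y hy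
      obtain ⟨a, -, rfl⟩ := Finset.mem_image.1 hy
      rw [Finset.mem_image]
      refine ⟨⟨(a.1 : K) * (a.2 : K) * (t * (a.1 : K)⁻¹ * t⁻¹), ?_⟩, Finset.mem_univ _, ?_⟩
      · exact M.mul_mem (M.mul_mem a.1.2 (hCM _ a.2.2)) (hM.conj_mem _ (M.inv_mem a.1.2) t)
      · show (a.1 : K) * (a.2 : K) * (t * (a.1 : K)⁻¹ * t⁻¹) * t = (a.1 : K) * ((a.2 : K) * t) * (a.1 : K)⁻¹
        group
    · have h1 := Finset.card_eq_sum_card_image Φ Finset.univ
      have h2 : ∑ b ∈ Finset.univ.image Φ, (Finset.univ.filter (fun a => Φ a = b)).card =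
          (Finset.univ.image Φ).card * Fintype.card C := by
        rw [Finset.sum_congr rfl (fun b hb => by
          obtain ⟨a, -, rfl⟩ := Finset.mem_image.1 hb
          exact hfibcard a : ∀ b ∈ Finset.univ.image Φ,
            (Finset.univ.filter (fun a => Φ a = b)).card = Fintype.card C),
          Finset.sum_const, smul_eq_mul]
      rw [h2, Finset.card_univ, Fintype.card_prod] at h1
      have h3 : (Finset.univ.image Φ).card = Fintype.card M :=
        (Nat.eq_of_mul_eq_mul_right Fintype.card_pos h1).symm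
      rw [h3]
      exact (Finset.card_image_le).trans (le_of_eq Finset.card_univ)
  have hsum3 : ∑ y ∈ Finset.univ.image (fun m : M => (m : K) * t), f y = ∑ m : M, f ((m : K) * t) := by
    rw [Finset.sum_image]
    intro m _ m' _ h
    exact Subtype.ext (mul_right_cancel h)
  rw [← hsum1, hsum2, himage, hsum3]

theorem gp_sum_zpowers {K : Type u} [Group K] [Finite K] (s : K) (g : K → ℂ)
    [Fintype (Subgroup.zpowers s)] :
    ∑ u : Subgroup.zpowers s, g (u : K) = ∑ j ∈ Finset.range (orderOf s), g (s ^ j) := by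
  rw [← Fin.sum_univ_eq_sum_range (fun j => g (s ^ j)) (orderOf s)]
  rw [← Equiv.sum_comp (finEquivZPowers (isOfFinOrder_of_finite s)) (fun u => g (u : K))]
  apply Finset.sum_congr rfl
  intro n _
  rw [finEquivZPowers_apply]

theorem gp_parseval_cf {C : Type u} [Group C] [Fintype C] [Fintype (Cfsg.IrrCharacter C)]
    (f : C → ℂ) (hf : Cfsg.IsClassFunction C f) :
    Cfsg.classInner f f =
      ∑ β : Cfsg.IrrCharacter C, Cfsg.classInner f β * conj (Cfsg.classInner f β) := by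
  have h := classFunction_expansion_sum f hf
  have h2 : Cfsg.classInner f f =
      Cfsg.classInner (∑ β : Cfsg.IrrCharacter C, Cfsg.classInner f β • (β : C → ℂ)) f := by
    rw [← h]
  rw [h2, classInner_sum_left]
  apply Finset.sum_congr rfl
  intro β _
  rw [classInner_smul_left, ← classInner_conj_symm f β]

theorem gp_integral {K : Type u} [Group K] [Fintype K] {p : ℕ} (hp : p.Prime) (s : K)
    (hs1 : s ≠ 1) (hsp : s ^ p = 1) (C : Subgroup K) [Fintype C]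
    (hCs : ∀ c ∈ C, Commute c s) (lam : K →* ℂˣ) (ζ : ℂ) (hlams : (lam s : ℂ) = ζ)
    (Ψ : K → ℂ) (hΨ : Cfsg.IsCharacter K Ψ) (β : C → ℂ) (hβ : Cfsg.IsCharacter C β) (k : ℕ) :
    ∃ n : ℕ, (n : ℂ) = (p : ℂ)⁻¹ * ∑ j ∈ Finset.range p, conj (ζ ^ (k * j)) *
      Cfsg.classInner (fun c : C => Ψ ((c : K) * s ^ j)) β := by
  classical
  haveI : Fact p.Prime := ⟨hp⟩
  have hord : orderOf s = p := orderOf_eq_prime hsp hs1
  haveI : Fintype (Subgroup.zpowers s) := Fintype.ofFinite _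
  have hcomm : ∀ (c : C) (u : Subgroup.zpowers s),
      Commute (C.subtype c) ((Subgroup.zpowers s).subtype u) := by
    intro c u
    obtain ⟨n, hn⟩ := Subgroup.mem_zpowers_iff.1 u.2
    show Commute (c : K) (u : K)
    rw [← hn]
    exact (hCs c c.2).zpow_right n
  let ι : C × Subgroup.zpowers s →* K :=
    MonoidHom.noncommCoprod C.subtype (Subgroup.zpowers s).subtype hcomm
  have hι : ∀ a : C × Subgroup.zpowers s, ι a = (a.1 : K) * (a.2 : K) := fun a => rfl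
  have hΞ : Cfsg.IsCharacter (C × Subgroup.zpowers s) (Ψ ∘ ι) := isCharacter_comp ι hΨ
  have hlamk : Cfsg.IsCharacter K (fun x => (lam x : ℂ) ^ k) := by
    have h := isCharacter_of_isIrrCharacter (gp_twist_irr lam k (isIrrCharacter_one K))
    have h2 : (fun x => (lam x : ℂ) ^ k * (1 : ℂ)) = fun x => (lam x : ℂ) ^ k := by
      funext x; rw [mul_one]
    rw [h2] at h; exact h
  have hΘ : Cfsg.IsCharacter (C × Subgroup.zpowers s)
      ((β ∘ (MonoidHom.fst C (Subgroup.zpowers s))) *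
        ((fun x => (lam x : ℂ) ^ k) ∘
          ((Subgroup.zpowers s).subtype.comp (MonoidHom.snd C (Subgroup.zpowers s))))) :=
    isCharacter_mul (isCharacter_comp (MonoidHom.fst C (Subgroup.zpowers s)) hβ)
      (isCharacter_comp ((Subgroup.zpowers s).subtype.comp
        (MonoidHom.snd C (Subgroup.zpowers s))) hlamk)
  obtain ⟨n, hn⟩ := classInner_char_char_nat hΞ hΘ
  refine ⟨n, ?_⟩
  rw [← hn]
  unfold Cfsg.classInner
  rw [Fintype.sum_prod_type, Nat.card_prod, Nat.card_zpowers, hord]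
  have hstep : ∀ c : C, ∑ u : Subgroup.zpowers s, (Ψ ∘ ι) (c, u) *
      conj (((β ∘ (MonoidHom.fst C (Subgroup.zpowers s))) *
        ((fun x => (lam x : ℂ) ^ k) ∘
          ((Subgroup.zpowers s).subtype.comp (MonoidHom.snd C (Subgroup.zpowers s))))) (c, u))
      = ∑ j ∈ Finset.range p, Ψ ((c : K) * s ^ j) * conj (β c) * conj (ζ ^ (k * j)) := by
    intro c
    have h1 := gp_sum_zpowers s (fun y => Ψ ((c : K) * y) * conj (β c * (lam y : ℂ) ^ k))
    rw [hord] at h1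
    refine Eq.trans ?_ (h1.trans ?_)
    · rfl
    · apply Finset.sum_congr rfl
      intro j _
      rw [map_pow lam, Units.val_pow_eq_pow_val, hlams, ← pow_mul, mul_comm j k, map_mul]
      ring
  rw [Finset.sum_congr rfl (fun c _ => hstep c), Finset.sum_comm, Finset.mul_sum, Finset.mul_sum]
  apply Finset.sum_congr rfl
  intro j _
  rw [← Finset.sum_mul, Nat.cast_mul, mul_inv]
  show _ = (p : ℂ)⁻¹ * (conj (ζ ^ (k * j)) *
    ((Nat.card C : ℂ)⁻¹ * ∑ c : C, Ψ ((c : K) * s ^ j) * conj (β c)))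
  ring

/-! ### the key computation -/

theorem gp_key {K : Type u} [Group K] [Fintype K] {p : ℕ} (hp : p.Prime) (M : Subgroup K)
    [hM : M.Normal] [Fintype M] (hidx : M.index = p) (s : K) (hsM : s ∉ M) (hsp : s ^ p = 1)
    (hcop : (Nat.card M).Coprime p) (C : Subgroup K) [Fintype C]
    (hC : C = M ⊓ Subgroup.centralizer {s}) (hCM : C ≤ M)
    (χ : M → ℂ) (hχ : Cfsg.IsIrrCharacter M χ) (Ψ : K → ℂ) (hΨ : Cfsg.IsIrrCharacter K Ψ)
    (hres : ∀ m : M, Ψ m = χ m) :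
    ∃ β₀ : C → ℂ, Cfsg.IsIrrCharacter C β₀ ∧ ∃ a : ℂ, a * conj a = 1 ∧
      (∀ c : C, Ψ ((c : K) * s) = a * β₀ c) ∧
      (∃ m₀ : ℕ, Cfsg.classInner (fun c : C => χ ⟨c, hCM c.2⟩) β₀ = m₀ ∧
        ((m₀ : ℤ) ≡ 1 [ZMOD p] ∨ (m₀ : ℤ) ≡ -1 [ZMOD p])) ∧
      (∀ β : C → ℂ, Cfsg.IsIrrCharacter C β → β ≠ β₀ →
        ∃ m : ℕ, Cfsg.classInner (fun c : C => χ ⟨c, hCM c.2⟩) β = m ∧ p ∣ m) := by
  classical
  haveI : Fintype (Cfsg.IrrCharacter C) := Fintype.ofFinite _
  obtain ⟨lam, ζ, hζ, hlamM, hlams⟩ := gp_exists_lam hp M hidx s hsM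
  have hp0 := hp.pos
  have hp1 := hp.one_lt
  have hs1 : s ≠ 1 := fun h => hsM (by rw [h]; exact M.one_mem)
  have hΨcl := isClassFunction_of_isCharacter (isCharacter_of_isIrrCharacter hΨ)
  have hΨM : Cfsg.IsIrrCharacter M (fun m : M => Ψ m) := by
    have h : (fun m : M => Ψ m) = χ := funext hres
    rw [h]; exact hχ
  have hCs : ∀ c ∈ C, Commute c s := fun c hc => by
    rw [hC] at hc
    exact (Subgroup.mem_centralizer_iff.1 hc.2 s rfl).symm
  -- ψ
  obtain ⟨ψ, hψdef⟩ : ∃ ψ : ℕ → C → ℂ, ψ = fun (j : ℕ) (c : C) => Ψ ((c : K) * s ^ j) :=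
    ⟨fun (j : ℕ) (c : C) => Ψ ((c : K) * s ^ j), rfl⟩
  have hψ : ∀ j (c : C), ψ j c = Ψ ((c : K) * s ^ j) := fun j c => by rw [hψdef]
  have hψcl : ∀ j, Cfsg.IsClassFunction C (ψ j) := by
    intro j g h
    rw [hψ, hψ]
    have hc : Commute (h : K) (s ^ j) := (hCs h h.2).pow_right j
    have h1 : ((h * g * h⁻¹ : C) : K) * s ^ j = (h : K) * ((g : K) * s ^ j) * (h : K)⁻¹ := by
      rw [Subgroup.coe_mul, Subgroup.coe_mul, Subgroup.coe_inv, mul_assoc ((h : K) * (g : K)),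
        hc.inv_left.eq]
      group
    rw [h1]
    exact hΨcl _ _
  have hnorm : ∀ j, 0 < j → j < p → Cfsg.classInner (ψ j) (ψ j) = 1 := by
    intro j hj0 hjp
    have hCj : C = M ⊓ Subgroup.centralizer {s ^ j} := by
      obtain ⟨b, hb⟩ := gp_pow_gen hp s hsp j hj0 hjp
      rw [hC]
      ext x
      rw [Subgroup.mem_inf, Subgroup.mem_inf, Subgroup.mem_centralizer_iff,
        Subgroup.mem_centralizer_iff]
      constructor
      · rintro ⟨h1, h2⟩
        refine ⟨h1, ?_⟩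
        intro y hy
        rw [Set.mem_singleton_iff] at hy
        rw [hy]
        exact ((show Commute s x from h2 s rfl).pow_left j).eq
      · rintro ⟨h1, h2⟩
        refine ⟨h1, ?_⟩
        intro y hy
        rw [Set.mem_singleton_iff] at hy
        rw [hy, ← hb]
        exact ((show Commute (s ^ j) x from h2 (s ^ j) rfl).pow_left b).eq
    have htp : (s ^ j) ^ p = 1 := by rw [← pow_mul, mul_comm, pow_mul, hsp, one_pow]
    have h1 := gp_coset_sum hp M hcop (s ^ j) htp C hCj (fun x => Ψ x * conj (Ψ x))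
      (by intro g h; show Ψ (h * g * h⁻¹) * conj (Ψ (h * g * h⁻¹)) = Ψ g * conj (Ψ g)
          rw [hΨcl g h])
    have h2 := gp_C2 hp M hidx s hsM hsp hΨ hΨM j hjp
    have h1' : (Nat.card C : ℂ) * ∑ m : M, Ψ ((m : K) * s ^ j) * conj (Ψ ((m : K) * s ^ j)) =
        (Nat.card M : ℂ) * ∑ c : C, Ψ ((c : K) * s ^ j) * conj (Ψ ((c : K) * s ^ j)) := h1
    rw [h2] at h1'
    have hM0 : (Nat.card M : ℂ) ≠ 0 := by exact_mod_cast Nat.card_pos.ne'
    have hC0 : (Nat.card C : ℂ) ≠ 0 := by exact_mod_cast Nat.card_pos.ne'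
    have h3 : ∑ c : C, Ψ ((c : K) * s ^ j) * conj (Ψ ((c : K) * s ^ j)) = (Nat.card C : ℂ) := by
      apply mul_left_cancel₀ hM0
      rw [← h1', mul_comm]
    unfold Cfsg.classInner
    have h4 : ∑ g : C, ψ j g * conj (ψ j g) =
        ∑ c : C, Ψ ((c : K) * s ^ j) * conj (Ψ ((c : K) * s ^ j)) := by
      apply Finset.sum_congr rfl
      intro c _
      rw [hψ]
    rw [h4, h3, inv_mul_cancel₀ hC0]
  -- the coefficients
  obtain ⟨a, hadef⟩ : ∃ a : Cfsg.IrrCharacter C → ℕ → ℂ,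
      a = fun (β : Cfsg.IrrCharacter C) (j : ℕ) => Cfsg.classInner (ψ j) (β : C → ℂ) :=
    ⟨fun (β : Cfsg.IrrCharacter C) (j : ℕ) => Cfsg.classInner (ψ j) (β : C → ℂ), rfl⟩
  have ha : ∀ β j, a β j = Cfsg.classInner (ψ j) (β : C → ℂ) := fun β j => by rw [hadef]
  have hint : ∀ (β : Cfsg.IrrCharacter C) (k : ℕ), ∃ n : ℕ,
      (n : ℂ) = (p : ℂ)⁻¹ * ∑ j ∈ Finset.range p, conj (ζ ^ (k * j)) * a β j := by
    intro β k
    obtain ⟨n, hn⟩ := gp_integral hp s hs1 hsp C hCs lam ζ hlams Ψ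
      (isCharacter_of_isIrrCharacter hΨ) β (isCharacter_of_isIrrCharacter β.2) k
    refine ⟨n, ?_⟩
    rw [hn]
    congr 1
    apply Finset.sum_congr rfl
    intro j _
    rw [ha, hψdef]
  choose B hB using hint
  have hinv : ∀ β j, j < p → a β j = ∑ k ∈ Finset.range p, ζ ^ (k * j) * (B β k : ℂ) :=
    fun β j hj => gp_inversion hζ hp0 (a β) (fun k => (B β k : ℂ)) (fun k _ => hB β k) j hj
  have hpars : ∀ β, ∑ j ∈ Finset.range p, a β j * conj (a β j) =
      (p : ℂ) * ∑ k ∈ Finset.range p, (((B β k : ℕ) : ℤ) : ℂ) ^ 2 :=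
    fun β => gp_parseval hζ hp0 (a β) (fun k => ((B β k : ℕ) : ℤ))
      (fun j hj => by rw [hinv β j hj]; simp)
  have ha0 : ∀ β, a β 0 = ∑ k ∈ Finset.range p, (B β k : ℂ) := by
    intro β; rw [hinv β 0 hp0]; simp
  -- Q
  obtain ⟨Q, hQdef⟩ : ∃ Q : Cfsg.IrrCharacter C → ℤ, Q = fun (β : Cfsg.IrrCharacter C) =>
      (p : ℤ) * ∑ k ∈ Finset.range p, ((B β k : ℕ) : ℤ) ^ 2 -
        (∑ k ∈ Finset.range p, ((B β k : ℕ) : ℤ)) ^ 2 :=
    ⟨fun (β : Cfsg.IrrCharacter C) =>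
      (p : ℤ) * ∑ k ∈ Finset.range p, ((B β k : ℕ) : ℤ) ^ 2 -
        (∑ k ∈ Finset.range p, ((B β k : ℕ) : ℤ)) ^ 2, rfl⟩
  have hQe : ∀ β, Q β = (p : ℤ) * ∑ k ∈ Finset.range p, ((B β k : ℕ) : ℤ) ^ 2 -
        (∑ k ∈ Finset.range p, ((B β k : ℕ) : ℤ)) ^ 2 := fun β => by rw [hQdef]
  have hQ : ∀ β, ((Q β : ℤ) : ℂ) = ∑ j ∈ Finset.Ico 1 p, a β j * conj (a β j) := by
    intro β
    have h1 := hpars β
    rw [Finset.range_eq_Ico, Finset.sum_eq_sum_Ico_succ_bot hp0] at h1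
    have h2 : a β 0 * conj (a β 0) = (∑ k ∈ Finset.range p, (B β k : ℂ)) ^ 2 := by
      rw [ha0 β, map_sum, pow_two]
      congr 1
      apply Finset.sum_congr rfl
      intro k _
      rw [Complex.conj_natCast]
    rw [hQe β]
    push_cast
    push_cast at h1
    rw [Finset.range_eq_Ico] at h2 ⊢
    linear_combination h2 - h1
  have hsumβ : ∀ j, 0 < j → j < p → ∑ β : Cfsg.IrrCharacter C, a β j * conj (a β j) = 1 := by
    intro j hj0 hjp
    rw [← hnorm j hj0 hjp, gp_parseval_cf (ψ j) (hψcl j)]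
    apply Finset.sum_congr rfl
    intro β _
    rw [ha]
  have hQsum : ∑ β : Cfsg.IrrCharacter C, Q β = (p : ℤ) - 1 := by
    have h1 : ((∑ β : Cfsg.IrrCharacter C, Q β : ℤ) : ℂ) = (((p : ℤ) - 1 : ℤ) : ℂ) := by
      push_cast
      rw [Finset.sum_congr rfl (fun β _ => hQ β), Finset.sum_comm]
      rw [Finset.sum_congr rfl (fun j hj => hsumβ j (by have := (Finset.mem_Ico.1 hj).1; omega)
        (Finset.mem_Ico.1 hj).2)]
      rw [Finset.sum_const, Nat.card_Ico, nsmul_eq_mul, mul_one, Nat.cast_sub hp1.le]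
      simp
    exact_mod_cast h1
  have hQnn : ∀ β, 0 ≤ Q β := by
    intro β
    have h := gp_int_nonneg (Finset.range p) (fun k => ((B β k : ℕ) : ℤ))
    rw [Finset.card_range] at h
    rw [hQe β]
    exact h
  have hQlb : ∀ β, (∃ k < p, ∃ l < p, B β k ≠ B β l) → (p : ℤ) - 1 ≤ Q β := by
    intro β ⟨k, hk, l, hl, hkl⟩
    have h := gp_int_lb (fun k => ((B β k : ℕ) : ℤ)) (Finset.range p)
      ⟨k, Finset.mem_range.2 hk, l, Finset.mem_range.2 hl, by exact_mod_cast hkl⟩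
    rw [Finset.card_range] at h
    rw [hQe β]
    exact h
  have hQconst : ∀ β, (∀ k < p, B β k = B β 0) → Q β = 0 := by
    intro β h
    have e1 : ∑ k ∈ Finset.range p, ((B β k : ℕ) : ℤ) ^ 2 = (p : ℤ) * ((B β 0 : ℕ) : ℤ) ^ 2 := by
      rw [Finset.sum_congr rfl (fun k hk => by rw [h k (Finset.mem_range.1 hk)] :
        ∀ k ∈ Finset.range p, ((B β k : ℕ) : ℤ) ^ 2 = ((B β 0 : ℕ) : ℤ) ^ 2),
        Finset.sum_const, Finset.card_range, nsmul_eq_mul]
    have e2 : ∑ k ∈ Finset.range p, ((B β k : ℕ) : ℤ) = (p : ℤ) * ((B β 0 : ℕ) : ℤ) := by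
      rw [Finset.sum_congr rfl (fun k hk => by rw [h k (Finset.mem_range.1 hk)] :
        ∀ k ∈ Finset.range p, ((B β k : ℕ) : ℤ) = ((B β 0 : ℕ) : ℤ)),
        Finset.sum_const, Finset.card_range, nsmul_eq_mul]
    rw [hQe β, e1, e2]
    ring
  obtain ⟨β₀, hβ₀⟩ : ∃ β₀ : Cfsg.IrrCharacter C, 0 < Q β₀ := by
    by_contra hcon
    have h0 : ∑ β : Cfsg.IrrCharacter C, Q β = 0 :=
      Finset.sum_eq_zero (fun β _ => le_antisymm (not_lt.1 (fun h => hcon ⟨β, h⟩)) (hQnn β))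
    rw [hQsum] at h0
    have h1 : (p : ℤ) = 1 := by linarith
    have h2 : p = 1 := by exact_mod_cast h1
    omega
  have hβ₀nc : ∃ k < p, ∃ l < p, B β₀ k ≠ B β₀ l := by
    by_contra hcon
    have hc : ∀ k < p, B β₀ k = B β₀ 0 := by
      intro k hk
      by_contra hne
      exact hcon ⟨k, hk, 0, hp0, hne⟩
    have h := hQconst β₀ hc
    omega
  have hQβ₀ : Q β₀ = (p : ℤ) - 1 ∧ ∀ β, β ≠ β₀ → Q β = 0 := by
    have h1 := hQlb β₀ hβ₀nc
    have h2 : ∑ β : Cfsg.IrrCharacter C, Q β = Q β₀ + ∑ β ∈ Finset.univ.erase β₀, Q β :=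
      (Finset.add_sum_erase Finset.univ Q (Finset.mem_univ β₀)).symm
    have h3 : 0 ≤ ∑ β ∈ Finset.univ.erase β₀, Q β := Finset.sum_nonneg (fun β _ => hQnn β)
    have h4 : ∑ β ∈ Finset.univ.erase β₀, Q β = 0 := by linarith
    refine ⟨by linarith, ?_⟩
    intro β hβ
    exact (Finset.sum_eq_zero_iff_of_nonneg (fun β _ => hQnn β)).1 h4 β
      (Finset.mem_erase.2 ⟨hβ, Finset.mem_univ β⟩)
  have hconst : ∀ β, β ≠ β₀ → ∀ k < p, B β k = B β 0 := by
    intro β hβ k hk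
    by_contra hne
    have h1 := hQlb β ⟨k, hk, 0, hp0, hne⟩
    rw [hQβ₀.2 β hβ] at h1
    have h2 : (p : ℤ) ≤ 1 := by linarith
    have h3 : p ≤ 1 := by exact_mod_cast h2
    omega
  have hχC : ∀ β : Cfsg.IrrCharacter C,
      Cfsg.classInner (fun c : C => χ ⟨c, hCM c.2⟩) (β : C → ℂ) =
        ((∑ k ∈ Finset.range p, B β k : ℕ) : ℂ) := by
    intro β
    have h1 : (fun c : C => χ ⟨c, hCM c.2⟩) = ψ 0 := by
      funext c
      rw [hψ, pow_zero, mul_one]
      exact (hres ⟨c, hCM c.2⟩).symm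
    rw [h1, ← ha, ha0 β]
    push_cast
    rfl
  have ha1 : ∀ β, β ≠ β₀ → a β 1 = 0 := by
    intro β hβ
    rw [hinv β 1 hp1]
    rw [Finset.sum_congr rfl (fun k hk => by rw [hconst β hβ k (Finset.mem_range.1 hk)] :
      ∀ k ∈ Finset.range p, ζ ^ (k * 1) * (B β k : ℂ) = ζ ^ (k * 1) * (B β 0 : ℂ))]
    rw [← Finset.sum_mul]
    have h1 := gp_kernel hζ hp0 0 1 hp0 hp1
    simp only [mul_zero, pow_zero, map_one, mul_one] at h1
    rw [if_neg (by norm_num)] at h1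
    simp only [mul_one]
    rw [h1, zero_mul]
  refine ⟨β₀, β₀.2, a β₀ 1, ?_, ?_, ?_, ?_⟩
  · have h := hsumβ 1 Nat.one_pos hp1
    rw [Finset.sum_eq_single β₀ (fun β _ hβ => by rw [ha1 β hβ, zero_mul])
      (fun h => absurd (Finset.mem_univ _) h)] at h
    exact h
  · intro c
    have h := classFunction_expansion_sum (ψ 1) (hψcl 1)
    have h2 := congrFun h c
    rw [Finset.sum_apply, Finset.sum_eq_single β₀ (fun β _ hβ => by
        rw [Pi.smul_apply, ← ha, ha1 β hβ, zero_smul])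
      (fun h => absurd (Finset.mem_univ _) h)] at h2
    rw [hψ, pow_one] at h2
    rw [h2, Pi.smul_apply, ← ha, smul_eq_mul]
  · refine ⟨∑ k ∈ Finset.range p, B β₀ k, hχC β₀, ?_⟩
    have hq := hQβ₀.1
    rw [hQe β₀] at hq
    have hdvd : (p : ℤ) ∣ ((∑ k ∈ Finset.range p, B β₀ k : ℕ) : ℤ) ^ 2 - 1 := by
      refine ⟨∑ k ∈ Finset.range p, ((B β₀ k : ℕ) : ℤ) ^ 2 - 1, ?_⟩
      push_cast
      linear_combination -hq
    have hfac : ((∑ k ∈ Finset.range p, B β₀ k : ℕ) : ℤ) ^ 2 - 1 =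
        (((∑ k ∈ Finset.range p, B β₀ k : ℕ) : ℤ) - 1) *
          (((∑ k ∈ Finset.range p, B β₀ k : ℕ) : ℤ) + 1) := by ring
    rw [hfac] at hdvd
    rcases (Nat.prime_iff_prime_int.1 hp).dvd_or_dvd hdvd with h | h
    · left
      exact (Int.modEq_iff_dvd.2 h).symm
    · right
      exact (Int.modEq_iff_dvd.2 (by rw [sub_neg_eq_add]; exact h)).symm
  · intro β hβ hne
    have hne' : (⟨β, hβ⟩ : Cfsg.IrrCharacter C) ≠ β₀ := fun h => hne (congrArg Subtype.val h)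
    refine ⟨p * B ⟨β, hβ⟩ 0, ?_, dvd_mul_right _ _⟩
    have h1 := hχC ⟨β, hβ⟩
    rw [h1]
    rw [Finset.sum_congr rfl (fun k hk => hconst ⟨β, hβ⟩ hne' k (Finset.mem_range.1 hk)),
      Finset.sum_const, Finset.card_range, smul_eq_mul]

/-! ### the correspondence package -/

/-- the Glauberman-type correspondence package between the `I`-invariant irreducible characters
of `A` and the irreducible characters of `B` -/
def GCorr (p : ℕ) {A : Type*} {B : Type*} [Group A] [Group B] [Fintype B]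
    (I : (A → ℂ) → Prop) (res : (A → ℂ) → (B → ℂ)) : Prop :=
  (∀ χ, Cfsg.IsIrrCharacter A χ → I χ → ∃ β, Cfsg.IsIrrCharacter B β ∧
      (∃ m : ℕ, Cfsg.classInner (res χ) β = m ∧ ¬ p ∣ m) ∧
      ∀ β', Cfsg.IsIrrCharacter B β' →
        (∃ m : ℕ, Cfsg.classInner (res χ) β' = m ∧ ¬ p ∣ m) → β' = β) ∧
  (∀ χ, Cfsg.IsIrrCharacter A χ → I χ → ∀ β, Cfsg.IsIrrCharacter B β → ∀ m : ℕ,
      Cfsg.classInner (res χ) β = m → ¬ p ∣ m →
        ((m : ℤ) ≡ 1 [ZMOD p] ∨ (m : ℤ) ≡ -1 [ZMOD p])) ∧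
  (∀ χ χ', Cfsg.IsIrrCharacter A χ → Cfsg.IsIrrCharacter A χ' → I χ → I χ' →
      ∀ β, Cfsg.IsIrrCharacter B β → ∀ m m' : ℕ, Cfsg.classInner (res χ) β = m → ¬ p ∣ m →
      Cfsg.classInner (res χ') β = m' → ¬ p ∣ m' → χ = χ') ∧
  (∀ β, Cfsg.IsIrrCharacter B β → ∃ χ, Cfsg.IsIrrCharacter A χ ∧ I χ ∧
      ∃ m : ℕ, Cfsg.classInner (res χ) β = m ∧ ¬ p ∣ m)

theorem gp_pm_not_dvd {p : ℕ} (hp : p.Prime) (m₀ : ℕ)
    (h : (m₀ : ℤ) ≡ 1 [ZMOD p] ∨ (m₀ : ℤ) ≡ -1 [ZMOD p]) : ¬ p ∣ m₀ := by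
  intro hd
  have hd' : (p : ℤ) ∣ (m₀ : ℤ) := by exact_mod_cast hd
  have h1 : (p : ℤ) ∣ 1 := by
    rcases h with h | h
    · have h2 := Int.modEq_iff_dvd.1 h
      have h3 := dvd_add h2 hd'
      simpa using h3
    · have h2 := Int.modEq_iff_dvd.1 h
      have h3 := dvd_add h2 hd'
      have h4 : (-1 - (m₀ : ℤ) + m₀) = -1 := by ring
      rw [h4] at h3
      exact (dvd_neg.1 h3)
  have h2 := Int.eq_one_of_dvd_one (by positivity) h1
  have h3 : p = 1 := by exact_mod_cast h2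
  exact hp.one_lt.ne' h3

theorem gp_main {K : Type u} [Group K] [Fintype K] {p : ℕ} (hp : p.Prime) (M : Subgroup K)
    [hM : M.Normal] (hidx : M.index = p) (s : K) (hsM : s ∉ M) (hsp : s ^ p = 1)
    (hcop : (Nat.card M).Coprime p) (C : Subgroup K) [Fintype C]
    (hC : C = M ⊓ Subgroup.centralizer {s}) (hCM : C ≤ M) :
    GCorr p (A := M) (B := C)
      (fun χ => ∀ (g : K) (x : M), χ ⟨g * x * g⁻¹, hM.conj_mem (x : K) x.2 g⟩ = χ x)
      (fun χ c => χ ⟨c, hCM c.2⟩) := by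
  classical
  haveI : Fintype M := Fintype.ofFinite _
  have hext : ∀ χ : M → ℂ, Cfsg.IsIrrCharacter M χ →
      (∀ (g : K) (x : M), χ ⟨g * x * g⁻¹, hM.conj_mem (x : K) x.2 g⟩ = χ x) →
      ∃ Ψ : K → ℂ, Cfsg.IsIrrCharacter K Ψ ∧ ∀ x : M, Ψ x = χ x :=
    fun χ hχ hinv => ext_prime_index p hp M hidx χ hχ hinv
  have hkey := fun (χ : M → ℂ) (hχ : Cfsg.IsIrrCharacter M χ) (Ψ : K → ℂ)
      (hΨ : Cfsg.IsIrrCharacter K Ψ) (hres : ∀ m : M, Ψ m = χ m) =>
    gp_key hp M hidx s hsM hsp hcop C hC hCM χ hχ Ψ hΨ hres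
  have hM0 : (Nat.card M : ℂ) ≠ 0 := by exact_mod_cast Nat.card_pos.ne'
  have hC0 : (Nat.card C : ℂ) ≠ 0 := by exact_mod_cast Nat.card_pos.ne'
  refine ⟨?_, ?_, ?_, ?_⟩
  · intro χ hχ hinv
    obtain ⟨Ψ, hΨ, hres⟩ := hext χ hχ hinv
    obtain ⟨β₀, hβ₀, a, ha, hval, ⟨m₀, hm₀, hm₀pm⟩, hoth⟩ := hkey χ hχ Ψ hΨ hres
    refine ⟨β₀, hβ₀, ⟨m₀, hm₀, gp_pm_not_dvd hp m₀ hm₀pm⟩, ?_⟩
    rintro β' hβ' ⟨m, hm, hpm⟩
    by_contra hne
    obtain ⟨m', hm', hd⟩ := hoth β' hβ' hne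
    rw [hm] at hm'
    have h1 : m = m' := by exact_mod_cast hm'
    rw [h1] at hpm
    exact hpm hd
  · intro χ hχ hinv β hβ m hm hpm
    obtain ⟨Ψ, hΨ, hres⟩ := hext χ hχ hinv
    obtain ⟨β₀, hβ₀, a, ha, hval, ⟨m₀, hm₀, hm₀pm⟩, hoth⟩ := hkey χ hχ Ψ hΨ hres
    by_cases hne : β = β₀
    · rw [hne, hm₀] at hm
      have h1 : m₀ = m := by exact_mod_cast hm
      rw [← h1]
      exact hm₀pm
    · obtain ⟨m', hm', hd⟩ := hoth β hβ hne
      rw [hm] at hm'
      have h1 : m = m' := by exact_mod_cast hm'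
      rw [h1] at hpm
      exact absurd hd hpm
  · intro χ χ' hχ hχ' hinv hinv' β hβ m m' hm hpm hm' hpm'
    by_contra hne
    obtain ⟨Ψ, hΨ, hres⟩ := hext χ hχ hinv
    obtain ⟨Ψ', hΨ', hres'⟩ := hext χ' hχ' hinv'
    obtain ⟨β₀, hβ₀, a, ha, hval, ⟨m₀, hm₀, hm₀pm⟩, hoth⟩ := hkey χ hχ Ψ hΨ hres
    obtain ⟨β₀', hβ₀', a', ha', hval', ⟨m₀', hm₀', hm₀pm'⟩, hoth'⟩ := hkey χ' hχ' Ψ' hΨ' hres'
    have e1 : β = β₀ := by
      by_contra h
      obtain ⟨n, hn, hd⟩ := hoth β hβ h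
      rw [hm] at hn
      have h1 : m = n := by exact_mod_cast hn
      rw [h1] at hpm
      exact hpm hd
    have e2 : β = β₀' := by
      by_contra h
      obtain ⟨n, hn, hd⟩ := hoth' β hβ h
      rw [hm'] at hn
      have h1 : m' = n := by exact_mod_cast hn
      rw [h1] at hpm'
      exact hpm' hd
    have hneM : (fun m : M => Ψ m) ≠ (fun m : M => Ψ' m) := by
      intro h
      apply hne
      funext x
      rw [← hres x, ← hres' x]
      exact congrFun h x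
    have h1 := gp_C3 hp M hidx s hsM hsp hΨ hΨ' hneM 1 hp.one_lt
    have hΨcl := isClassFunction_of_isCharacter (isCharacter_of_isIrrCharacter hΨ)
    have hΨcl' := isClassFunction_of_isCharacter (isCharacter_of_isIrrCharacter hΨ')
    have h2 : (Nat.card C : ℂ) * ∑ m : M, Ψ ((m : K) * s) * conj (Ψ' ((m : K) * s)) =
        (Nat.card M : ℂ) * ∑ c : C, Ψ ((c : K) * s) * conj (Ψ' ((c : K) * s)) :=
      gp_coset_sum hp M hcop s hsp C hC (fun x => Ψ x * conj (Ψ' x))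
        (by intro g h
            show Ψ (h * g * h⁻¹) * conj (Ψ' (h * g * h⁻¹)) = Ψ g * conj (Ψ' g)
            rw [hΨcl g h, hΨcl' g h])
    simp only [pow_one] at h1
    rw [h1, mul_zero] at h2
    have h3 : ∑ c : C, Ψ ((c : K) * s) * conj (Ψ' ((c : K) * s)) =
        a * conj a' * (Nat.card C : ℂ) := by
      have h4 : ∀ c : C, Ψ ((c : K) * s) * conj (Ψ' ((c : K) * s)) =
          a * conj a' * (β c * conj (β c)) := by
        intro c
        rw [hval c, hval' c, ← e1, ← e2, map_mul]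
        ring
      rw [Finset.sum_congr rfl (fun c _ => h4 c), ← Finset.mul_sum]
      have h5 := classInner_irr_self hβ
      unfold Cfsg.classInner at h5
      have h6 : ∑ c : C, β c * conj (β c) = (Nat.card C : ℂ) := by
        have h7 : (Nat.card C : ℂ) * ((Nat.card C : ℂ)⁻¹ * ∑ c : C, β c * conj (β c)) =
            (Nat.card C : ℂ) * 1 := by rw [h5]
        rw [← mul_assoc, mul_inv_cancel₀ hC0, one_mul, mul_one] at h7
        exact h7
      rw [h6]
    rw [h3] at h2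
    have ha0 : a ≠ 0 := fun h => by rw [h, zero_mul] at ha; exact zero_ne_one ha
    have ha0' : conj a' ≠ 0 := fun h => by rw [h, mul_zero] at ha'; exact zero_ne_one ha'
    exact (mul_ne_zero hM0 (mul_ne_zero (mul_ne_zero ha0 ha0') hC0)) h2.symm
  · intro β hβ
    by_contra hcon
    obtain ⟨e, he1, he2⟩ := gp_exponent hp M hcop s hsp
    have hCs : ∀ c ∈ C, Commute c s := fun c hc => by
      rw [hC] at hc
      exact (Subgroup.mem_centralizer_iff.1 hc.2 s rfl).symm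
    obtain ⟨F, hFdef⟩ : ∃ F : K → ℂ, F = ∑ c : C, β c • conjCount ((c : K) * s) := ⟨_, rfl⟩
    have hFcl : Cfsg.IsClassFunction K F := by
      rw [hFdef]
      exact isClassFunction_sum _ _ (fun c _ => isClassFunction_smul _ (conjCount_classFun _))
    have hF0 : F = 0 := by
      apply eq_zero_of_orthogonal F hFcl
      intro Ψ hΨ
      have hΨcl := isClassFunction_of_isCharacter (isCharacter_of_isIrrCharacter hΨ)
      rw [hFdef, classInner_sum_left]
      have h1 : ∀ c : C, Cfsg.classInner (β c • conjCount ((c : K) * s)) Ψ =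
          β c * conj (Ψ ((c : K) * s)) := by
        intro c
        rw [classInner_smul_left, classInner_conjCount _ _ hΨcl]
      rw [Finset.sum_congr rfl (fun c _ => h1 c)]
      rcases gp_C1 hp M hidx s hsM hsp hΨ with hirr | hvan
      · have hinvΨ : ∀ (g : K) (x : M), (fun m : M => Ψ m) ⟨g * x * g⁻¹,
            hM.conj_mem (x : K) x.2 g⟩ = (fun m : M => Ψ m) x := fun g x => hΨcl x g
        obtain ⟨β₀, hβ₀, a, ha, hval, ⟨m₀, hm₀, hm₀pm⟩, hoth⟩ :=
          hkey (fun m : M => Ψ m) hirr Ψ hΨ (fun m => rfl)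
        by_cases hb : β = β₀
        · exfalso
          apply hcon
          exact ⟨fun m : M => Ψ m, hirr, hinvΨ, m₀, by rw [hb]; exact hm₀,
            gp_pm_not_dvd hp m₀ hm₀pm⟩
        · have h2 := classInner_irr hβ hβ₀
          rw [if_neg hb] at h2
          unfold Cfsg.classInner at h2
          have h3 : ∑ c : C, β c * conj (β₀ c) = 0 := by
            rcases mul_eq_zero.1 h2 with h | h
            · exact absurd (inv_eq_zero.1 h) hC0
            · exact h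
          calc ∑ c : C, β c * conj (Ψ ((c : K) * s))
              = conj a * ∑ c : C, β c * conj (β₀ c) := by
                rw [Finset.mul_sum]
                apply Finset.sum_congr rfl
                intro c _
                rw [hval c, map_mul]
                ring
            _ = 0 := by rw [h3, mul_zero]
      · apply Finset.sum_eq_zero
        intro c _
        have hnm : (c : K) * s ∉ M := fun h => hsM (by
          have h4 := M.mul_mem (M.inv_mem (hCM c.2)) h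
          simpa using h4)
        rw [hvan _ hnm, map_zero, mul_zero]
    have hFs : F s = β 1 * conjCount s s := by
      rw [hFdef, Finset.sum_apply, Finset.sum_eq_single (1 : C)]
      · simp
      · intro c _ hc
        have hemp : IsEmpty {y : K // y * ((c : K) * s) * y⁻¹ = s} := by
          constructor
          rintro ⟨y, hy⟩
          apply hc
          have h1 : (y * ((c : K) * s) * y⁻¹) ^ e = s ^ e := by rw [hy]
          rw [conj_pow, (hCs c c.2).mul_pow, he1 c (hCM c.2), one_mul, he2] at h1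
          have h2 : y * ((c : K) * s) * y⁻¹ = (y * (c : K) * y⁻¹) * (y * s * y⁻¹) := by group
          rw [h2, h1] at hy
          have h3 : y * (c : K) * y⁻¹ = 1 := by
            have h4 : y * (c : K) * y⁻¹ * s = 1 * s := by rw [hy, one_mul]
            exact mul_right_cancel h4
          have h5 : (c : K) = 1 := by
            have h6 : (c : K) = y⁻¹ * (y * (c : K) * y⁻¹) * y := by group
            rw [h6, h3]
            group
          exact Subtype.ext h5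
        rw [Pi.smul_apply]
        unfold conjCount
        rw [Nat.card_of_isEmpty]
        simp
      · intro h
        exact absurd (Finset.mem_univ _) h
    rw [hF0] at hFs
    obtain ⟨n, hn0, hn⟩ := irr_one hβ
    have h1 : conjCount s s ≠ 0 := by
      rw [conjCount_apply_of_isConj (IsConj.refl s)]
      exact_mod_cast Nat.card_pos.ne'
    have h2 : β 1 ≠ 0 := by
      rw [hn]
      exact_mod_cast hn0
    exact (mul_ne_zero h2 h1) hFs.symm

end Cfsg.Agent.Lib.Helper7
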