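import Mathlib
import Cfsg.Prelude.Def_Characters
import Cfsg.Agent.Lib.Helper7.GlaubPrime
import Cfsg.Agent.Lib.Helper7.CharCount

set_option autoImplicit false

universe u

namespace Cfsg.Agent.Lib.Helper7

open Cfsg.Agent.Lib.Lead
open scoped ComplexConjugate

/-! ### transport of the correspondence package -/

theorem gcorr_transport {p : ℕ} {A A' B B' : Type*} [Group A] [Group A'] [Group B] [Group B']
    [Fintype B] [Fintype B'] (eA : A ≃* A') (eB : B ≃* B')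
    (I : (A → ℂ) → Prop) (res : (A → ℂ) → (B → ℂ)) (I' : (A' → ℂ) → Prop)
    (res' : (A' → ℂ) → (B' → ℂ))
    (hI : ∀ χ : A → ℂ, Cfsg.IsIrrCharacter A χ → I χ → I' (χ ∘ eA.symm))
    (hI2 : ∀ χ' : A' → ℂ, Cfsg.IsIrrCharacter A' χ' → I' χ' → I (χ' ∘ eA))
    (hres : ∀ χ' : A' → ℂ, res (χ' ∘ eA) = (res' χ') ∘ eB)
    (h : GCorr p I' res') : GCorr p I res := by
  obtain ⟨h1, h2, h3, h4⟩ := h
  have hback : ∀ χ : A → ℂ, (χ ∘ eA.symm) ∘ eA = χ := by
    intro χ; funext a; simp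
  have hirrA : ∀ χ : A → ℂ, Cfsg.IsIrrCharacter A χ → Cfsg.IsIrrCharacter A' (χ ∘ eA.symm) :=
    fun χ hχ => isIrrCharacter_comp_surj eA.symm.toMonoidHom eA.symm.surjective hχ
  have hirrA' : ∀ χ' : A' → ℂ, Cfsg.IsIrrCharacter A' χ' → Cfsg.IsIrrCharacter A (χ' ∘ eA) :=
    fun χ hχ => isIrrCharacter_comp_surj eA.toMonoidHom eA.surjective hχ
  have hirrB : ∀ β : B → ℂ, Cfsg.IsIrrCharacter B β → Cfsg.IsIrrCharacter B' (β ∘ eB.symm) :=
    fun χ hχ => isIrrCharacter_comp_surj eB.symm.toMonoidHom eB.symm.surjective hχ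
  have hirrB' : ∀ β' : B' → ℂ, Cfsg.IsIrrCharacter B' β' → Cfsg.IsIrrCharacter B (β' ∘ eB) :=
    fun χ hχ => isIrrCharacter_comp_surj eB.toMonoidHom eB.surjective hχ
  -- the inner products agree
  have hin : ∀ (χ : A → ℂ) (β : B → ℂ),
      Cfsg.classInner (res χ) β = Cfsg.classInner (res' (χ ∘ eA.symm)) (β ∘ eB.symm) := by
    intro χ β
    have e1 : res χ = (res' (χ ∘ eA.symm)) ∘ eB := by
      rw [← hres, hback]
    have e2 : β = (β ∘ eB.symm) ∘ eB := by funext b; simp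
    rw [e1]
    conv_lhs => rw [e2]
    exact classInner_comp_equiv eB _ _
  have hin' : ∀ (χ : A → ℂ) (β' : B' → ℂ),
      Cfsg.classInner (res χ) (β' ∘ eB) = Cfsg.classInner (res' (χ ∘ eA.symm)) β' := by
    intro χ β'
    rw [hin]
    have e2 : (β' ∘ eB) ∘ eB.symm = β' := by funext b; simp
    rw [e2]
  refine ⟨?_, ?_, ?_, ?_⟩
  · intro χ hχ hIχ
    obtain ⟨β', hβ', ⟨m, hm, hpm⟩, huniq⟩ := h1 _ (hirrA χ hχ) (hI χ hχ hIχ)
    refine ⟨β' ∘ eB, hirrB' β' hβ', ⟨m, by rw [hin']; exact hm, hpm⟩, ?_⟩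
    rintro β₂ hβ₂ ⟨m₂, hm₂, hpm₂⟩
    have h5 := huniq _ (hirrB β₂ hβ₂) ⟨m₂, by rw [← hin]; exact hm₂, hpm₂⟩
    rw [← h5]
    funext b
    simp
  · intro χ hχ hIχ β hβ m hm hpm
    exact h2 _ (hirrA χ hχ) (hI χ hχ hIχ) _ (hirrB β hβ) m (by rw [← hin]; exact hm) hpm
  · intro χ χ' hχ hχ' hIχ hIχ' β hβ m m' hm hpm hm' hpm'
    have h5 := h3 _ _ (hirrA χ hχ) (hirrA χ' hχ') (hI χ hχ hIχ) (hI χ' hχ' hIχ') _ (hirrB β hβ)
      m m' (by rw [← hin]; exact hm) hpm (by rw [← hin]; exact hm') hpm'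
    rw [← hback χ, ← hback χ', h5]
  · intro β hβ
    obtain ⟨χ', hχ', hIχ', m, hm, hpm⟩ := h4 _ (hirrB β hβ)
    refine ⟨χ' ∘ eA, hirrA' χ' hχ', hI2 χ' hχ' hIχ', m, ?_, hpm⟩
    rw [hin]
    have e3 : (χ' ∘ eA) ∘ eA.symm = χ' := by funext a; simp
    rw [e3]
    exact hm

/-- the trivial correspondence -/
theorem gcorr_trivial {p : ℕ} (hp : p.Prime) {A B : Type*} [Group A] [Group B] [Finite A]
    [Fintype B] (e : B ≃* A) (I : (A → ℂ) → Prop) (res : (A → ℂ) → (B → ℂ))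
    (hres : ∀ χ : A → ℂ, res χ = χ ∘ e)
    (hI : ∀ χ, Cfsg.IsIrrCharacter A χ → I χ) : GCorr p I res := by
  have hirr : ∀ χ : A → ℂ, Cfsg.IsIrrCharacter A χ → Cfsg.IsIrrCharacter B (res χ) := by
    intro χ hχ
    rw [hres]
    exact isIrrCharacter_comp_surj e.toMonoidHom e.surjective hχ
  have hinj : ∀ χ χ' : A → ℂ, res χ = res χ' → χ = χ' := by
    intro χ χ' h
    rw [hres, hres] at h
    funext a
    obtain ⟨b, rfl⟩ := e.surjective a
    exact congrFun h b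
  have hkey : ∀ χ : A → ℂ, Cfsg.IsIrrCharacter A χ → ∀ β : B → ℂ, Cfsg.IsIrrCharacter B β →
      ∀ m : ℕ, Cfsg.classInner (res χ) β = m → ¬ p ∣ m → res χ = β ∧ m = 1 := by
    intro χ hχ β hβ m hm hpm
    rw [classInner_irr (hirr χ hχ) hβ] at hm
    by_cases h : res χ = β
    · rw [if_pos h] at hm
      exact ⟨h, by exact_mod_cast hm.symm⟩
    · rw [if_neg h] at hm
      have h0 : m = 0 := by exact_mod_cast hm.symm
      rw [h0] at hpm
      exact absurd (dvd_zero p) hpm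
  refine ⟨?_, ?_, ?_, ?_⟩
  · intro χ hχ _
    refine ⟨res χ, hirr χ hχ, ⟨1, by rw [classInner_irr_self (hirr χ hχ)]; simp,
      hp.one_lt.ne' ∘ Nat.dvd_one.1⟩, ?_⟩
    rintro β' hβ' ⟨m, hm, hpm⟩
    exact (hkey χ hχ β' hβ' m hm hpm).1.symm
  · intro χ hχ _ β hβ m hm hpm
    left
    rw [(hkey χ hχ β hβ m hm hpm).2]
    rfl
  · intro χ χ' hχ hχ' _ _ β hβ m m' hm hpm hm' hpm'
    apply hinj
    rw [(hkey χ hχ β hβ m hm hpm).1, (hkey χ' hχ' β hβ m' hm' hpm').1]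
  · intro β hβ
    have hχ : Cfsg.IsIrrCharacter A (β ∘ e.symm) :=
      isIrrCharacter_comp_surj e.symm.toMonoidHom e.symm.surjective hβ
    have h1 : res (β ∘ e.symm) = β := by
      rw [hres]; funext b; simp
    refine ⟨β ∘ e.symm, hχ, hI _ hχ, 1, ?_, hp.one_lt.ne' ∘ Nat.dvd_one.1⟩
    rw [h1, classInner_irr_self hβ]
    simp

/-! ### the prime step for an automorphism -/

/-- the semidirect product `N ⋊ ⟨σ⟩` -/
abbrev GPK (N : Type u) [Group N] (σ : MulAut N) : Type u :=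
  N ⋊[(Subgroup.zpowers σ).subtype] (Subgroup.zpowers σ)

theorem gp_aut {N : Type u} [Group N] [Finite N] {p : ℕ} (hp : p.Prime) (σ : MulAut N)
    (hσp : σ ^ p = 1) (hσ1 : σ ≠ 1) (hcop : (Nat.card N).Coprime p) (C : Subgroup N) [Fintype C]
    (hC : ∀ n, n ∈ C ↔ σ n = n) :
    GCorr p (A := N) (B := C) (fun χ => ∀ n, χ (σ n) = χ n) (fun χ c => χ c) := by
  classical
  haveI : Fact p.Prime := ⟨hp⟩
  have hord : orderOf σ = p := orderOf_eq_prime hσp hσ1
  haveI : Finite (GPK N σ) := Finite.of_equiv _ SemidirectProduct.equivProd.symm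
  haveI : Fintype (GPK N σ) := Fintype.ofFinite _
  obtain ⟨M, hMdef⟩ : ∃ M : Subgroup (GPK N σ),
      M = (SemidirectProduct.inl : N →* GPK N σ).range := ⟨_, rfl⟩
  have hMker : M = (SemidirectProduct.rightHom : GPK N σ →* Subgroup.zpowers σ).ker := by
    rw [hMdef]; exact SemidirectProduct.range_inl_eq_ker_rightHom
  haveI hMn : M.Normal := by rw [hMker]; infer_instance
  have hidx : M.index = p := by
    rw [hMker, Subgroup.index_ker,
      MonoidHom.range_eq_top.2 SemidirectProduct.rightHom_surjective, Subgroup.card_top,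
      Nat.card_zpowers, hord]
  obtain ⟨z₀, hz₀⟩ : ∃ z₀ : Subgroup.zpowers σ, (z₀ : MulAut N) = σ :=
    ⟨⟨σ, Subgroup.mem_zpowers σ⟩, rfl⟩
  obtain ⟨sK, hsK⟩ : ∃ sK : GPK N σ, sK = SemidirectProduct.inr z₀ := ⟨_, rfl⟩
  have hsKM : sK ∉ M := by
    rw [hMker, MonoidHom.mem_ker, hsK, SemidirectProduct.rightHom_inr]
    intro h
    apply hσ1
    rw [← hz₀, h]
    rfl
  have hsKp : sK ^ p = 1 := by
    rw [hsK, ← map_pow]
    have h1 : z₀ ^ p = 1 := by
      apply Subtype.ext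
      rw [Subgroup.coe_pow, hz₀, hσp]
      rfl
    rw [h1, map_one]
  have hcardM : Nat.card M = Nat.card N := by
    rw [hMdef]
    exact (Nat.card_congr (MonoidHom.ofInjective SemidirectProduct.inl_injective).toEquiv).symm
  have hcopM : (Nat.card M).Coprime p := by rw [hcardM]; exact hcop
  obtain ⟨C', hC'⟩ : ∃ C' : Subgroup (GPK N σ), C' = M ⊓ Subgroup.centralizer {sK} := ⟨_, rfl⟩
  haveI : Fintype C' := Fintype.ofFinite _
  have hC'M : C' ≤ M := by rw [hC']; exact inf_le_left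
  have hmain := gp_main hp M hidx sK hsKM hsKp hcopM C' hC' hC'M
  -- the conjugation formula
  have hconj : ∀ (z : Subgroup.zpowers σ) (n : N),
      (SemidirectProduct.inr z : GPK N σ) * SemidirectProduct.inl n *
        (SemidirectProduct.inr z)⁻¹ = SemidirectProduct.inl ((z : MulAut N) n) := by
    intro z n
    have h1 := SemidirectProduct.inl_aut (φ := (Subgroup.zpowers σ).subtype) z n
    rw [map_inv] at h1
    exact h1.symm
  have hconj0 : ∀ n : N, sK * SemidirectProduct.inl n * sK⁻¹ = SemidirectProduct.inl (σ n) := by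
    intro n
    rw [hsK, hconj z₀ n, hz₀]
  -- the equivalences
  have hmemM : ∀ n : N, (SemidirectProduct.inl n : GPK N σ) ∈ M := by
    intro n; rw [hMdef]; exact ⟨n, rfl⟩
  obtain ⟨eA, heA⟩ : ∃ eA : N ≃* M, ∀ n : N, ((eA n : M) : GPK N σ) = SemidirectProduct.inl n := by
    let f : N →* M := (SemidirectProduct.inl : N →* GPK N σ).codRestrict M hmemM
    have hf : Function.Bijective f := by
      constructor
      · intro a b h
        exact SemidirectProduct.inl_injective (congrArg (fun x : M => (x : GPK N σ)) h)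
      · intro x
        obtain ⟨y, hy⟩ : ∃ y : GPK N σ, y = (x : GPK N σ) := ⟨_, rfl⟩
        have hx : y ∈ M := by rw [hy]; exact x.2
        rw [hMdef] at hx
        obtain ⟨n, hn⟩ := hx
        exact ⟨n, Subtype.ext (hn.trans hy)⟩
    exact ⟨MulEquiv.ofBijective f hf, fun n => rfl⟩
  have hmemC' : ∀ c : C, (SemidirectProduct.inl (c : N) : GPK N σ) ∈ C' := by
    intro c
    rw [hC']
    refine Subgroup.mem_inf.2 ⟨hmemM _, Subgroup.mem_centralizer_iff.2 ?_⟩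
    intro y hy
    rw [Set.mem_singleton_iff] at hy
    rw [hy]
    have h1 := hconj0 (c : N)
    rw [(hC (c : N)).1 c.2] at h1
    calc sK * SemidirectProduct.inl (c : N)
        = (sK * SemidirectProduct.inl (c : N) * sK⁻¹) * sK := by group
      _ = SemidirectProduct.inl (c : N) * sK := by rw [h1]
  obtain ⟨eB, heB⟩ : ∃ eB : C ≃* C', ∀ c : C,
      ((eB c : C') : GPK N σ) = SemidirectProduct.inl (c : N) := by
    let f : C →* C' :=
      ((SemidirectProduct.inl : N →* GPK N σ).comp C.subtype).codRestrict C' hmemC'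
    have hf : Function.Bijective f := by
      constructor
      · intro a b h
        exact Subtype.ext (SemidirectProduct.inl_injective
          (congrArg (fun x : C' => (x : GPK N σ)) h))
      · intro x
        obtain ⟨y, hy⟩ : ∃ y : GPK N σ, y = (x : GPK N σ) := ⟨_, rfl⟩
        have hx : y ∈ C' := by rw [hy]; exact x.2
        rw [hC'] at hx
        obtain ⟨hxM, hxc⟩ := Subgroup.mem_inf.1 hx
        rw [hMdef] at hxM
        obtain ⟨n, hn⟩ := hxM
        have hcomm := Subgroup.mem_centralizer_iff.1 hxc sK rfl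
        have h1 : σ n = n := by
          apply SemidirectProduct.inl_injective (φ := (Subgroup.zpowers σ).subtype)
          rw [← hconj0 n]
          have hn' : (SemidirectProduct.inl n : GPK N σ) = y := hn
          rw [hn', hcomm]
          group
        exact ⟨⟨n, (hC n).2 h1⟩, Subtype.ext (hn.trans hy)⟩
    exact ⟨MulEquiv.ofBijective f hf, fun c => rfl⟩
  refine gcorr_transport eA eB _ _ _ _ ?_ ?_ ?_ hmain
  · intro χ hχ hIχ g x
    have hχcl := isClassFunction_of_isCharacter (isCharacter_of_isIrrCharacter hχ)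
    obtain ⟨d, rfl⟩ := eA.surjective x
    have hz : ∀ τ ∈ Subgroup.zpowers σ, ∀ n : N, χ (τ n) = χ n := by
      let Hχ : Subgroup (MulAut N) :=
        { carrier := {τ | ∀ n, χ (τ n) = χ n}
          mul_mem' := fun {a b} ha hb n => by
            show χ ((a * b) n) = χ n
            rw [MulAut.mul_apply, ha, hb]
          one_mem' := fun n => rfl
          inv_mem' := fun {a} ha n => by
            show χ (a⁻¹ n) = χ n
            have h1 := ha (a⁻¹ n)
            rw [MulAut.apply_inv_self] at h1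
            exact h1.symm }
      have hle : Subgroup.zpowers σ ≤ Hχ := (Subgroup.zpowers_le).2 (fun n => hIχ n)
      intro τ hτ
      exact hle hτ
    have key : (⟨g * (eA d : GPK N σ) * g⁻¹, hMn.conj_mem _ (eA d).2 g⟩ : M) =
        eA (g.left * ((g.right : MulAut N) d) * g.left⁻¹) := by
      apply Subtype.ext
      show g * ((eA d : M) : GPK N σ) * g⁻¹ =
        ((eA (g.left * ((g.right : MulAut N) d) * g.left⁻¹) : M) : GPK N σ)
      rw [heA, heA, map_mul, map_mul, map_inv, ← hconj g.right d]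
      conv_lhs => rw [← SemidirectProduct.inl_left_mul_inr_right g]
      group
    show χ (eA.symm ⟨g * (eA d : GPK N σ) * g⁻¹, _⟩) = χ (eA.symm (eA d))
    rw [key, eA.symm_apply_apply, eA.symm_apply_apply, hχcl, hz _ g.right.2]
  · intro χ' hχ' hI' n
    have h2 := hI' sK (eA n)
    show χ' (eA (σ n)) = χ' (eA n)
    rw [← h2]
    congr 1
    apply Subtype.ext
    show ((eA (σ n) : M) : GPK N σ) = sK * ((eA n : M) : GPK N σ) * sK⁻¹
    rw [heA, heA]
    exact (hconj0 n).symm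
  · intro χ'
    funext c
    show χ' (eA (c : N)) = χ' ⟨(eB c : GPK N σ), hC'M (eB c).2⟩
    congr 1
    apply Subtype.ext
    rw [heA, heB]

/-! ### the prime step inside an ambient group -/

/-- conjugation by a normalizing element as an automorphism of a subgroup -/
def gpConj {Γ : Type u} [Group Γ] (G : Subgroup Γ) (s : Γ) (h1 : ∀ g ∈ G, s * g * s⁻¹ ∈ G)
    (h2 : ∀ g ∈ G, s⁻¹ * g * s ∈ G) : G ≃* G where
  toFun g := ⟨s * g * s⁻¹, h1 g g.2⟩
  invFun g := ⟨s⁻¹ * g * s, h2 g g.2⟩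
  left_inv g := Subtype.ext (by show s⁻¹ * (s * (g : Γ) * s⁻¹) * s = g; group)
  right_inv g := Subtype.ext (by show s * (s⁻¹ * (g : Γ) * s) * s⁻¹ = g; group)
  map_mul' a b := Subtype.ext (by
    show s * ((a : Γ) * b) * s⁻¹ = (s * a * s⁻¹) * (s * b * s⁻¹); group)

theorem gpConj_coe {Γ : Type u} [Group Γ] (G : Subgroup Γ) (s : Γ)
    (h1 : ∀ g ∈ G, s * g * s⁻¹ ∈ G) (h2 : ∀ g ∈ G, s⁻¹ * g * s ∈ G) (g : G) :
    ((gpConj G s h1 h2 g : G) : Γ) = s * g * s⁻¹ := rfl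

theorem gp_step {Γ : Type u} [Group Γ] [Finite Γ] {p : ℕ} (hp : p.Prime) (D : Subgroup Γ) (s : Γ)
    (hsD : ∀ d ∈ D, s * d * s⁻¹ ∈ D) (hsD' : ∀ d ∈ D, s⁻¹ * d * s ∈ D)
    (hsp : ∀ d ∈ D, s ^ p * d = d * s ^ p)
    (hcop : (Nat.card D).Coprime p) (C : Subgroup Γ) [Fintype C]
    (hC : C = D ⊓ Subgroup.centralizer {s}) (hCD : C ≤ D) :
    GCorr p (A := D) (B := C)
      (fun χ => ∀ d d' : D, (d' : Γ) = s * d * s⁻¹ → χ d' = χ d)
      (fun χ c => χ ⟨c, hCD c.2⟩) := by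
  classical
  obtain ⟨σ, hσ⟩ : ∃ σ : MulAut D, ∀ d : D, ((σ d : D) : Γ) = s * d * s⁻¹ :=
    ⟨gpConj D s hsD hsD', fun d => rfl⟩
  have hσpow : ∀ (k : ℕ) (d : D), (((σ ^ k) d : D) : Γ) = s ^ k * d * (s ^ k)⁻¹ := by
    intro k
    induction k with
    | zero => intro d; simp
    | succ k ih =>
      intro d
      rw [pow_succ, MulAut.mul_apply, ih, hσ, pow_succ]
      group
  have hσp : σ ^ p = 1 := by
    apply MulEquiv.ext
    intro d
    apply Subtype.ext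
    rw [hσpow p d, hsp d d.2]
    simp
  have hfix : ∀ d : D, (d : Γ) ∈ C ↔ σ d = d := by
    intro d
    rw [hC, Subgroup.mem_inf, Subgroup.mem_centralizer_iff]
    constructor
    · rintro ⟨_, h⟩
      apply Subtype.ext
      rw [hσ, h s rfl]
      group
    · intro h
      refine ⟨d.2, ?_⟩
      intro y hy
      rw [Set.mem_singleton_iff] at hy
      rw [hy]
      have h2 : s * (d : Γ) * s⁻¹ = d := by rw [← hσ, h]
      calc s * (d : Γ) = (s * d * s⁻¹) * s := by group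
        _ = d * s := by rw [h2]
  by_cases hσ1 : σ = 1
  · have hDC : D ≤ C := by
      intro d hd
      exact (hfix ⟨d, hd⟩).2 (by rw [hσ1]; rfl)
    have hCeq : C = D := le_antisymm hCD hDC
    apply gcorr_trivial hp (MulEquiv.subgroupCongr hCeq)
    · intro χ; funext c; rfl
    · intro χ _ d d' hdd'
      have h1 : d' = d := Subtype.ext (by rw [hdd', ← hσ, hσ1]; rfl)
      rw [h1]
  · obtain ⟨C₁, hC₁⟩ : ∃ C₁ : Subgroup D, C₁ = C.subgroupOf D := ⟨_, rfl⟩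
    haveI : Fintype C₁ := Fintype.ofFinite _
    have hC₁mem : ∀ n : D, n ∈ C₁ ↔ σ n = n := by
      intro n
      rw [hC₁, Subgroup.mem_subgroupOf]
      exact hfix n
    have h1 := gp_aut hp σ hσp hσ1 hcop C₁ hC₁mem
    obtain ⟨eB, heB⟩ : ∃ eB : C ≃* C₁, ∀ c : C, (((eB c : C₁) : D) : Γ) = c := by
      subst hC₁
      exact ⟨(Subgroup.subgroupOfEquivOfLe hCD).symm, fun c => rfl⟩
    refine gcorr_transport (MulEquiv.refl D) eB _ _ _ _ ?_ ?_ ?_ h1
    · intro χ _ hI n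
      exact hI n (σ n) (hσ n)
    · intro χ' _ hI' d d' hdd'
      have h2 : d' = σ d := Subtype.ext (by rw [hdd', hσ])
      rw [h2]
      exact hI' d
    · intro χ'
      funext c
      show χ' ⟨c, hCD c.2⟩ = χ' ((eB c : C₁) : D)
      congr 1
      exact Subtype.ext (heB c).symm

/-! ### composition -/

theorem gcorr_compose {p : ℕ} (hp : p.Prime) {A B C : Type*} [Group A] [Group B] [Group C]
    [Fintype B] [Fintype C] [Fintype (Cfsg.IrrCharacter B)]
    (I₁ I₃ : (A → ℂ) → Prop) (I₂ : (B → ℂ) → Prop)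
    (res₁ : (A → ℂ) → (B → ℂ)) (res₂ : (B → ℂ) → (C → ℂ)) (res₃ : (A → ℂ) → (C → ℂ))
    (h1 : GCorr p I₁ res₁) (h2 : GCorr p I₂ res₂)
    (ha : ∀ χ, Cfsg.IsIrrCharacter A χ → I₃ χ → I₁ χ)
    (hb : ∀ χ, Cfsg.IsIrrCharacter A χ → I₃ χ → ∀ δ, Cfsg.IsIrrCharacter B δ →
      (∃ m : ℕ, Cfsg.classInner (res₁ χ) δ = m ∧ ¬ p ∣ m) → I₂ δ)
    (hc : ∀ χ, Cfsg.IsIrrCharacter A χ → I₁ χ → ∀ δ, Cfsg.IsIrrCharacter B δ → I₂ δ →
      (∃ m : ℕ, Cfsg.classInner (res₁ χ) δ = m ∧ ¬ p ∣ m) → I₃ χ)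
    (hlin : ∀ χ, Cfsg.IsIrrCharacter A χ → ∀ β : C → ℂ,
      Cfsg.classInner (res₃ χ) β = ∑ δ : Cfsg.IrrCharacter B,
        Cfsg.classInner (res₁ χ) δ * Cfsg.classInner (res₂ δ) β)
    (hn1 : ∀ χ, Cfsg.IsIrrCharacter A χ → ∀ δ, Cfsg.IsIrrCharacter B δ →
      ∃ n : ℕ, Cfsg.classInner (res₁ χ) δ = n)
    (hn2 : ∀ δ, Cfsg.IsIrrCharacter B δ → ∀ β, Cfsg.IsIrrCharacter C β →
      ∃ n : ℕ, Cfsg.classInner (res₂ δ) β = n) :
    GCorr p I₃ res₃ := by
  classical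
  obtain ⟨h11, h12, h13, h14⟩ := h1
  obtain ⟨h21, h22, h23, h24⟩ := h2
  have hmod : ∀ χ, Cfsg.IsIrrCharacter A χ → I₁ χ → ∀ δ₀, Cfsg.IsIrrCharacter B δ₀ →
      ∀ m₁ : ℕ, Cfsg.classInner (res₁ χ) δ₀ = m₁ → ¬ p ∣ m₁ → ∀ β, Cfsg.IsIrrCharacter C β →
      ∃ N n₂ : ℕ, Cfsg.classInner (res₃ χ) β = N ∧ Cfsg.classInner (res₂ δ₀) β = n₂ ∧
        N ≡ m₁ * n₂ [MOD p] := by
    intro χ hχ hI₁ δ₀ hδ₀ m₁ hm₁ hpm₁ β hβ
    obtain ⟨δu, hδu, -, huniq⟩ := h11 χ hχ hI₁
    have hδ₀u : δ₀ = δu := huniq δ₀ hδ₀ ⟨m₁, hm₁, hpm₁⟩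
    choose n₁ hn₁ using fun δ : Cfsg.IrrCharacter B => hn1 χ hχ δ δ.2
    choose n₂ hn₂ using fun δ : Cfsg.IrrCharacter B => hn2 δ δ.2 β hβ
    have hdvd : ∀ δ : Cfsg.IrrCharacter B, δ ≠ ⟨δ₀, hδ₀⟩ → p ∣ n₁ δ := by
      intro δ hne
      by_contra hnd
      have h5 := huniq δ δ.2 ⟨n₁ δ, hn₁ δ, hnd⟩
      exact hne (Subtype.ext (h5.trans hδ₀u.symm))
    have hm₁' : n₁ ⟨δ₀, hδ₀⟩ = m₁ := by
      have h5 : (m₁ : ℂ) = n₁ ⟨δ₀, hδ₀⟩ := hm₁.symm.trans (hn₁ ⟨δ₀, hδ₀⟩)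
      exact_mod_cast h5.symm
    refine ⟨∑ δ : Cfsg.IrrCharacter B, n₁ δ * n₂ δ, n₂ ⟨δ₀, hδ₀⟩, ?_, hn₂ ⟨δ₀, hδ₀⟩, ?_⟩
    · rw [hlin χ hχ β]
      push_cast
      apply Finset.sum_congr rfl
      intro δ _
      rw [hn₁ δ, hn₂ δ]
    · rw [← Finset.add_sum_erase Finset.univ _
        (Finset.mem_univ (⟨δ₀, hδ₀⟩ : Cfsg.IrrCharacter B)), hm₁']
      have hd : p ∣ ∑ δ ∈ Finset.univ.erase (⟨δ₀, hδ₀⟩ : Cfsg.IrrCharacter B), n₁ δ * n₂ δ :=
        Finset.dvd_sum (fun δ hδ => Dvd.dvd.mul_right (hdvd δ (Finset.mem_erase.1 hδ).1) _)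
      obtain ⟨q, hq⟩ := hd
      rw [hq]
      show (m₁ * n₂ ⟨δ₀, hδ₀⟩ + p * q) % p = (m₁ * n₂ ⟨δ₀, hδ₀⟩) % p
      exact Nat.add_mul_mod_self_left _ _ _
  have hpmul : ∀ {N a b : ℕ}, N ≡ a * b [MOD p] → ¬ p ∣ a → (¬ p ∣ N ↔ ¬ p ∣ b) := by
    intro N a b h ha
    rw [not_iff_not]
    constructor
    · intro hN
      have h5 : p ∣ a * b :=
        (Nat.modEq_zero_iff_dvd.1 ((h.symm.trans (Nat.modEq_zero_iff_dvd.2 hN))))
      exact ((Nat.Prime.dvd_mul hp).1 h5).resolve_left ha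
    · intro hb
      exact Nat.modEq_zero_iff_dvd.1 (h.trans (Nat.modEq_zero_iff_dvd.2 (Dvd.dvd.mul_left hb a)))
  refine ⟨?_, ?_, ?_, ?_⟩
  · intro χ hχ hI₃
    have hI₁ := ha χ hχ hI₃
    obtain ⟨δ₀, hδ₀, ⟨m₁, hm₁, hpm₁⟩, huniq₁⟩ := h11 χ hχ hI₁
    have hI₂ := hb χ hχ hI₃ δ₀ hδ₀ ⟨m₁, hm₁, hpm₁⟩
    obtain ⟨β₀, hβ₀, ⟨m₂, hm₂, hpm₂⟩, huniq₂⟩ := h21 δ₀ hδ₀ hI₂
    refine ⟨β₀, hβ₀, ?_, ?_⟩
    · obtain ⟨N, n₂, hN, hn₂, hmodN⟩ := hmod χ hχ hI₁ δ₀ hδ₀ m₁ hm₁ hpm₁ β₀ hβ₀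
      have h5 : n₂ = m₂ := by rw [hm₂] at hn₂; exact_mod_cast hn₂.symm
      exact ⟨N, hN, (hpmul hmodN hpm₁).2 (by rw [h5]; exact hpm₂)⟩
    · rintro β' hβ' ⟨m, hm, hpm⟩
      obtain ⟨N, n₂, hN, hn₂, hmodN⟩ := hmod χ hχ hI₁ δ₀ hδ₀ m₁ hm₁ hpm₁ β' hβ'
      have hNm : N = m := by rw [hm] at hN; exact_mod_cast hN.symm
      rw [hNm] at hmodN
      exact huniq₂ β' hβ' ⟨n₂, hn₂, (hpmul hmodN hpm₁).1 hpm⟩
  · intro χ hχ hI₃ β hβ m hm hpm
    have hI₁ := ha χ hχ hI₃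
    obtain ⟨δ₀, hδ₀, ⟨m₁, hm₁, hpm₁⟩, huniq₁⟩ := h11 χ hχ hI₁
    have hI₂ := hb χ hχ hI₃ δ₀ hδ₀ ⟨m₁, hm₁, hpm₁⟩
    obtain ⟨N, n₂, hN, hn₂, hmodN⟩ := hmod χ hχ hI₁ δ₀ hδ₀ m₁ hm₁ hpm₁ β hβ
    have hNm : N = m := by rw [hm] at hN; exact_mod_cast hN.symm
    rw [hNm] at hmodN
    have hpn₂ := (hpmul hmodN hpm₁).1 hpm
    have e1 := h12 χ hχ hI₁ δ₀ hδ₀ m₁ hm₁ hpm₁
    have e2 := h22 δ₀ hδ₀ hI₂ β hβ n₂ hn₂ hpn₂
    have e3 : (m : ℤ) ≡ (m₁ : ℤ) * (n₂ : ℤ) [ZMOD p] := by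
      have h5 := (Int.natCast_modEq_iff).2 hmodN
      push_cast at h5
      exact h5
    rcases e1 with e1 | e1 <;> rcases e2 with e2 | e2
    · left; simpa using e3.trans (e1.mul e2)
    · right; simpa using e3.trans (e1.mul e2)
    · right; simpa using e3.trans (e1.mul e2)
    · left; simpa using e3.trans (e1.mul e2)
  · intro χ χ' hχ hχ' hI₃ hI₃' β hβ m m' hm hpm hm' hpm'
    have hI₁ := ha χ hχ hI₃
    have hI₁' := ha χ' hχ' hI₃'
    obtain ⟨δ₀, hδ₀, ⟨m₁, hm₁, hpm₁⟩, huniq₁⟩ := h11 χ hχ hI₁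
    obtain ⟨δ₀', hδ₀', ⟨m₁', hm₁', hpm₁'⟩, huniq₁'⟩ := h11 χ' hχ' hI₁'
    have hI₂ := hb χ hχ hI₃ δ₀ hδ₀ ⟨m₁, hm₁, hpm₁⟩
    have hI₂' := hb χ' hχ' hI₃' δ₀' hδ₀' ⟨m₁', hm₁', hpm₁'⟩
    obtain ⟨N, n₂, hN, hn₂, hmodN⟩ := hmod χ hχ hI₁ δ₀ hδ₀ m₁ hm₁ hpm₁ β hβ
    obtain ⟨N', n₂', hN', hn₂', hmodN'⟩ := hmod χ' hχ' hI₁' δ₀' hδ₀' m₁' hm₁' hpm₁' β hβ
    have hNm : N = m := by rw [hm] at hN; exact_mod_cast hN.symm
    have hNm' : N' = m' := by rw [hm'] at hN'; exact_mod_cast hN'.symm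
    rw [hNm] at hmodN
    rw [hNm'] at hmodN'
    have hpn₂ := (hpmul hmodN hpm₁).1 hpm
    have hpn₂' := (hpmul hmodN' hpm₁').1 hpm'
    have hδ : δ₀ = δ₀' := h23 δ₀ δ₀' hδ₀ hδ₀' hI₂ hI₂' β hβ n₂ n₂' hn₂ hpn₂ hn₂' hpn₂'
    rw [← hδ] at hm₁'
    exact h13 χ χ' hχ hχ' hI₁ hI₁' δ₀ hδ₀ m₁ m₁' hm₁ hpm₁ hm₁' hpm₁'
  · intro β hβ
    obtain ⟨δ, hδ, hI₂, m₂, hm₂, hpm₂⟩ := h24 β hβ
    obtain ⟨χ, hχ, hI₁, m₁, hm₁, hpm₁⟩ := h14 δ hδ
    have hI₃ := hc χ hχ hI₁ δ hδ hI₂ ⟨m₁, hm₁, hpm₁⟩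
    obtain ⟨N, n₂, hN, hn₂, hmodN⟩ := hmod χ hχ hI₁ δ hδ m₁ hm₁ hpm₁ β hβ
    have h5 : n₂ = m₂ := by rw [hm₂] at hn₂; exact_mod_cast hn₂.symm
    exact ⟨χ, hχ, hI₃, N, hN, (hpmul hmodN hpm₁).2 (by rw [h5]; exact hpm₂)⟩

/-! ### the induction -/

/-- the elements normalizing `G` and fixing `χ` -/
def gpStab {Γ : Type u} [Group Γ] (G : Subgroup Γ) (χ : G → ℂ) : Subgroup Γ where
  carrier := {x | (∀ g ∈ G, x * g * x⁻¹ ∈ G) ∧ (∀ g ∈ G, x⁻¹ * g * x ∈ G) ∧
    ∀ g g' : G, (g' : Γ) = x * g * x⁻¹ → χ g' = χ g}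
  mul_mem' := by
    rintro x y ⟨hx1, hx2, hx3⟩ ⟨hy1, hy2, hy3⟩
    refine ⟨?_, ?_, ?_⟩
    · intro g hg
      have h := hx1 _ (hy1 g hg)
      have e : x * y * g * (x * y)⁻¹ = x * (y * g * y⁻¹) * x⁻¹ := by group
      rw [e]; exact h
    · intro g hg
      have h := hy2 _ (hx2 g hg)
      have e : (x * y)⁻¹ * g * (x * y) = y⁻¹ * (x⁻¹ * g * x) * y := by group
      rw [e]; exact h
    · intro g g' h
      have h1 := hy3 g ⟨y * g * y⁻¹, hy1 g g.2⟩ rfl
      have h2 := hx3 ⟨y * g * y⁻¹, hy1 g g.2⟩ g' (by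
        rw [h]
        show x * y * (g : Γ) * (x * y)⁻¹ = x * (y * g * y⁻¹) * x⁻¹
        group)
      rw [h2, h1]
  one_mem' := by
    refine ⟨fun g hg => by simpa using hg, fun g hg => by simpa using hg, ?_⟩
    intro g g' h
    have h1 : g' = g := Subtype.ext (by rw [h]; group)
    rw [h1]
  inv_mem' := by
    rintro x ⟨hx1, hx2, hx3⟩
    refine ⟨?_, ?_, ?_⟩
    · intro g hg
      have h := hx2 g hg
      simpa using h
    · intro g hg
      have h := hx1 g hg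
      simpa using h
    · intro g g' h
      have h1 := hx3 g' g (by rw [h]; group)
      exact h1.symm

theorem mem_gpStab {Γ : Type u} [Group Γ] (G : Subgroup Γ) (χ : G → ℂ) (x : Γ) :
    x ∈ gpStab G χ ↔ (∀ g ∈ G, x * g * x⁻¹ ∈ G) ∧ (∀ g ∈ G, x⁻¹ * g * x ∈ G) ∧
      ∀ g g' : G, (g' : Γ) = x * g * x⁻¹ → χ g' = χ g := Iff.rfl

theorem gp_gen {S : Type u} [Group S] [Finite S] {p : ℕ} (hp : p.Prime) (M : Subgroup S)
    [M.Normal] (hidx : M.index = p) (s : S) (hs : s ∉ M) (x : S) :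
    ∃ k : ℤ, (s ^ k)⁻¹ * x ∈ M := by
  haveI : Fact p.Prime := ⟨hp⟩
  have hcard : Nat.card (S ⧸ M) = p := by rw [← Subgroup.index_eq_card]; exact hidx
  have hne : (QuotientGroup.mk s : S ⧸ M) ≠ 1 := by
    rw [Ne, QuotientGroup.eq_one_iff]; exact hs
  have htop := zpowers_eq_top_of_prime_card (G := S ⧸ M) hcard hne
  have hx : (QuotientGroup.mk x : S ⧸ M) ∈ Subgroup.zpowers (QuotientGroup.mk s : S ⧸ M) := by
    rw [htop]; trivial
  obtain ⟨k, hk⟩ := Subgroup.mem_zpowers_iff.1 hx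
  refine ⟨k, ?_⟩
  rw [← QuotientGroup.eq, QuotientGroup.mk_zpow]
  exact hk

theorem gp_induct {Γ : Type u} [Group Γ] [Finite Γ] {p : ℕ} (hp : p.Prime) :
    ∀ (n : ℕ) (G S : Subgroup Γ), Nat.card S = n → (∀ s ∈ S, ∀ g ∈ G, s * g * s⁻¹ ∈ G) →
      (Nat.card G).Coprime (Nat.card S) → IsPGroup p S →
      ∀ (C : Subgroup Γ) [Fintype C] (_ : C = G ⊓ Subgroup.centralizer (S : Set Γ))
        (hCG : C ≤ G),
      GCorr p (A := G) (B := C)
        (fun χ => ∀ s ∈ S, ∀ g g' : G, (g' : Γ) = s * g * s⁻¹ → χ g' = χ g)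
        (fun χ c => χ ⟨c, hCG c.2⟩) := by
  classical
  haveI : Fact p.Prime := ⟨hp⟩
  intro n
  induction n using Nat.strong_induction_on with
  | _ n ih =>
    intro G S hn hnorm hcop hS C instC hC hCG
    by_cases hcent : ∀ s ∈ S, ∀ g ∈ G, s * g = g * s
    · have hGC : G ≤ C := by
        intro g hg
        rw [hC]
        exact Subgroup.mem_inf.2 ⟨hg,
          Subgroup.mem_centralizer_iff.2 (fun s hs => hcent s hs g hg)⟩
      have hCeq : C = G := le_antisymm hCG hGC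
      apply gcorr_trivial hp (MulEquiv.subgroupCongr hCeq)
      · intro χ; funext c; rfl
      · intro χ _ s hs g g' hgg'
        have h1 : g' = g := Subtype.ext (by rw [hgg', hcent s hs g g.2]; group)
        rw [h1]
    · have hSne : Nat.card S ≠ 1 := by
        intro h1
        apply hcent
        intro s hs g hg
        have h2 := (Subgroup.card_eq_one (H := S)).1 h1
        rw [h2] at hs
        rw [Subgroup.mem_bot.1 hs]
        simp
      obtain ⟨r, hr⟩ := (IsPGroup.iff_card (p := p) (G := S)).1 hS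
      have hr0 : r ≠ 0 := by
        rintro rfl
        exact hSne (by rw [hr]; simp)
      obtain ⟨r', rfl⟩ := Nat.exists_eq_succ_of_ne_zero hr0
      have hbot : (⊥ : Subgroup S).index = p ^ (r' + 1) := by rw [Subgroup.index_bot, hr]
      obtain ⟨M, hMn, -, hMidx, -⟩ := exists_normal_index_p p hp r' (⊥ : Subgroup S) hbot
      haveI := hMn
      obtain ⟨T, hTdef⟩ : ∃ T : Subgroup Γ, T = M.map S.subtype := ⟨_, rfl⟩
      have hTS : T ≤ S := by rw [hTdef]; exact Subgroup.map_subtype_le M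
      have hTmem : ∀ x : S, (x : Γ) ∈ T ↔ x ∈ M := by
        intro x
        rw [hTdef, Subgroup.mem_map]
        constructor
        · rintro ⟨y, hy, hyx⟩
          have h1 : y = x := Subtype.ext hyx
          rw [← h1]; exact hy
        · intro hx; exact ⟨x, hx, rfl⟩
      have hTnorm : ∀ x ∈ S, ∀ t ∈ T, x * t * x⁻¹ ∈ T := by
        intro x hx t ht
        have h1 := (hTmem ⟨t, hTS ht⟩).1 ht
        have h2 := hMn.conj_mem _ h1 ⟨x, hx⟩
        exact (hTmem _).2 h2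
      have hcardT : Nat.card T * p = Nat.card S := by
        have h1 := Subgroup.card_mul_index M
        rw [hMidx] at h1
        have h2 : Nat.card T = Nat.card M := by
          rw [hTdef]
          exact (Nat.card_congr
            (M.equivMapOfInjective S.subtype S.subtype_injective).toEquiv).symm
        rw [h2]; exact h1
      have hTlt : Nat.card T < n := by
        rw [← hn, ← hcardT]
        have h1 : 0 < Nat.card T := Nat.card_pos
        nlinarith [hp.one_lt]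
      obtain ⟨s', hs'⟩ : ∃ s' : S, s' ∉ M := by
        by_contra hcon
        have h1 : M = ⊤ := eq_top_iff.2 (fun x _ => by
          by_contra hx; exact hcon ⟨x, hx⟩)
        rw [h1, Subgroup.index_top] at hMidx
        exact hp.one_lt.ne hMidx
      obtain ⟨s, hsS, hss'⟩ : ∃ s : Γ, ∃ h : s ∈ S, (⟨s, h⟩ : S) = s' := ⟨s', s'.2, rfl⟩
      have hsM : (⟨s, hsS⟩ : S) ∉ M := by rw [hss']; exact hs'
      have hspT : s ^ p ∈ T := by
        have h1 := Subgroup.pow_index_mem M (⟨s, hsS⟩ : S)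
        rw [hMidx] at h1
        exact (hTmem _).2 h1
      have hgen : S ≤ T ⊔ Subgroup.zpowers s := by
        intro x hx
        obtain ⟨k, hk⟩ := gp_gen hp M hMidx ⟨s, hsS⟩ hsM ⟨x, hx⟩
        have h1 : ((s ^ k)⁻¹ * x) ∈ T := (hTmem _).2 hk
        have h2 : x = s ^ k * ((s ^ k)⁻¹ * x) := by group
        rw [h2]
        exact Subgroup.mul_mem _ (Subgroup.mem_sup_right (Subgroup.zpow_mem_zpowers s k))
          (Subgroup.mem_sup_left h1)
      obtain ⟨D, hDdef⟩ : ∃ D : Subgroup Γ, D = G ⊓ Subgroup.centralizer (T : Set Γ) :=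
        ⟨_, rfl⟩
      haveI : Fintype D := Fintype.ofFinite _
      have hDG : D ≤ G := by rw [hDdef]; exact inf_le_left
      have hCD : C ≤ D := by
        rw [hC, hDdef]
        exact inf_le_inf_left _ (Subgroup.centralizer_le (fun t ht => hTS ht))
      have hnormT : ∀ t ∈ T, ∀ g ∈ G, t * g * t⁻¹ ∈ G := fun t ht => hnorm t (hTS ht)
      have hcopT : (Nat.card G).Coprime (Nat.card T) :=
        Nat.Coprime.coprime_dvd_right ⟨p, hcardT.symm⟩ hcop
      have hTp : IsPGroup p T := hS.to_le hTS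
      have ihT := ih (Nat.card T) hTlt G T rfl hnormT hcopT hTp D hDdef hDG
      have hsD : ∀ x ∈ S, ∀ d ∈ D, x * d * x⁻¹ ∈ D := by
        intro x hx d hd
        rw [hDdef] at hd ⊢
        obtain ⟨hdG, hdc⟩ := Subgroup.mem_inf.1 hd
        refine Subgroup.mem_inf.2 ⟨hnorm x hx d hdG, Subgroup.mem_centralizer_iff.2 ?_⟩
        intro t ht
        have h1 : x⁻¹ * t * x ∈ T := by
          have h0 := hTnorm x⁻¹ (S.inv_mem hx) t ht
          simpa using h0
        have h2 := Subgroup.mem_centralizer_iff.1 hdc _ h1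
        calc t * (x * d * x⁻¹) = x * ((x⁻¹ * t * x) * d) * x⁻¹ := by group
          _ = x * (d * (x⁻¹ * t * x)) * x⁻¹ := by rw [h2]
          _ = x * d * x⁻¹ * t := by group
      have hspD : ∀ d ∈ D, s ^ p * d = d * s ^ p := by
        intro d hd
        rw [hDdef] at hd
        exact Subgroup.mem_centralizer_iff.1 (Subgroup.mem_inf.1 hd).2 _ hspT
      have hcopD : (Nat.card D).Coprime p := by
        have h1 : Nat.card D ∣ Nat.card G := Subgroup.card_dvd_of_le hDG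
        have h2 : p ∣ Nat.card S := ⟨Nat.card T, by rw [← hcardT, mul_comm]⟩
        exact Nat.Coprime.coprime_dvd_left h1 (Nat.Coprime.coprime_dvd_right h2 hcop)
      have hCs : C = D ⊓ Subgroup.centralizer {s} := by
        rw [hC, hDdef]
        ext x
        simp only [Subgroup.mem_inf, Subgroup.mem_centralizer_iff]
        constructor
        · rintro ⟨hxG, hxS⟩
          refine ⟨⟨hxG, fun t ht => hxS t (hTS ht)⟩, ?_⟩
          intro y hy
          rw [Set.mem_singleton_iff] at hy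
          rw [hy]; exact hxS s hsS
        · rintro ⟨⟨hxG, hxT⟩, hxs⟩
          refine ⟨hxG, ?_⟩
          have hle : T ⊔ Subgroup.zpowers s ≤ Subgroup.centralizer {x} := by
            apply sup_le
            · intro t ht
              exact Subgroup.mem_centralizer_iff.2 (fun y hy => by
                rw [Set.mem_singleton_iff] at hy
                rw [hy]; exact (hxT t ht).symm)
            · rw [Subgroup.zpowers_le]
              exact Subgroup.mem_centralizer_iff.2 (fun y hy => by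
                rw [Set.mem_singleton_iff] at hy
                rw [hy]; exact (hxs s rfl).symm)
          intro y hy
          exact (Subgroup.mem_centralizer_iff.1 (hle (hgen hy)) x rfl).symm
      have hsD1 : ∀ d ∈ D, s * d * s⁻¹ ∈ D := hsD s hsS
      have hsD2 : ∀ d ∈ D, s⁻¹ * d * s ∈ D := fun d hd => by
        have h0 := hsD s⁻¹ (S.inv_mem hsS) d hd
        simpa using h0
      have hsG1 : ∀ g ∈ G, s * g * s⁻¹ ∈ G := hnorm s hsS
      have hsG2 : ∀ g ∈ G, s⁻¹ * g * s ∈ G := fun g hg => by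
        have h0 := hnorm s⁻¹ (S.inv_mem hsS) g hg
        simpa using h0
      have hstep := gp_step hp D s hsD1 hsD2 hspD hcopD C hCs hCD
      haveI : Fintype (Cfsg.IrrCharacter D) := Fintype.ofFinite _
      obtain ⟨σD, hσD⟩ : ∃ σD : D ≃* D, ∀ d : D, ((σD d : D) : Γ) = s * d * s⁻¹ :=
        ⟨gpConj D s hsD1 hsD2, fun d => rfl⟩
      obtain ⟨σG, hσG⟩ : ∃ σG : G ≃* G, ∀ g : G, ((σG g : G) : Γ) = s * g * s⁻¹ :=
        ⟨gpConj G s hsG1 hsG2, fun d => rfl⟩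
      have hres_conj : ∀ χ : G → ℂ, (fun d : D => (χ ∘ σG) ⟨d, hDG d.2⟩) =
          (fun d : D => χ ⟨d, hDG d.2⟩) ∘ σD := by
        intro χ
        funext d
        show χ (σG ⟨d, hDG d.2⟩) = χ ⟨(σD d : D), hDG (σD d).2⟩
        congr 1
        apply Subtype.ext
        rw [hσG]
        exact (hσD d).symm
      obtain ⟨h11, h12, h13, h14⟩ := ihT
      refine gcorr_compose hp _ _ _ _ _ _ ⟨h11, h12, h13, h14⟩ hstep ?_ ?_ ?_ ?_ ?_ ?_
      · intro χ _ h t ht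
        exact h t (hTS ht)
      · -- the corresponding character of `D` is `s`-invariant
        intro χ hχ hI₃ δ hδ ⟨m, hm, hpm⟩
        have hI₁ : ∀ t ∈ T, ∀ g g' : G, (g' : Γ) = t * g * t⁻¹ → χ g' = χ g :=
          fun t ht => hI₃ t (hTS ht)
        obtain ⟨δu, hδu, -, huniq⟩ := h11 χ hχ hI₁
        have e1 : δ = δu := huniq δ hδ ⟨m, hm, hpm⟩
        have hδ' : Cfsg.IsIrrCharacter D (δ ∘ σD) :=
          isIrrCharacter_comp_surj σD.toMonoidHom σD.surjective hδ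
        have hinvD : (fun d : D => χ ⟨d, hDG d.2⟩) ∘ σD = (fun d : D => χ ⟨d, hDG d.2⟩) := by
          funext d
          show χ ⟨(σD d : D), hDG (σD d).2⟩ = χ ⟨d, hDG d.2⟩
          exact hI₃ s hsS ⟨d, hDG d.2⟩ ⟨(σD d : D), hDG (σD d).2⟩ (hσD d)
        have hm' : Cfsg.classInner (fun d : D => χ ⟨d, hDG d.2⟩) (δ ∘ σD) = m := by
          rw [← hm]
          conv_lhs => rw [← hinvD]
          exact classInner_comp_equiv σD _ _
        have e2 : δ ∘ σD = δu := huniq _ hδ' ⟨m, hm', hpm⟩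
        intro d d' hdd'
        have h5 : d' = σD d := Subtype.ext (by rw [hdd', hσD])
        rw [h5]
        have h6 := congrFun (e2.trans e1.symm) d
        exact h6
      · -- the character over an `s`-invariant character of `D` is `S`-invariant
        intro χ hχ hI₁ δ hδ hI₂ ⟨m, hm, hpm⟩
        have hχ' : Cfsg.IsIrrCharacter G (χ ∘ σG) :=
          isIrrCharacter_comp_surj σG.toMonoidHom σG.surjective hχ
        have hI₁' : ∀ t ∈ T, ∀ g g' : G, (g' : Γ) = t * g * t⁻¹ → (χ ∘ σG) g' = (χ ∘ σG) g := by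
          intro t ht g g' hgg'
          show χ (σG g') = χ (σG g)
          apply hI₁ (s * t * s⁻¹) (hTnorm s hsS t ht) (σG g) (σG g')
          rw [hσG, hσG, hgg']
          group
        have hδinv : δ ∘ σD = δ := by
          funext d
          exact hI₂ d (σD d) (hσD d)
        have hm' : Cfsg.classInner (fun d : D => (χ ∘ σG) ⟨d, hDG d.2⟩) δ = m := by
          rw [hres_conj, ← hm]
          conv_lhs => rw [← hδinv]
          exact classInner_comp_equiv σD _ _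
        have hχeq : χ ∘ σG = χ := h13 _ _ hχ' hχ hI₁' hI₁ δ hδ m m hm' hpm hm hpm
        have hsStab : s ∈ gpStab G χ := by
          rw [mem_gpStab]
          refine ⟨hsG1, hsG2, ?_⟩
          intro g g' hgg'
          have h5 : g' = σG g := Subtype.ext (by rw [hgg', hσG])
          rw [h5]
          exact congrFun hχeq g
        have hTStab : T ≤ gpStab G χ := by
          intro t ht
          rw [mem_gpStab]
          refine ⟨hnormT t ht, ?_, hI₁ t ht⟩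
          intro g hg
          have h0 := hnormT t⁻¹ (T.inv_mem ht) g hg
          simpa using h0
        have hSStab : S ≤ gpStab G χ :=
          hgen.trans (sup_le hTStab ((Subgroup.zpowers_le).2 hsStab))
        intro x hx
        exact ((mem_gpStab G χ x).1 (hSStab hx)).2.2
      · intro χ hχ β
        have hcl : Cfsg.IsClassFunction D (fun d : D => χ ⟨d, hDG d.2⟩) :=
          isClassFunction_of_isCharacter
            (isCharacter_comp (Subgroup.inclusion hDG) (isCharacter_of_isIrrCharacter hχ))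
        have hexp := classFunction_expansion_sum (fun d : D => χ ⟨d, hDG d.2⟩) hcl
        have h3 : (fun c : C => χ ⟨c, hCG c.2⟩) =
            ∑ δ : Cfsg.IrrCharacter D,
              Cfsg.classInner (fun d : D => χ ⟨d, hDG d.2⟩) (δ : D → ℂ) •
                (fun c : C => (δ : D → ℂ) ⟨c, hCD c.2⟩) := by
          funext c
          have h4 := congrFun hexp ⟨c, hCD c.2⟩
          rw [Finset.sum_apply] at h4 ⊢
          exact h4
        rw [h3, classInner_sum_left]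
        apply Finset.sum_congr rfl
        intro δ _
        rw [classInner_smul_left]
      · intro χ hχ δ hδ
        exact classInner_char_irr_nat
          (isCharacter_comp (Subgroup.inclusion hDG) (isCharacter_of_isIrrCharacter hχ)) hδ
      · intro δ hδ β hβ
        exact classInner_char_irr_nat
          (isCharacter_comp (Subgroup.inclusion hCD) (isCharacter_of_isIrrCharacter hδ)) hβ

end Cfsg.Agent.Lib.Helper7
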