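import Mathlib
import Cfsg.Prelude.Def_Characters
import Cfsg.Agent.Lib.Helper7.GlaubInd

set_option autoImplicit false

universe u

namespace Cfsg.Agent.Lib.Helper7

open Cfsg.Agent.Lib.Lead
open scoped ComplexConjugate

/-! ### the correspondence for a group of operators acting as a `p`-group -/

theorem gp_induct2 {Γ : Type u} [Group Γ] [Finite Γ] {p : ℕ} (hp : p.Prime) :
    ∀ (n : ℕ) (G S : Subgroup Γ), Nat.card S = n → (∀ s ∈ S, ∀ g ∈ G, s * g * s⁻¹ ∈ G) →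
      (Nat.card G).Coprime (Nat.card S) →
      (∀ s ∈ S, ∃ k : ℕ, ∀ g ∈ G, s ^ (p ^ k) * g = g * s ^ (p ^ k)) →
      ∀ (C : Subgroup Γ) [Fintype C] (_ : C = G ⊓ Subgroup.centralizer (S : Set Γ))
        (hCG : C ≤ G),
      GCorr p (A := G) (B := C)
        (fun χ => ∀ s ∈ S, ∀ g g' : G, (g' : Γ) = s * g * s⁻¹ → χ g' = χ g)
        (fun χ c => χ ⟨c, hCG c.2⟩) := by
  classical
  haveI : Fact p.Prime := ⟨hp⟩
  intro n
  induction n using Nat.strong_induction_on with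
  | _ n ih =>
    intro G S hn hnorm hcop hSp C instC hC hCG
    by_cases hcent : ∀ s ∈ S, ∀ g ∈ G, s * g = g * s
    · have hGC : G ≤ C := by
        intro g hg
        rw [hC]
        exact Subgroup.mem_inf.2 ⟨hg,
          Subgroup.mem_centralizer_iff.2 (fun s hs => hcent s hs g hg)⟩
      have hCeq : C = G := le_antisymm hCG hGC
      apply gcorr_trivial hp (MulEquiv.subgroupCongr hCeq)
      · intro χ; funext c; rfl
      · intro χ _ s hs g g' hgg'
        have h1 : g' = g := Subtype.ext (by rw [hgg', hcent s hs g g.2]; group)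
        rw [h1]
    · obtain ⟨Kc, hKcdef⟩ : ∃ Kc : Subgroup S,
          Kc = (Subgroup.centralizer (G : Set Γ)).subgroupOf S := ⟨_, rfl⟩
      have hKcmem : ∀ x : S, x ∈ Kc ↔ ∀ g ∈ G, g * (x : Γ) = (x : Γ) * g := by
        intro x
        rw [hKcdef, Subgroup.mem_subgroupOf, Subgroup.mem_centralizer_iff]
        rfl
      have hKcn : Kc.Normal := by
        constructor
        intro k hk x
        rw [hKcmem] at hk ⊢
        intro g hg
        have h1 : (x : Γ)⁻¹ * g * x ∈ G := by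
          have h0 := hnorm (x : Γ)⁻¹ (S.inv_mem x.2) g hg
          simpa using h0
        have h2 := hk _ h1
        show g * ((x : Γ) * (k : Γ) * (x : Γ)⁻¹) = (x : Γ) * (k : Γ) * (x : Γ)⁻¹ * g
        calc g * ((x : Γ) * (k : Γ) * (x : Γ)⁻¹)
            = x * (((x : Γ)⁻¹ * g * x) * k) * (x : Γ)⁻¹ := by group
          _ = x * (k * ((x : Γ)⁻¹ * g * x)) * (x : Γ)⁻¹ := by rw [h2]
          _ = (x : Γ) * (k : Γ) * (x : Γ)⁻¹ * g := by group
      haveI := hKcn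
      have hQp : IsPGroup p (S ⧸ Kc) := by
        intro q
        obtain ⟨x, rfl⟩ := QuotientGroup.mk_surjective q
        obtain ⟨k, hk⟩ := hSp (x : Γ) x.2
        refine ⟨k, ?_⟩
        rw [← QuotientGroup.mk_pow, QuotientGroup.eq_one_iff, hKcmem]
        intro g hg
        exact (hk g hg).symm
      have hQne : Nat.card (S ⧸ Kc) ≠ 1 := by
        intro h1
        apply hcent
        intro s hs g hg
        have h2 : Kc = ⊤ := by
          have h3 : Kc.index = 1 := by rw [Subgroup.index_eq_card]; exact h1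
          exact Subgroup.index_eq_one.1 h3
        have h4 : (⟨s, hs⟩ : S) ∈ Kc := by rw [h2]; trivial
        exact ((hKcmem _).1 h4 g hg).symm
      obtain ⟨r, hr⟩ := (IsPGroup.iff_card (p := p) (G := S ⧸ Kc)).1 hQp
      have hr0 : r ≠ 0 := by
        rintro rfl
        exact hQne (by rw [hr]; simp)
      obtain ⟨r', rfl⟩ := Nat.exists_eq_succ_of_ne_zero hr0
      have hbot : (⊥ : Subgroup (S ⧸ Kc)).index = p ^ (r' + 1) := by
        rw [Subgroup.index_bot, hr]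
      obtain ⟨N, hNn, -, hNidx, -⟩ :=
        exists_normal_index_p p hp r' (⊥ : Subgroup (S ⧸ Kc)) hbot
      obtain ⟨M, hMdef⟩ : ∃ M : Subgroup S, M = N.comap (QuotientGroup.mk' Kc) := ⟨_, rfl⟩
      have hMn : M.Normal := by rw [hMdef]; exact hNn.comap _
      have hMidx : M.index = p := by
        rw [hMdef, Subgroup.index_comap_of_surjective N (QuotientGroup.mk'_surjective Kc)]
        exact hNidx
      haveI := hMn
      obtain ⟨T, hTdef⟩ : ∃ T : Subgroup Γ, T = M.map S.subtype := ⟨_, rfl⟩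
      have hTS : T ≤ S := by rw [hTdef]; exact Subgroup.map_subtype_le M
      have hTmem : ∀ x : S, (x : Γ) ∈ T ↔ x ∈ M := by
        intro x
        rw [hTdef, Subgroup.mem_map]
        constructor
        · rintro ⟨y, hy, hyx⟩
          have h1 : y = x := Subtype.ext hyx
          rw [← h1]; exact hy
        · intro hx; exact ⟨x, hx, rfl⟩
      have hTnorm : ∀ x ∈ S, ∀ t ∈ T, x * t * x⁻¹ ∈ T := by
        intro x hx t ht
        have h1 := (hTmem ⟨t, hTS ht⟩).1 ht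
        have h2 := hMn.conj_mem _ h1 ⟨x, hx⟩
        exact (hTmem _).2 h2
      have hcardT : Nat.card T * p = Nat.card S := by
        have h1 := Subgroup.card_mul_index M
        rw [hMidx] at h1
        have h2 : Nat.card T = Nat.card M := by
          rw [hTdef]
          exact (Nat.card_congr
            (M.equivMapOfInjective S.subtype S.subtype_injective).toEquiv).symm
        rw [h2]; exact h1
      have hTlt : Nat.card T < n := by
        rw [← hn, ← hcardT]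
        have h1 : 0 < Nat.card T := Nat.card_pos
        nlinarith [hp.one_lt]
      obtain ⟨s', hs'⟩ : ∃ s' : S, s' ∉ M := by
        by_contra hcon
        have h1 : M = ⊤ := eq_top_iff.2 (fun x _ => by
          by_contra hx; exact hcon ⟨x, hx⟩)
        rw [h1, Subgroup.index_top] at hMidx
        exact hp.one_lt.ne hMidx
      obtain ⟨s, hsS, hss'⟩ : ∃ s : Γ, ∃ h : s ∈ S, (⟨s, h⟩ : S) = s' := ⟨s', s'.2, rfl⟩
      have hsM : (⟨s, hsS⟩ : S) ∉ M := by rw [hss']; exact hs'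
      have hspT : s ^ p ∈ T := by
        have h1 := Subgroup.pow_index_mem M (⟨s, hsS⟩ : S)
        rw [hMidx] at h1
        exact (hTmem _).2 h1
      have hgen : S ≤ T ⊔ Subgroup.zpowers s := by
        intro x hx
        obtain ⟨k, hk⟩ := gp_gen hp M hMidx ⟨s, hsS⟩ hsM ⟨x, hx⟩
        have h1 : ((s ^ k)⁻¹ * x) ∈ T := (hTmem _).2 hk
        have h2 : x = s ^ k * ((s ^ k)⁻¹ * x) := by group
        rw [h2]
        exact Subgroup.mul_mem _ (Subgroup.mem_sup_right (Subgroup.zpow_mem_zpowers s k))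
          (Subgroup.mem_sup_left h1)
      obtain ⟨D, hDdef⟩ : ∃ D : Subgroup Γ, D = G ⊓ Subgroup.centralizer (T : Set Γ) :=
        ⟨_, rfl⟩
      haveI : Fintype D := Fintype.ofFinite _
      have hDG : D ≤ G := by rw [hDdef]; exact inf_le_left
      have hCD : C ≤ D := by
        rw [hC, hDdef]
        exact inf_le_inf_left _ (Subgroup.centralizer_le (fun t ht => hTS ht))
      have hnormT : ∀ t ∈ T, ∀ g ∈ G, t * g * t⁻¹ ∈ G := fun t ht => hnorm t (hTS ht)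
      have hcopT : (Nat.card G).Coprime (Nat.card T) :=
        Nat.Coprime.coprime_dvd_right ⟨p, hcardT.symm⟩ hcop
      have hTp : ∀ t ∈ T, ∃ k : ℕ, ∀ g ∈ G, t ^ (p ^ k) * g = g * t ^ (p ^ k) :=
        fun t ht => hSp t (hTS ht)
      have ihT := ih (Nat.card T) hTlt G T rfl hnormT hcopT hTp D hDdef hDG
      have hsD : ∀ x ∈ S, ∀ d ∈ D, x * d * x⁻¹ ∈ D := by
        intro x hx d hd
        rw [hDdef] at hd ⊢
        obtain ⟨hdG, hdc⟩ := Subgroup.mem_inf.1 hd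
        refine Subgroup.mem_inf.2 ⟨hnorm x hx d hdG, Subgroup.mem_centralizer_iff.2 ?_⟩
        intro t ht
        have h1 : x⁻¹ * t * x ∈ T := by
          have h0 := hTnorm x⁻¹ (S.inv_mem hx) t ht
          simpa using h0
        have h2 := Subgroup.mem_centralizer_iff.1 hdc _ h1
        calc t * (x * d * x⁻¹) = x * ((x⁻¹ * t * x) * d) * x⁻¹ := by group
          _ = x * (d * (x⁻¹ * t * x)) * x⁻¹ := by rw [h2]
          _ = x * d * x⁻¹ * t := by group
      have hspD : ∀ d ∈ D, s ^ p * d = d * s ^ p := by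
        intro d hd
        rw [hDdef] at hd
        exact Subgroup.mem_centralizer_iff.1 (Subgroup.mem_inf.1 hd).2 _ hspT
      have hcopD : (Nat.card D).Coprime p := by
        have h1 : Nat.card D ∣ Nat.card G := Subgroup.card_dvd_of_le hDG
        have h2 : p ∣ Nat.card S := ⟨Nat.card T, by rw [← hcardT, mul_comm]⟩
        exact Nat.Coprime.coprime_dvd_left h1 (Nat.Coprime.coprime_dvd_right h2 hcop)
      have hCs : C = D ⊓ Subgroup.centralizer {s} := by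
        rw [hC, hDdef]
        ext x
        simp only [Subgroup.mem_inf, Subgroup.mem_centralizer_iff]
        constructor
        · rintro ⟨hxG, hxS⟩
          refine ⟨⟨hxG, fun t ht => hxS t (hTS ht)⟩, ?_⟩
          intro y hy
          rw [Set.mem_singleton_iff] at hy
          rw [hy]; exact hxS s hsS
        · rintro ⟨⟨hxG, hxT⟩, hxs⟩
          refine ⟨hxG, ?_⟩
          have hle : T ⊔ Subgroup.zpowers s ≤ Subgroup.centralizer {x} := by
            apply sup_le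
            · intro t ht
              exact Subgroup.mem_centralizer_iff.2 (fun y hy => by
                rw [Set.mem_singleton_iff] at hy
                rw [hy]; exact (hxT t ht).symm)
            · rw [Subgroup.zpowers_le]
              exact Subgroup.mem_centralizer_iff.2 (fun y hy => by
                rw [Set.mem_singleton_iff] at hy
                rw [hy]; exact (hxs s rfl).symm)
          intro y hy
          exact (Subgroup.mem_centralizer_iff.1 (hle (hgen hy)) x rfl).symm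
      have hsD1 : ∀ d ∈ D, s * d * s⁻¹ ∈ D := hsD s hsS
      have hsD2 : ∀ d ∈ D, s⁻¹ * d * s ∈ D := fun d hd => by
        have h0 := hsD s⁻¹ (S.inv_mem hsS) d hd
        simpa using h0
      have hsG1 : ∀ g ∈ G, s * g * s⁻¹ ∈ G := hnorm s hsS
      have hsG2 : ∀ g ∈ G, s⁻¹ * g * s ∈ G := fun g hg => by
        have h0 := hnorm s⁻¹ (S.inv_mem hsS) g hg
        simpa using h0
      have hstep := gp_step hp D s hsD1 hsD2 hspD hcopD C hCs hCD
      haveI : Fintype (Cfsg.IrrCharacter D) := Fintype.ofFinite _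
      obtain ⟨σD, hσD⟩ : ∃ σD : D ≃* D, ∀ d : D, ((σD d : D) : Γ) = s * d * s⁻¹ :=
        ⟨gpConj D s hsD1 hsD2, fun d => rfl⟩
      obtain ⟨σG, hσG⟩ : ∃ σG : G ≃* G, ∀ g : G, ((σG g : G) : Γ) = s * g * s⁻¹ :=
        ⟨gpConj G s hsG1 hsG2, fun d => rfl⟩
      have hres_conj : ∀ χ : G → ℂ, (fun d : D => (χ ∘ σG) ⟨d, hDG d.2⟩) =
          (fun d : D => χ ⟨d, hDG d.2⟩) ∘ σD := by
        intro χ
        funext d
        show χ (σG ⟨d, hDG d.2⟩) = χ ⟨(σD d : D), hDG (σD d).2⟩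
        congr 1
        apply Subtype.ext
        rw [hσG]
        exact (hσD d).symm
      obtain ⟨h11, h12, h13, h14⟩ := ihT
      refine gcorr_compose hp _ _ _ _ _ _ ⟨h11, h12, h13, h14⟩ hstep ?_ ?_ ?_ ?_ ?_ ?_
      · intro χ _ h t ht
        exact h t (hTS ht)
      · -- the corresponding character of `D` is `s`-invariant
        intro χ hχ hI₃ δ hδ ⟨m, hm, hpm⟩
        have hI₁ : ∀ t ∈ T, ∀ g g' : G, (g' : Γ) = t * g * t⁻¹ → χ g' = χ g :=
          fun t ht => hI₃ t (hTS ht)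
        obtain ⟨δu, hδu, -, huniq⟩ := h11 χ hχ hI₁
        have e1 : δ = δu := huniq δ hδ ⟨m, hm, hpm⟩
        have hδ' : Cfsg.IsIrrCharacter D (δ ∘ σD) :=
          isIrrCharacter_comp_surj σD.toMonoidHom σD.surjective hδ
        have hinvD : (fun d : D => χ ⟨d, hDG d.2⟩) ∘ σD = (fun d : D => χ ⟨d, hDG d.2⟩) := by
          funext d
          show χ ⟨(σD d : D), hDG (σD d).2⟩ = χ ⟨d, hDG d.2⟩
          exact hI₃ s hsS ⟨d, hDG d.2⟩ ⟨(σD d : D), hDG (σD d).2⟩ (hσD d)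
        have hm' : Cfsg.classInner (fun d : D => χ ⟨d, hDG d.2⟩) (δ ∘ σD) = m := by
          rw [← hm]
          conv_lhs => rw [← hinvD]
          exact classInner_comp_equiv σD _ _
        have e2 : δ ∘ σD = δu := huniq _ hδ' ⟨m, hm', hpm⟩
        intro d d' hdd'
        have h5 : d' = σD d := Subtype.ext (by rw [hdd', hσD])
        rw [h5]
        have h6 := congrFun (e2.trans e1.symm) d
        exact h6
      · -- the character over an `s`-invariant character of `D` is `S`-invariant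
        intro χ hχ hI₁ δ hδ hI₂ ⟨m, hm, hpm⟩
        have hχ' : Cfsg.IsIrrCharacter G (χ ∘ σG) :=
          isIrrCharacter_comp_surj σG.toMonoidHom σG.surjective hχ
        have hI₁' : ∀ t ∈ T, ∀ g g' : G, (g' : Γ) = t * g * t⁻¹ → (χ ∘ σG) g' = (χ ∘ σG) g := by
          intro t ht g g' hgg'
          show χ (σG g') = χ (σG g)
          apply hI₁ (s * t * s⁻¹) (hTnorm s hsS t ht) (σG g) (σG g')
          rw [hσG, hσG, hgg']
          group
        have hδinv : δ ∘ σD = δ := by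
          funext d
          exact hI₂ d (σD d) (hσD d)
        have hm' : Cfsg.classInner (fun d : D => (χ ∘ σG) ⟨d, hDG d.2⟩) δ = m := by
          rw [hres_conj, ← hm]
          conv_lhs => rw [← hδinv]
          exact classInner_comp_equiv σD _ _
        have hχeq : χ ∘ σG = χ := h13 _ _ hχ' hχ hI₁' hI₁ δ hδ m m hm' hpm hm hpm
        have hsStab : s ∈ gpStab G χ := by
          rw [mem_gpStab]
          refine ⟨hsG1, hsG2, ?_⟩
          intro g g' hgg'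
          have h5 : g' = σG g := Subtype.ext (by rw [hgg', hσG])
          rw [h5]
          exact congrFun hχeq g
        have hTStab : T ≤ gpStab G χ := by
          intro t ht
          rw [mem_gpStab]
          refine ⟨hnormT t ht, ?_, hI₁ t ht⟩
          intro g hg
          have h0 := hnormT t⁻¹ (T.inv_mem ht) g hg
          simpa using h0
        have hSStab : S ≤ gpStab G χ :=
          hgen.trans (sup_le hTStab ((Subgroup.zpowers_le).2 hsStab))
        intro x hx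
        exact ((mem_gpStab G χ x).1 (hSStab hx)).2.2
      · intro χ hχ β
        have hcl : Cfsg.IsClassFunction D (fun d : D => χ ⟨d, hDG d.2⟩) :=
          isClassFunction_of_isCharacter
            (isCharacter_comp (Subgroup.inclusion hDG) (isCharacter_of_isIrrCharacter hχ))
        have hexp := classFunction_expansion_sum (fun d : D => χ ⟨d, hDG d.2⟩) hcl
        have h3 : (fun c : C => χ ⟨c, hCG c.2⟩) =
            ∑ δ : Cfsg.IrrCharacter D,
              Cfsg.classInner (fun d : D => χ ⟨d, hDG d.2⟩) (δ : D → ℂ) •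
                (fun c : C => (δ : D → ℂ) ⟨c, hCD c.2⟩) := by
          funext c
          have h4 := congrFun hexp ⟨c, hCD c.2⟩
          rw [Finset.sum_apply] at h4 ⊢
          exact h4
        rw [h3, classInner_sum_left]
        apply Finset.sum_congr rfl
        intro δ _
        rw [classInner_smul_left]
      · intro χ hχ δ hδ
        exact classInner_char_irr_nat
          (isCharacter_comp (Subgroup.inclusion hDG) (isCharacter_of_isIrrCharacter hχ)) hδ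
      · intro δ hδ β hβ
        exact classInner_char_irr_nat
          (isCharacter_comp (Subgroup.inclusion hCD) (isCharacter_of_isIrrCharacter hδ)) hβ


/-! ### a chief-factor step in a solvable group -/

theorem solv_step {S : Type u} [Group S] [Finite S] [Group.IsSolvable S] (T : Subgroup S)
    [hTn : T.Normal] (hT : T ≠ ⊥) :
    ∃ p : ℕ, p.Prime ∧ p ∣ Nat.card T ∧ ∃ T₁ : Subgroup S, T₁.Normal ∧ T₁ ≤ T ∧ T₁ ≠ T ∧
      ∀ t ∈ T, t ^ p ∈ T₁ := by
  classical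
  haveI : Nontrivial T := (Subgroup.nontrivial_iff_ne_bot T).2 hT
  have hlt := Group.IsSolvable.commutator_lt_top_of_nontrivial T
  obtain ⟨t₀, ht₀⟩ : ∃ t : T, t ∉ commutator T := by
    by_contra hcon
    push_neg at hcon
    exact hlt.ne (eq_top_iff.2 (fun x _ => hcon x))
  have hA1 : (Abelianization.of t₀ : Abelianization T) ≠ 1 := by
    intro h
    apply ht₀
    rw [← Abelianization.ker_of]
    exact MonoidHom.mem_ker.2 h
  have hcardA : Nat.card (Abelianization T) ≠ 1 := by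
    intro h
    haveI := (Nat.card_eq_one_iff_unique.1 h).1
    exact hA1 (Subsingleton.elim _ _)
  obtain ⟨p, hp, hpd⟩ := Nat.exists_prime_and_dvd hcardA
  haveI : Fact p.Prime := ⟨hp⟩
  obtain ⟨a, ha⟩ := exists_prime_orderOf_dvd_card' (G := Abelianization T) p hpd
  have hfns : ¬ Function.Surjective (fun c : Abelianization T => c ^ p) := by
    intro hs
    have hi : Function.Injective (fun c : Abelianization T => c ^ p) :=
      Finite.injective_iff_surjective.2 hs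
    have h1 : (fun c : Abelianization T => c ^ p) a = (fun c : Abelianization T => c ^ p) 1 := by
      show a ^ p = 1 ^ p
      rw [one_pow, ← ha, pow_orderOf_eq_one]
    have h2 := hi h1
    rw [h2, orderOf_one] at ha
    exact hp.one_lt.ne ha
  obtain ⟨b, hb⟩ : ∃ b : Abelianization T, ∀ c : Abelianization T, c ^ p ≠ b := by
    by_contra hcon
    push_neg at hcon
    exact hfns hcon
  obtain ⟨u₀, hu₀⟩ : ∃ u₀ : T, Abelianization.of u₀ = b := QuotientGroup.mk_surjective b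
  have hpT : p ∣ Nat.card T :=
    dvd_trans hpd (Subgroup.card_quotient_dvd_card (commutator T))
  obtain ⟨K, hKdef⟩ : ∃ K : Subgroup S,
      K = (((powMonoidHom p : Abelianization T →* Abelianization T).range).comap
        Abelianization.of).map T.subtype := ⟨_, rfl⟩
  have hKmem : ∀ v : T, (v : S) ∈ K ↔ ∃ c : Abelianization T, c ^ p = Abelianization.of v := by
    intro v
    rw [hKdef, Subgroup.mem_map]
    constructor
    · rintro ⟨w, hw, hwv⟩
      have h1 : w = v := Subtype.ext hwv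
      rw [h1] at hw
      obtain ⟨c, hc⟩ := hw
      exact ⟨c, hc⟩
    · rintro ⟨c, hc⟩
      exact ⟨v, ⟨c, hc⟩, rfl⟩
  refine ⟨p, hp, hpT, Subgroup.normalClosure {x | ∃ u ∈ T, x = u ^ p},
    Subgroup.normalClosure_normal, ?_, ?_, ?_⟩
  · apply Subgroup.normalClosure_le_normal
    rintro x ⟨u, hu, rfl⟩
    exact T.pow_mem hu p
  · intro heq
    have hle : Subgroup.normalClosure {x | ∃ u ∈ T, x = u ^ p} ≤ K := by
      show Subgroup.closure (Group.conjugatesOfSet {x | ∃ u ∈ T, x = u ^ p}) ≤ K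
      rw [Subgroup.closure_le]
      intro y hy
      rw [Group.mem_conjugatesOfSet_iff] at hy
      obtain ⟨x, ⟨u, hu, rfl⟩, hconj⟩ := hy
      obtain ⟨c, hc⟩ := isConj_iff.1 hconj
      have hv : c * u * c⁻¹ ∈ T := hTn.conj_mem u hu c
      have hy2 : y = ((⟨c * u * c⁻¹, hv⟩ ^ p : T) : S) := by
        rw [← hc, Subgroup.coe_pow]
        show c * u ^ p * c⁻¹ = (c * u * c⁻¹) ^ p
        rw [conj_pow]
      rw [hy2]
      show ((⟨c * u * c⁻¹, hv⟩ ^ p : T) : S) ∈ K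
      rw [hKmem]
      exact ⟨Abelianization.of ⟨c * u * c⁻¹, hv⟩, (map_pow _ _ _).symm⟩
    have h3 : (u₀ : S) ∈ K := hle (by rw [heq]; exact u₀.2)
    obtain ⟨c, hc⟩ := (hKmem u₀).1 h3
    exact hb c (hc.trans hu₀)
  · intro t ht
    exact Subgroup.subset_normalClosure ⟨t, ht, rfl⟩

/-! ### fixed points of a group acting as a `p`-group -/

theorem fixed_point_acts {T X : Type*} [Group T] [MulAction T X] {p : ℕ} (hp : p.Prime)
    (h : ∀ t : T, ∃ k : ℕ, ∀ x : X, t ^ (p ^ k) • x = x) (hX : ¬ p ∣ Nat.card X) :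
    ∃ x : X, ∀ t : T, t • x = x := by
  haveI : Fact p.Prime := ⟨hp⟩
  have hR : IsPGroup p (MulAction.toPermHom T X).range := by
    rintro ⟨_, t, rfl⟩
    obtain ⟨k, hk⟩ := h t
    refine ⟨k, Subtype.ext ?_⟩
    show (MulAction.toPermHom T X t) ^ (p ^ k) = 1
    rw [← map_pow]
    ext x
    exact hk x
  obtain ⟨x, hx⟩ := hR.nonempty_fixed_point_of_prime_not_dvd_card X hX
  refine ⟨x, fun t => ?_⟩
  exact hx ⟨MulAction.toPermHom T X t, t, rfl⟩

theorem conj_fixed {Γ : Type u} [Group Γ] {p : ℕ} (hp : p.Prime) (G T : Subgroup Γ)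
    (hTp : ∀ t ∈ T, ∃ k : ℕ, ∀ g ∈ G, t ^ (p ^ k) * g = g * t ^ (p ^ k))
    (X : Set Γ) (hXG : ∀ x ∈ X, x ∈ G) (hXT : ∀ t ∈ T, ∀ x ∈ X, t * x * t⁻¹ ∈ X)
    (hX : ¬ p ∣ Nat.card X) : ∃ x ∈ X, ∀ t ∈ T, t * x = x * t := by
  letI : MulAction T X :=
    { smul := fun t x => ⟨(t : Γ) * x * (t : Γ)⁻¹, hXT t t.2 x x.2⟩
      one_smul := fun x => Subtype.ext (by
        show ((1 : T) : Γ) * x * ((1 : T) : Γ)⁻¹ = x
        simp)
      mul_smul := fun a b x => Subtype.ext (by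
        show ((a * b : T) : Γ) * x * ((a * b : T) : Γ)⁻¹ =
          (a : Γ) * ((b : Γ) * x * (b : Γ)⁻¹) * (a : Γ)⁻¹
        rw [Subgroup.coe_mul]; group) }
  have hsm : ∀ (t : T) (x : X), ((t • x : X) : Γ) = (t : Γ) * x * (t : Γ)⁻¹ := fun t x => rfl
  obtain ⟨x, hx⟩ := fixed_point_acts (T := T) (X := X) hp (by
    intro t
    obtain ⟨k, hk⟩ := hTp t t.2
    refine ⟨k, fun x => Subtype.ext ?_⟩
    rw [hsm, Subgroup.coe_pow, hk x (hXG x x.2)]
    group) hX
  refine ⟨x, x.2, fun t ht => ?_⟩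
  have h1 : t * (x : Γ) * t⁻¹ = x := congrArg Subtype.val (hx ⟨t, ht⟩)
  calc t * (x : Γ) = (t * x * t⁻¹) * t := by group
    _ = x * t := by rw [h1]

/-! ### conjugacy classes of a subgroup, in terms of the ambient group -/

theorem mk_eq_iff {Γ : Type u} [Group Γ] (G : Subgroup Γ) (a b : G) :
    ConjClasses.mk a = ConjClasses.mk b ↔ ∃ h ∈ G, h * (a : Γ) * h⁻¹ = (b : Γ) := by
  rw [ConjClasses.mk_eq_mk_iff_isConj, isConj_iff]
  constructor
  · rintro ⟨c, hc⟩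
    refine ⟨c, c.2, ?_⟩
    rw [← hc]
    rfl
  · rintro ⟨h, hh, e⟩
    exact ⟨⟨h, hh⟩, Subtype.ext e⟩

/-- invariance of a class function under a group of operators -/
def ChInv {Γ : Type u} [Group Γ] (G S : Subgroup Γ) (χ : G → ℂ) : Prop :=
  ∀ s ∈ S, ∀ g g' : G, (g' : Γ) = s * g * s⁻¹ → χ g' = χ g

/-- invariance of a conjugacy class under a group of operators -/
def ClInv {Γ : Type u} [Group Γ] (G S : Subgroup Γ) (K : ConjClasses G) : Prop :=
  ∀ s ∈ S, ∀ g g' : G, (g' : Γ) = s * g * s⁻¹ → ConjClasses.mk g = K → ConjClasses.mk g' = K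

theorem cl_inv_iff {Γ : Type u} [Group Γ] (G S : Subgroup Γ)
    (hnorm : ∀ s ∈ S, ∀ g ∈ G, s * g * s⁻¹ ∈ G) (x : G) :
    ClInv G S (ConjClasses.mk x) ↔
    ∀ s ∈ S, ∃ h ∈ G, h * (s * (x : Γ) * s⁻¹) * h⁻¹ = (x : Γ) := by
  constructor
  · intro H s hs
    have h1 := H s hs x ⟨s * x * s⁻¹, hnorm s hs x x.2⟩ rfl rfl
    exact (mk_eq_iff G _ _).1 h1
  · intro H s hs g g' hgg' hg
    obtain ⟨h, hh, e⟩ := H s hs
    obtain ⟨c, hc, e2⟩ := (mk_eq_iff G _ _).1 hg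
    rw [mk_eq_iff]
    refine ⟨h * (s * c * s⁻¹), G.mul_mem hh (hnorm s hs c hc), ?_⟩
    calc h * (s * c * s⁻¹) * (g' : Γ) * (h * (s * c * s⁻¹))⁻¹
        = h * (s * (c * (g : Γ) * c⁻¹) * s⁻¹) * h⁻¹ := by rw [hgg']; group
      _ = h * (s * (x : Γ) * s⁻¹) * h⁻¹ := by rw [e2]
      _ = x := e

theorem cent_norm {Γ : Type u} [Group Γ] (G S T : Subgroup Γ)
    (hnorm : ∀ s ∈ S, ∀ g ∈ G, s * g * s⁻¹ ∈ G)
    (hTnorm : ∀ s ∈ S, ∀ t ∈ T, s * t * s⁻¹ ∈ T)
    (C : Subgroup Γ) (hC : C = G ⊓ Subgroup.centralizer (T : Set Γ)) :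
    ∀ s ∈ S, ∀ d ∈ C, s * d * s⁻¹ ∈ C := by
  intro s hs d hd
  rw [hC] at hd ⊢
  obtain ⟨hdG, hdc⟩ := Subgroup.mem_inf.1 hd
  refine Subgroup.mem_inf.2 ⟨hnorm s hs d hdG, Subgroup.mem_centralizer_iff.2 ?_⟩
  intro t ht
  have h1 : s⁻¹ * t * s ∈ T := by
    have h0 := hTnorm s⁻¹ (S.inv_mem hs) t ht
    simpa using h0
  have h2 := Subgroup.mem_centralizer_iff.1 hdc _ h1
  calc t * (s * d * s⁻¹) = s * ((s⁻¹ * t * s) * d) * s⁻¹ := by group
    _ = s * (d * (s⁻¹ * t * s)) * s⁻¹ := by rw [h2]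
    _ = s * d * s⁻¹ * t := by group

theorem cl_fusion {Γ : Type u} [Group Γ] [Finite Γ] {p : ℕ} (hp : p.Prime) (G T : Subgroup Γ)
    (hnormT : ∀ t ∈ T, ∀ g ∈ G, t * g * t⁻¹ ∈ G)
    (hTp : ∀ t ∈ T, ∃ k : ℕ, ∀ g ∈ G, t ^ (p ^ k) * g = g * t ^ (p ^ k))
    (hpG : ¬ p ∣ Nat.card G) (c c' : Γ)
    (hcT : ∀ t ∈ T, t * c = c * t) (hcT' : ∀ t ∈ T, t * c' = c' * t)
    (g : Γ) (hg : g ∈ G) (h : g * c * g⁻¹ = c') :
    ∃ n ∈ G, (∀ t ∈ T, t * n = n * t) ∧ n * c * n⁻¹ = c' := by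
  obtain ⟨X, hXdef⟩ : ∃ X : Set Γ, X = {x | x ∈ G ∧ x * c * x⁻¹ = c'} := ⟨_, rfl⟩
  have hXmem : ∀ x : Γ, x ∈ X ↔ x ∈ G ∧ x * c * x⁻¹ = c' := by
    intro x; rw [hXdef]; rfl
  have hto : ∀ x : X, g⁻¹ * (x : Γ) ∈ (G ⊓ Subgroup.centralizer {c} : Subgroup Γ) := by
    intro x
    obtain ⟨hx1, hx2⟩ := (hXmem x).1 x.2
    refine Subgroup.mem_inf.2 ⟨G.mul_mem (G.inv_mem hg) hx1, Subgroup.mem_centralizer_iff.2 ?_⟩
    intro z hz
    rw [Set.mem_singleton_iff] at hz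
    rw [hz]
    have h3 : (x : Γ) * c * (x : Γ)⁻¹ = g * c * g⁻¹ := hx2.trans h.symm
    calc c * (g⁻¹ * (x : Γ)) = g⁻¹ * (g * c * g⁻¹) * x := by group
      _ = g⁻¹ * ((x : Γ) * c * (x : Γ)⁻¹) * x := by rw [h3]
      _ = g⁻¹ * x * c := by group
  have hfrom : ∀ y : (G ⊓ Subgroup.centralizer {c} : Subgroup Γ), g * (y : Γ) ∈ X := by
    intro y
    obtain ⟨hy1, hy2⟩ := Subgroup.mem_inf.1 y.2
    have hy3 : c * (y : Γ) = y * c := Subgroup.mem_centralizer_iff.1 hy2 c rfl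
    rw [hXmem]
    refine ⟨G.mul_mem hg hy1, ?_⟩
    calc g * (y : Γ) * c * (g * (y : Γ))⁻¹ = g * ((y : Γ) * c) * (y : Γ)⁻¹ * g⁻¹ := by group
      _ = g * (c * (y : Γ)) * (y : Γ)⁻¹ * g⁻¹ := by rw [hy3]
      _ = g * c * g⁻¹ := by group
      _ = c' := h
  have hcard : Nat.card X = Nat.card (G ⊓ Subgroup.centralizer {c} : Subgroup Γ) := by
    apply Nat.card_congr
    exact
      { toFun := fun x => ⟨g⁻¹ * (x : Γ), hto x⟩
        invFun := fun y => ⟨g * (y : Γ), hfrom y⟩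
        left_inv := fun x => Subtype.ext (by simp)
        right_inv := fun y => Subtype.ext (by simp) }
  have hX : ¬ p ∣ Nat.card X := by
    rw [hcard]
    intro hd
    exact hpG (dvd_trans hd (Subgroup.card_dvd_of_le inf_le_left))
  obtain ⟨n, hnX, hnT⟩ := conj_fixed hp G T hTp X (fun x hx => ((hXmem x).1 hx).1) (by
    intro t ht x hx
    obtain ⟨hx1, hx2⟩ := (hXmem x).1 hx
    rw [hXmem]
    refine ⟨hnormT t ht x hx1, ?_⟩
    have e1 := hcT t ht
    have e2 := hcT' t ht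
    have e3 : t⁻¹ * c * t = c := by
      rw [mul_assoc, ← e1]; group
    calc t * x * t⁻¹ * c * (t * x * t⁻¹)⁻¹ = t * (x * (t⁻¹ * c * t) * x⁻¹) * t⁻¹ := by group
      _ = t * (x * c * x⁻¹) * t⁻¹ := by rw [e3]
      _ = t * c' * t⁻¹ := by rw [hx2]
      _ = c' := by rw [e2]; group) hX
  obtain ⟨hn1, hn2⟩ := (hXmem n).1 hnX
  exact ⟨n, hn1, hnT, hn2⟩

theorem cl_exists {Γ : Type u} [Group Γ] [Finite Γ] {p : ℕ} (hp : p.Prime) (G T : Subgroup Γ)
    (hnormT : ∀ t ∈ T, ∀ g ∈ G, t * g * t⁻¹ ∈ G)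
    (hTp : ∀ t ∈ T, ∃ k : ℕ, ∀ g ∈ G, t ^ (p ^ k) * g = g * t ^ (p ^ k))
    (hpG : ¬ p ∣ Nat.card G) (x₀ : Γ) (hx₀ : x₀ ∈ G)
    (hinv : ∀ t ∈ T, ∃ h ∈ G, h * (t * x₀ * t⁻¹) * h⁻¹ = x₀) :
    ∃ y ∈ G, (∀ t ∈ T, t * y = y * t) ∧ ∃ h ∈ G, h * x₀ * h⁻¹ = y := by
  obtain ⟨X, hXdef⟩ : ∃ X : Set Γ, X = {x | ∃ h ∈ G, h * x₀ * h⁻¹ = x} := ⟨_, rfl⟩
  have hXmem : ∀ x : Γ, x ∈ X ↔ ∃ h ∈ G, h * x₀ * h⁻¹ = x := by
    intro x; rw [hXdef]; rfl
  letI : MulAction G Γ :=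
    { smul := fun g x => (g : Γ) * x * (g : Γ)⁻¹
      one_smul := fun x => by
        show ((1 : G) : Γ) * x * ((1 : G) : Γ)⁻¹ = x
        simp
      mul_smul := fun a b x => by
        show ((a * b : G) : Γ) * x * ((a * b : G) : Γ)⁻¹ =
          (a : Γ) * ((b : Γ) * x * (b : Γ)⁻¹) * (a : Γ)⁻¹
        rw [Subgroup.coe_mul]; group }
  have horb : MulAction.orbit G x₀ = X := by
    ext x
    rw [MulAction.mem_orbit_iff, hXmem]
    constructor
    · rintro ⟨g, hg⟩; exact ⟨g, g.2, hg⟩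
    · rintro ⟨h, hh, e⟩; exact ⟨⟨h, hh⟩, e⟩
  have hX : ¬ p ∣ Nat.card X := by
    rw [Nat.card_coe_set_eq, ← horb, ← MulAction.index_stabilizer]
    intro hd
    exact hpG (dvd_trans hd (Subgroup.index_dvd_card _))
  obtain ⟨y, hyX, hyT⟩ := conj_fixed hp G T hTp X (by
    intro x hx
    obtain ⟨h, hh, e⟩ := (hXmem x).1 hx
    rw [← e]
    exact G.mul_mem (G.mul_mem hh hx₀) (G.inv_mem hh)) (by
    intro t ht x hx
    obtain ⟨h, hh, e⟩ := (hXmem x).1 hx
    obtain ⟨h', hh', e'⟩ := hinv t ht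
    rw [hXmem]
    refine ⟨t * h * t⁻¹ * h'⁻¹, G.mul_mem (hnormT t ht h hh) (G.inv_mem hh'), ?_⟩
    calc t * h * t⁻¹ * h'⁻¹ * x₀ * (t * h * t⁻¹ * h'⁻¹)⁻¹
        = t * h * t⁻¹ * h'⁻¹ * (h' * (t * x₀ * t⁻¹) * h'⁻¹) * (t * h * t⁻¹ * h'⁻¹)⁻¹ := by
          rw [e']
      _ = t * (h * x₀ * h⁻¹) * t⁻¹ := by group
      _ = t * x * t⁻¹ := by rw [e]) hX
  obtain ⟨h, hh, e⟩ := (hXmem y).1 hyX
  refine ⟨y, ?_, hyT, h, hh, e⟩
  rw [← e]
  exact G.mul_mem (G.mul_mem hh hx₀) (G.inv_mem hh)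

/-! ### the equivariant correspondences -/

theorem irr_count_step {Γ : Type u} [Group Γ] [Finite Γ] {p : ℕ} (G S T : Subgroup Γ)
    (hnorm : ∀ s ∈ S, ∀ g ∈ G, s * g * s⁻¹ ∈ G) (hTS : T ≤ S)
    (hTnorm : ∀ s ∈ S, ∀ t ∈ T, s * t * s⁻¹ ∈ T)
    (C : Subgroup Γ) [Fintype C] (hC : C = G ⊓ Subgroup.centralizer (T : Set Γ)) (hCG : C ≤ G)
    (hcorr : GCorr p (A := G) (B := C) (fun χ => ChInv G T χ) (fun χ c => χ ⟨c, hCG c.2⟩)) :
    Nat.card {χ : Cfsg.IrrCharacter G // ChInv G S χ.1} =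
      Nat.card {β : Cfsg.IrrCharacter C // ChInv C S β.1} := by
  classical
  obtain ⟨h1, -, h3, h4⟩ := hcorr
  have hsC : ∀ s ∈ S, ∀ d ∈ C, s * d * s⁻¹ ∈ C := cent_norm G S T hnorm hTnorm C hC
  have hconj : ∀ s ∈ S, ∃ (σG : G ≃* G) (σC : C ≃* C),
      (∀ g : G, ((σG g : G) : Γ) = s * g * s⁻¹) ∧ (∀ c : C, ((σC c : C) : Γ) = s * c * s⁻¹) := by
    intro s hs
    have hsG1 : ∀ g ∈ G, s * g * s⁻¹ ∈ G := hnorm s hs
    have hsG2 : ∀ g ∈ G, s⁻¹ * g * s ∈ G := fun g hg => by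
      have h0 := hnorm s⁻¹ (S.inv_mem hs) g hg
      simpa using h0
    have hsC1 : ∀ d ∈ C, s * d * s⁻¹ ∈ C := hsC s hs
    have hsC2 : ∀ d ∈ C, s⁻¹ * d * s ∈ C := fun d hd => by
      have h0 := hsC s⁻¹ (S.inv_mem hs) d hd
      simpa using h0
    exact ⟨gpConj G s hsG1 hsG2, gpConj C s hsC1 hsC2, fun g => rfl, fun c => rfl⟩
  have hres_conj : ∀ (s : Γ) (σG : G ≃* G) (σC : C ≃* C),
      (∀ g : G, ((σG g : G) : Γ) = s * g * s⁻¹) → (∀ c : C, ((σC c : C) : Γ) = s * c * s⁻¹) →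
      ∀ χ : G → ℂ, (fun d : C => (χ ∘ σG) ⟨d, hCG d.2⟩) =
        (fun d : C => χ ⟨d, hCG d.2⟩) ∘ σC := by
    intro s σG σC hσG hσC χ
    funext d
    show χ (σG ⟨d, hCG d.2⟩) = χ ⟨(σC d : C), hCG (σC d).2⟩
    congr 1
    apply Subtype.ext
    rw [hσG]
    exact (hσC d).symm
  have key1 : ∀ χ : G → ℂ, Cfsg.IsIrrCharacter G χ → ChInv G S χ → ∀ β : C → ℂ,
      Cfsg.IsIrrCharacter C β →
      (∃ m : ℕ, Cfsg.classInner (fun c : C => χ ⟨c, hCG c.2⟩) β = m ∧ ¬ p ∣ m) →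
      ChInv C S β := by
    intro χ hχ hI β hβ ⟨m, hm, hpm⟩
    have hIT : ChInv G T χ := fun t ht => hI t (hTS ht)
    obtain ⟨βu, hβu, -, huniq⟩ := h1 χ hχ hIT
    have e1 : β = βu := huniq β hβ ⟨m, hm, hpm⟩
    intro s hs c c' hcc'
    obtain ⟨σG, σC, hσG, hσC⟩ := hconj s hs
    have hβ' : Cfsg.IsIrrCharacter C (β ∘ σC) :=
      isIrrCharacter_comp_surj σC.toMonoidHom σC.surjective hβ
    have hinvC : (fun d : C => χ ⟨d, hCG d.2⟩) ∘ σC = (fun d : C => χ ⟨d, hCG d.2⟩) := by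
      funext d
      show χ ⟨(σC d : C), hCG (σC d).2⟩ = χ ⟨d, hCG d.2⟩
      exact hI s hs ⟨d, hCG d.2⟩ ⟨(σC d : C), hCG (σC d).2⟩ (hσC d)
    have hm' : Cfsg.classInner (fun d : C => χ ⟨d, hCG d.2⟩) (β ∘ σC) = m := by
      rw [← hm]
      conv_lhs => rw [← hinvC]
      exact classInner_comp_equiv σC _ _
    have e2 : β ∘ σC = βu := huniq _ hβ' ⟨m, hm', hpm⟩
    have h5 : c' = σC c := Subtype.ext (by rw [hcc', hσC])
    rw [h5]
    exact congrFun (e2.trans e1.symm) c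
  have key2 : ∀ β : C → ℂ, Cfsg.IsIrrCharacter C β → ChInv C S β → ∀ χ : G → ℂ,
      Cfsg.IsIrrCharacter G χ → ChInv G T χ →
      (∃ m : ℕ, Cfsg.classInner (fun c : C => χ ⟨c, hCG c.2⟩) β = m ∧ ¬ p ∣ m) →
      ChInv G S χ := by
    intro β hβ hIβ χ hχ hIT ⟨m, hm, hpm⟩ s hs g g' hgg'
    obtain ⟨σG, σC, hσG, hσC⟩ := hconj s hs
    have hχ' : Cfsg.IsIrrCharacter G (χ ∘ σG) :=
      isIrrCharacter_comp_surj σG.toMonoidHom σG.surjective hχ
    have hIT' : ChInv G T (χ ∘ σG) := by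
      intro t ht g g' hgg'
      show χ (σG g') = χ (σG g)
      apply hIT (s * t * s⁻¹) (hTnorm s hs t ht) (σG g) (σG g')
      rw [hσG, hσG, hgg']
      group
    have hβinv : β ∘ σC = β := by
      funext d
      exact hIβ s hs d (σC d) (hσC d)
    have hm' : Cfsg.classInner (fun d : C => (χ ∘ σG) ⟨d, hCG d.2⟩) β = m := by
      rw [hres_conj s σG σC hσG hσC, ← hm]
      conv_lhs => rw [← hβinv]
      exact classInner_comp_equiv σC _ _
    have hχeq : χ ∘ σG = χ := h3 _ _ hχ' hχ hIT' hIT β hβ m m hm' hpm hm hpm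
    have h5 : g' = σG g := Subtype.ext (by rw [hgg', hσG])
    rw [h5]
    exact congrFun hχeq g
  have hex : ∀ χ : {χ : Cfsg.IrrCharacter G // ChInv G S χ.1},
      ∃ β : {β : Cfsg.IrrCharacter C // ChInv C S β.1},
        ∃ m : ℕ, Cfsg.classInner (fun c : C => χ.1.1 ⟨c, hCG c.2⟩) β.1.1 = m ∧ ¬ p ∣ m := by
    rintro ⟨⟨χ, hχ⟩, hI⟩
    obtain ⟨β, hβ, hm, -⟩ := h1 χ hχ (fun t ht => hI t (hTS ht))
    exact ⟨⟨⟨β, hβ⟩, key1 χ hχ hI β hβ hm⟩, hm⟩
  choose f hf using hex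
  apply Nat.card_eq_of_bijective f
  constructor
  · intro χ₁ χ₂ h12
    obtain ⟨m₁, hm₁, hp₁⟩ := hf χ₁
    obtain ⟨m₂, hm₂, hp₂⟩ := hf χ₂
    rw [h12] at hm₁
    apply Subtype.ext
    apply Subtype.ext
    exact h3 χ₁.1.1 χ₂.1.1 χ₁.1.2 χ₂.1.2 (fun t ht => χ₁.2 t (hTS ht))
      (fun t ht => χ₂.2 t (hTS ht)) (f χ₂).1.1 (f χ₂).1.2 m₁ m₂ hm₁ hp₁ hm₂ hp₂
  · rintro ⟨⟨β, hβ⟩, hIβ⟩
    obtain ⟨χ, hχ, hIT, hm⟩ := h4 β hβ
    have hIS := key2 β hβ hIβ χ hχ hIT hm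
    refine ⟨⟨⟨χ, hχ⟩, hIS⟩, ?_⟩
    obtain ⟨βu, hβu, -, huniq⟩ := h1 χ hχ hIT
    have e1 : β = βu := huniq β hβ hm
    have e2 : (f ⟨⟨χ, hχ⟩, hIS⟩).1.1 = βu :=
      huniq _ (f ⟨⟨χ, hχ⟩, hIS⟩).1.2 (hf ⟨⟨χ, hχ⟩, hIS⟩)
    apply Subtype.ext
    apply Subtype.ext
    exact e2.trans e1.symm

theorem cl_count_step {Γ : Type u} [Group Γ] [Finite Γ] {p : ℕ} (hp : p.Prime)
    (G S T : Subgroup Γ)
    (hnorm : ∀ s ∈ S, ∀ g ∈ G, s * g * s⁻¹ ∈ G) (hTS : T ≤ S)
    (hTnorm : ∀ s ∈ S, ∀ t ∈ T, s * t * s⁻¹ ∈ T)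
    (hTp : ∀ t ∈ T, ∃ k : ℕ, ∀ g ∈ G, t ^ (p ^ k) * g = g * t ^ (p ^ k))
    (hpG : ¬ p ∣ Nat.card G)
    (C : Subgroup Γ) (hC : C = G ⊓ Subgroup.centralizer (T : Set Γ)) (hCG : C ≤ G) :
    Nat.card {K : ConjClasses C // ClInv C S K} = Nat.card {K : ConjClasses G // ClInv G S K} := by
  classical
  have hnormT : ∀ t ∈ T, ∀ g ∈ G, t * g * t⁻¹ ∈ G := fun t ht => hnorm t (hTS ht)
  have hCmem : ∀ x : Γ, x ∈ C ↔ x ∈ G ∧ ∀ t ∈ T, t * x = x * t := by
    intro x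
    rw [hC, Subgroup.mem_inf, Subgroup.mem_centralizer_iff]
    rfl
  have hsC : ∀ s ∈ S, ∀ d ∈ C, s * d * s⁻¹ ∈ C := cent_norm G S T hnorm hTnorm C hC
  have hfus : ∀ c c' : Γ, c ∈ C → c' ∈ C → (∃ g ∈ G, g * c * g⁻¹ = c') →
      ∃ n ∈ C, n * c * n⁻¹ = c' := by
    intro c c' hc hc' ⟨g, hg, e⟩
    obtain ⟨n, hn1, hn2, hn3⟩ := cl_fusion hp G T hnormT hTp hpG c c'
      ((hCmem c).1 hc).2 ((hCmem c').1 hc').2 g hg e
    exact ⟨n, (hCmem n).2 ⟨hn1, hn2⟩, hn3⟩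
  have hinvCG : ∀ c : C, ClInv C S (ConjClasses.mk c) ↔
      ClInv G S (ConjClasses.mk (⟨c, hCG c.2⟩ : G)) := by
    intro c
    rw [cl_inv_iff C S hsC c, cl_inv_iff G S hnorm ⟨c, hCG c.2⟩]
    constructor
    · intro H s hs
      obtain ⟨h, hh, e⟩ := H s hs
      exact ⟨h, hCG hh, e⟩
    · intro H s hs
      obtain ⟨h, hh, e⟩ := H s hs
      exact hfus _ _ (hsC s hs c c.2) c.2 ⟨h, hh, e⟩
  have hex : ∀ K : {K : ConjClasses C // ClInv C S K}, ∃ K' : {K : ConjClasses G // ClInv G S K},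
      ∃ c : C, ConjClasses.mk c = K.1 ∧ ConjClasses.mk (⟨c, hCG c.2⟩ : G) = K'.1 := by
    rintro ⟨K, hK⟩
    obtain ⟨c, rfl⟩ := ConjClasses.mk_surjective K
    exact ⟨⟨ConjClasses.mk ⟨c, hCG c.2⟩, (hinvCG c).1 hK⟩, c, rfl, rfl⟩
  choose f hf using hex
  apply Nat.card_eq_of_bijective f
  constructor
  · intro K₁ K₂ h12
    obtain ⟨c₁, e1, e1'⟩ := hf K₁
    obtain ⟨c₂, e2, e2'⟩ := hf K₂
    apply Subtype.ext
    rw [← e1, ← e2]
    have h3 : ConjClasses.mk (⟨c₁, hCG c₁.2⟩ : G) = ConjClasses.mk (⟨c₂, hCG c₂.2⟩ : G) := by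
      rw [e1', e2', h12]
    obtain ⟨g, hg, e⟩ := (mk_eq_iff G _ _).1 h3
    obtain ⟨n, hn, e'⟩ := hfus _ _ c₁.2 c₂.2 ⟨g, hg, e⟩
    exact (mk_eq_iff C _ _).2 ⟨n, hn, e'⟩
  · rintro ⟨K, hK⟩
    obtain ⟨x, rfl⟩ := ConjClasses.mk_surjective K
    have hK' := (cl_inv_iff G S hnorm x).1 hK
    obtain ⟨y, hyG, hyT, h, hh, e⟩ := cl_exists hp G T hnormT hTp hpG x x.2
      (fun t ht => hK' t (hTS ht))
    have hyC : y ∈ C := (hCmem y).2 ⟨hyG, hyT⟩
    have hmk : ConjClasses.mk (⟨y, hyG⟩ : G) = ConjClasses.mk x :=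
      ((mk_eq_iff G _ _).2 ⟨h, hh, e⟩).symm
    have hinvy : ClInv C S (ConjClasses.mk (⟨y, hyC⟩ : C)) := by
      rw [hinvCG ⟨y, hyC⟩]
      show ClInv G S (ConjClasses.mk (⟨y, hyG⟩ : G))
      rw [hmk]; exact hK
    refine ⟨⟨ConjClasses.mk ⟨y, hyC⟩, hinvy⟩, ?_⟩
    obtain ⟨c, e1, e1'⟩ := hf ⟨ConjClasses.mk ⟨y, hyC⟩, hinvy⟩
    apply Subtype.ext
    show (f ⟨ConjClasses.mk ⟨y, hyC⟩, hinvy⟩).1 = ConjClasses.mk x
    rw [← e1', ← hmk]
    obtain ⟨n, hn, e'⟩ := (mk_eq_iff C _ _).1 e1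
    exact (mk_eq_iff G _ _).2 ⟨n, hCG hn, e'⟩

/-! ### the count for solvable groups of operators -/

theorem solv_count {Γ : Type u} [Group Γ] [Finite Γ] (S : Subgroup Γ) [Group.IsSolvable S] :
    ∀ (n : ℕ) (G : Subgroup Γ), Nat.card G = n → (∀ s ∈ S, ∀ g ∈ G, s * g * s⁻¹ ∈ G) →
      (Nat.card G).Coprime (Nat.card S) →
      Nat.card {χ : Cfsg.IrrCharacter G // ChInv G S χ.1} =
        Nat.card {K : ConjClasses G // ClInv G S K} := by
  classical
  intro n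
  induction n using Nat.strong_induction_on with
  | _ n ih =>
    intro G hn hnorm hcop
    by_cases hcent : ∀ s ∈ S, ∀ g ∈ G, s * g = g * s
    · have e1 : ∀ χ : Cfsg.IrrCharacter G, ChInv G S χ.1 := by
        intro χ s hs g g' hgg'
        have h1 : g' = g := Subtype.ext (by rw [hgg', hcent s hs g g.2]; group)
        rw [h1]
      have e2 : ∀ K : ConjClasses G, ClInv G S K := by
        intro K s hs g g' hgg' hg
        have h1 : g' = g := Subtype.ext (by rw [hgg', hcent s hs g g.2]; group)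
        rw [h1]; exact hg
      rw [Nat.card_congr (Equiv.subtypeUnivEquiv e1), Nat.card_congr (Equiv.subtypeUnivEquiv e2)]
      exact card_irr G
    · obtain ⟨𝒯, h𝒯⟩ : ∃ 𝒯 : Set (Subgroup S),
          𝒯 = {T | T.Normal ∧ ¬ ∀ t : S, t ∈ T → ∀ g ∈ G, (t : Γ) * g = g * (t : Γ)} := ⟨_, rfl⟩
      have h𝒯mem : ∀ T : Subgroup S, T ∈ 𝒯 ↔
          (T.Normal ∧ ¬ ∀ t : S, t ∈ T → ∀ g ∈ G, (t : Γ) * g = g * (t : Γ)) := by
        intro T; rw [h𝒯]; rfl
      have htop : (⊤ : Subgroup S) ∈ 𝒯 := by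
        rw [h𝒯mem]
        refine ⟨inferInstance, ?_⟩
        intro h
        apply hcent
        intro s hs g hg
        exact h ⟨s, hs⟩ (Subgroup.mem_top _) g hg
      obtain ⟨T, hT𝒯, hTmin⟩ := Set.exists_min_image 𝒯 (fun T : Subgroup S => Nat.card T)
        (Set.toFinite 𝒯) ⟨⊤, htop⟩
      obtain ⟨hTn, hTact⟩ := (h𝒯mem T).1 hT𝒯
      haveI := hTn
      have hTne : T ≠ ⊥ := by
        rintro rfl
        apply hTact
        intro t ht g hg
        rw [Subgroup.mem_bot.1 ht]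
        simp
      obtain ⟨p, hp, hpT, T₁, hT₁n, hT₁le, hT₁ne, hpow⟩ := solv_step T hTne
      have hT₁act : ∀ t : S, t ∈ T₁ → ∀ g ∈ G, (t : Γ) * g = g * (t : Γ) := by
        by_contra hcon
        have h1 : T₁ ∈ 𝒯 := (h𝒯mem T₁).2 ⟨hT₁n, hcon⟩
        have h2 : Nat.card T ≤ Nat.card T₁ := hTmin T₁ h1
        exact hT₁ne (Subgroup.eq_of_le_of_card_ge hT₁le h2)
      obtain ⟨T', hT'def⟩ : ∃ T' : Subgroup Γ, T' = T.map S.subtype := ⟨_, rfl⟩
      have hT'S : T' ≤ S := by rw [hT'def]; exact Subgroup.map_subtype_le T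
      have hT'mem : ∀ x : S, (x : Γ) ∈ T' ↔ x ∈ T := by
        intro x
        rw [hT'def, Subgroup.mem_map]
        constructor
        · rintro ⟨y, hy, hyx⟩
          have h1 : y = x := Subtype.ext hyx
          rw [← h1]; exact hy
        · intro hx; exact ⟨x, hx, rfl⟩
      have hT'norm : ∀ x ∈ S, ∀ t ∈ T', x * t * x⁻¹ ∈ T' := by
        intro x hx t ht
        have h1 := (hT'mem ⟨t, hT'S ht⟩).1 ht
        have h2 := hTn.conj_mem _ h1 ⟨x, hx⟩
        exact (hT'mem _).2 h2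
      have hT'p : ∀ t ∈ T', ∃ k : ℕ, ∀ g ∈ G, t ^ (p ^ k) * g = g * t ^ (p ^ k) := by
        intro t ht
        refine ⟨1, ?_⟩
        intro g hg
        have h1 := (hT'mem ⟨t, hT'S ht⟩).1 ht
        have h2 := hpow _ h1
        have h3 : t ^ p * g = g * t ^ p := hT₁act _ h2 g hg
        rw [pow_one]
        exact h3
      have hT'act : ¬ ∀ t ∈ T', ∀ g ∈ G, t * g = g * t := by
        intro h
        apply hTact
        intro t ht g hg
        exact h t ((hT'mem t).2 ht) g hg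
      have hcardT' : Nat.card T' = Nat.card T := by
        rw [hT'def]
        exact (Nat.card_congr
          (T.equivMapOfInjective S.subtype S.subtype_injective).toEquiv).symm
      have hpS : p ∣ Nat.card S := by
        have h1 : Nat.card T' ∣ Nat.card S := Subgroup.card_dvd_of_le hT'S
        rw [hcardT'] at h1
        exact dvd_trans hpT h1
      have hpG : ¬ p ∣ Nat.card G := by
        intro hd
        have h1 : p ∣ Nat.gcd (Nat.card G) (Nat.card S) := Nat.dvd_gcd hd hpS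
        have h2 : Nat.gcd (Nat.card G) (Nat.card S) = 1 := hcop
        rw [h2] at h1
        exact hp.one_lt.ne' (Nat.dvd_one.1 h1)
      obtain ⟨C, hCdef⟩ : ∃ C : Subgroup Γ, C = G ⊓ Subgroup.centralizer (T' : Set Γ) :=
        ⟨_, rfl⟩
      haveI : Fintype C := Fintype.ofFinite _
      have hCG : C ≤ G := by rw [hCdef]; exact inf_le_left
      have hCne : C ≠ G := by
        intro hCeq
        apply hT'act
        intro t ht g hg
        have h1 : g ∈ C := by rw [hCeq]; exact hg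
        rw [hCdef] at h1
        exact Subgroup.mem_centralizer_iff.1 (Subgroup.mem_inf.1 h1).2 t ht
      have hClt : Nat.card C < n := by
        rw [← hn]
        by_contra hcon
        push_neg at hcon
        exact hCne (Subgroup.eq_of_le_of_card_ge hCG hcon)
      have hsC : ∀ s ∈ S, ∀ d ∈ C, s * d * s⁻¹ ∈ C := cent_norm G S T' hnorm hT'norm C hCdef
      have hcopC : (Nat.card C).Coprime (Nat.card S) :=
        Nat.Coprime.coprime_dvd_left (Subgroup.card_dvd_of_le hCG) hcop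
      have ihC := ih (Nat.card C) hClt C rfl hsC hcopC
      have hcopT : (Nat.card G).Coprime (Nat.card T') :=
        Nat.Coprime.coprime_dvd_right (Subgroup.card_dvd_of_le hT'S) hcop
      have hcorr := gp_induct2 hp (Nat.card T') G T' rfl (fun t ht => hnorm t (hT'S ht)) hcopT
        hT'p C hCdef hCG
      rw [irr_count_step G S T' hnorm hT'S hT'norm C hCdef hCG hcorr, ihC]
      exact cl_count_step hp G S T' hnorm hT'S hT'norm hT'p hpG C hCdef hCG

end Cfsg.Agent.Lib.Helper7
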