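import Mathlib
import Cfsg.Prelude.Def_Characters
import Cfsg.Agent.Lib.Helper7.GlaubSolv
import Cfsg.Agent.Lib.Lead.CharCliffordCorr
import Cfsg.Agent.Lib.Lead.CharIto
import Cfsg.Agent.Lib.Lead.CharCenter
import Cfsg.Agent.S0887

/-! # Invariant characters above invariant characters (solvable coprime operator groups) -/

universe u

namespace Cfsg.Agent.Lib.Helper7

open Cfsg.Agent.Lib.Lead
open scoped ComplexConjugate

/-! ### a weighted orbit count -/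

theorem orbit_sum_mod {P X : Type*} [Group P] [MulAction P X] [Fintype X] {p : ℕ} (hp : p.Prime)
    (h : ∀ t : P, ∃ k : ℕ, ∀ x : X, t ^ (p ^ k) • x = x) (F : X → ℕ)
    (hF : ∀ (t : P) (x : X), F (t • x) = F x)
    (hfix : ∀ x : X, (∀ t : P, t • x = x) → p ∣ F x) : p ∣ ∑ x, F x := by
  classical
  rw [← Finset.sum_filter_add_sum_filter_not Finset.univ (fun x => ∀ t : P, t • x = x)]
  apply dvd_add
  · apply Finset.dvd_sum
    intro x hx
    exact hfix x (Finset.mem_filter.1 hx).2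
  · by_contra hcon
    letI : MulAction P {q : (_ : X) × ℕ // q.2 < F q.1 ∧ ¬ ∀ t : P, t • q.1 = q.1} :=
      { smul := fun t q => ⟨⟨t • q.1.1, q.1.2⟩, by
            refine ⟨by rw [hF]; exact q.2.1, ?_⟩
            intro hfx
            apply q.2.2
            intro s
            have h1 := hfx (t * s * t⁻¹)
            rw [← mul_smul, inv_mul_cancel_right, mul_smul] at h1
            exact MulAction.injective t h1⟩
        one_smul := fun q => Subtype.ext (by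
          show (⟨(1 : P) • q.1.1, q.1.2⟩ : (_ : X) × ℕ) = q.1
          rw [one_smul])
        mul_smul := fun a b q => Subtype.ext (by
          show (⟨(a * b) • q.1.1, q.1.2⟩ : (_ : X) × ℕ) = ⟨a • (b • q.1.1), q.1.2⟩
          rw [mul_smul]) }
    have hmem : ∀ q : (_ : X) × ℕ,
        q ∈ (Finset.univ.filter (fun x => ¬ ∀ t : P, t • x = x)).sigma
          (fun x => Finset.range (F x)) ↔ (q.2 < F q.1 ∧ ¬ ∀ t : P, t • q.1 = q.1) := by
      intro q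
      rw [Finset.mem_sigma, Finset.mem_filter, Finset.mem_range]
      constructor
      · rintro ⟨⟨-, h1⟩, h2⟩; exact ⟨h2, h1⟩
      · rintro ⟨h2, h1⟩; exact ⟨⟨Finset.mem_univ _, h1⟩, h2⟩
    have hcard : Nat.card {q : (_ : X) × ℕ // q.2 < F q.1 ∧ ¬ ∀ t : P, t • q.1 = q.1} =
        ∑ x ∈ Finset.univ.filter (fun x => ¬ ∀ t : P, t • x = x), F x := by
      letI : Fintype {q : (_ : X) × ℕ // q.2 < F q.1 ∧ ¬ ∀ t : P, t • q.1 = q.1} :=
        Fintype.subtype _ hmem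
      rw [Nat.card_eq_fintype_card, Fintype.card_of_subtype _ hmem, Finset.card_sigma]
      apply Finset.sum_congr rfl
      intro x _
      rw [Finset.card_range]
    obtain ⟨y, hy⟩ := fixed_point_acts (T := P)
      (X := {q : (_ : X) × ℕ // q.2 < F q.1 ∧ ¬ ∀ t : P, t • q.1 = q.1}) hp (by
        intro t
        obtain ⟨k, hk⟩ := h t
        refine ⟨k, fun q => Subtype.ext ?_⟩
        show (⟨(t ^ (p ^ k)) • q.1.1, q.1.2⟩ : (_ : X) × ℕ) = q.1
        rw [hk]) (by rw [hcard]; exact hcon)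
    apply y.2.2
    intro t
    have h1 := congrArg (fun q : {q : (_ : X) × ℕ // q.2 < F q.1 ∧ ¬ ∀ t : P, t • q.1 = q.1} =>
      q.1.1) (hy t)
    exact h1

/-! ### characters over a given character, for subgroups of an ambient group -/

theorem exists_over {Γ : Type u} [Group Γ] [Finite Γ] (G N : Subgroup Γ) [Fintype G]
    [Fintype N] (hNG : N ≤ G) (θ : N → ℂ) (hθ : Cfsg.IsIrrCharacter N θ) :
    ∃ χ : G → ℂ, Cfsg.IsIrrCharacter G χ ∧
      Cfsg.classInner (fun n : N => χ ⟨n, hNG n.2⟩) θ ≠ 0 := by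
  classical
  haveI : Fintype Γ := Fintype.ofFinite Γ
  obtain ⟨θ', hθ'def⟩ : ∃ θ' : N.subgroupOf G → ℂ,
      θ' = fun x : N.subgroupOf G => θ ⟨(x : G), Subgroup.mem_subgroupOf.mp x.2⟩ := ⟨_, rfl⟩
  have hθ' : Cfsg.IsIrrCharacter (N.subgroupOf G) θ' := by
    rw [hθ'def]
    exact isIrrCharacter_comp_surj (Subgroup.subgroupOfEquivOfLe hNG).toMonoidHom
      (Subgroup.subgroupOfEquivOfLe hNG).surjective hθ
  have hch := isCharacter_indFun (N.subgroupOf G) θ' (isCharacter_of_isIrrCharacter hθ')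
  obtain ⟨d, hd0, hd⟩ := irr_one hθ'
  have h1 : Cfsg.indFun (N.subgroupOf G) θ' 1 ≠ 0 := by
    rw [indFun_one, hd]
    have h2 : (N.subgroupOf G).index ≠ 0 := Subgroup.index_ne_zero_of_finite
    exact mul_ne_zero (by exact_mod_cast h2) (by exact_mod_cast hd0)
  obtain ⟨χ, hχ, hne⟩ := exists_constituent hch h1
  refine ⟨χ, hχ, ?_⟩
  rw [hθ'def] at hne
  exact lies_over_of_indFun_subgroupOf N G hNG θ χ
    (isClassFunction_of_isCharacter (isCharacter_of_isIrrCharacter hχ)) hne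

theorem ram_dvd_card {Γ : Type u} [Group Γ] [Finite Γ] (G N : Subgroup Γ) [Fintype G] [Fintype N]
    (hNG : N ≤ G) (hNn : ∀ g ∈ G, ∀ n ∈ N, g * n * g⁻¹ ∈ N) (χ : G → ℂ)
    (hχ : Cfsg.IsIrrCharacter G χ) (θ : N → ℂ) (hθ : Cfsg.IsIrrCharacter N θ)
    (e : ℕ) (he : Cfsg.classInner (fun n : N => χ ⟨n, hNG n.2⟩) θ = e) (he0 : e ≠ 0) :
    e ∣ Nat.card G := by
  classical
  haveI : Fintype (N.subgroupOf G) := Fintype.ofFinite _
  haveI hN' : (N.subgroupOf G).Normal := by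
    constructor
    intro n hn g
    rw [Subgroup.mem_subgroupOf] at hn ⊢
    exact hNn g g.2 n hn
  obtain ⟨θ', hθ'def⟩ : ∃ θ' : N.subgroupOf G → ℂ,
      θ' = fun x : N.subgroupOf G => θ ⟨(x : G), Subgroup.mem_subgroupOf.mp x.2⟩ := ⟨_, rfl⟩
  have hθ' : Cfsg.IsIrrCharacter (N.subgroupOf G) θ' := by
    rw [hθ'def]
    exact isIrrCharacter_comp_surj (Subgroup.subgroupOfEquivOfLe hNG).toMonoidHom
      (Subgroup.subgroupOfEquivOfLe hNG).surjective hθ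
  have he' : Cfsg.classInner (fun x : N.subgroupOf G => χ x) θ' = e := by
    rw [← he, hθ'def]
    exact classInner_subgroupOf N G hNG (fun n : N => χ ⟨n, hNG n.2⟩) θ
  have hcon : Cfsg.classInner (fun x : N.subgroupOf G => χ x) θ' ≠ 0 := by
    rw [he']; exact_mod_cast he0
  obtain ⟨c, hc0, hc⟩ := irr_one hχ
  obtain ⟨d, hd0, hd⟩ := irr_one hθ'
  have hdeg := clifford_degree (N.subgroupOf G) (stabChar (N.subgroupOf G) θ') θ' hθ'
    (by
      intro g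
      rw [mem_stabChar]
      constructor
      · intro h n; exact congrFun h n
      · intro h; funext n; exact h n) χ hχ hcon e d he' hd
  have h87 := Cfsg.Agent.S0887.result (N.subgroupOf G) χ hχ θ' hθ' hcon c d hc hd
  have hceq : c = e * (stabChar (N.subgroupOf G) θ').index * d := by
    rw [hc] at hdeg
    exact_mod_cast hdeg
  have h2 : c / d = e * (stabChar (N.subgroupOf G) θ').index := by
    rw [hceq]
    exact Nat.mul_div_cancel _ (Nat.pos_of_ne_zero hd0)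
  have h3 : e ∣ (N.subgroupOf G).index := by
    have h4 := h87.2
    rw [h2] at h4
    exact dvd_trans (dvd_mul_right _ _) h4
  exact dvd_trans h3 (Subgroup.index_dvd_card _)

theorem inner_expansion_hom {A B : Type u} [Group A] [Group B] [Fintype A] [Fintype B]
    [Fintype (Cfsg.IrrCharacter A)] (ι : B →* A) (Ξ : A → ℂ) (hΞ : Cfsg.IsCharacter A Ξ)
    (η : B → ℂ) (hη : Cfsg.IsCharacter B η) :
    ∃ (m ff : Cfsg.IrrCharacter A → ℕ),
      (∀ φ : Cfsg.IrrCharacter A, Cfsg.classInner Ξ (φ : A → ℂ) = m φ) ∧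
      (∀ φ : Cfsg.IrrCharacter A, Cfsg.classInner ((φ : A → ℂ) ∘ ι) η = ff φ) ∧
      Cfsg.classInner (Ξ ∘ ι) η = ((∑ φ, m φ * ff φ : ℕ) : ℂ) := by
  classical
  obtain ⟨m, hm, hm'⟩ := isCharacter_expansion hΞ
  choose ff hff using fun φ : Cfsg.IrrCharacter A => classInner_char_char_nat
    (isCharacter_comp ι (isCharacter_of_isIrrCharacter φ.2)) hη
  refine ⟨m, ff, hm', fun φ => hff φ, ?_⟩
  have h1 : Ξ ∘ ι = ∑ φ : Cfsg.IrrCharacter A, (m φ : ℂ) • ((φ : A → ℂ) ∘ ι) := by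
    funext n
    have h2 := congrFun hm (ι n)
    rw [Finset.sum_apply] at h2 ⊢
    exact h2
  rw [h1, classInner_sum_left]
  push_cast
  apply Finset.sum_congr rfl
  intro φ _
  rw [classInner_smul_left, ← hff φ]

/-! ### equivariance of the correspondence -/

theorem gcorr_key1 {Γ : Type u} [Group Γ] [Finite Γ] {p : ℕ} (G S T : Subgroup Γ)
    (hnorm : ∀ s ∈ S, ∀ g ∈ G, s * g * s⁻¹ ∈ G) (hTS : T ≤ S)
    (hTnorm : ∀ s ∈ S, ∀ t ∈ T, s * t * s⁻¹ ∈ T)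
    (C : Subgroup Γ) [Fintype C] (hC : C = G ⊓ Subgroup.centralizer (T : Set Γ)) (hCG : C ≤ G)
    (hcorr : GCorr p (A := G) (B := C) (fun χ => ChInv G T χ) (fun χ c => χ ⟨c, hCG c.2⟩)) :
    ∀ χ : G → ℂ, Cfsg.IsIrrCharacter G χ → ChInv G S χ → ∀ β : C → ℂ,
      Cfsg.IsIrrCharacter C β →
      (∃ m : ℕ, Cfsg.classInner (fun c : C => χ ⟨c, hCG c.2⟩) β = m ∧ ¬ p ∣ m) →
      ChInv C S β := by
  classical
  obtain ⟨h1, -, h3, h4⟩ := hcorr
  have hsC : ∀ s ∈ S, ∀ d ∈ C, s * d * s⁻¹ ∈ C := cent_norm G S T hnorm hTnorm C hC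
  have hconj : ∀ s ∈ S, ∃ (σG : G ≃* G) (σC : C ≃* C),
      (∀ g : G, ((σG g : G) : Γ) = s * g * s⁻¹) ∧ (∀ c : C, ((σC c : C) : Γ) = s * c * s⁻¹) := by
    intro s hs
    have hsG1 : ∀ g ∈ G, s * g * s⁻¹ ∈ G := hnorm s hs
    have hsG2 : ∀ g ∈ G, s⁻¹ * g * s ∈ G := fun g hg => by
      have h0 := hnorm s⁻¹ (S.inv_mem hs) g hg
      simpa using h0
    have hsC1 : ∀ d ∈ C, s * d * s⁻¹ ∈ C := hsC s hs
    have hsC2 : ∀ d ∈ C, s⁻¹ * d * s ∈ C := fun d hd => by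
      have h0 := hsC s⁻¹ (S.inv_mem hs) d hd
      simpa using h0
    exact ⟨gpConj G s hsG1 hsG2, gpConj C s hsC1 hsC2, fun g => rfl, fun c => rfl⟩
  have hres_conj : ∀ (s : Γ) (σG : G ≃* G) (σC : C ≃* C),
      (∀ g : G, ((σG g : G) : Γ) = s * g * s⁻¹) → (∀ c : C, ((σC c : C) : Γ) = s * c * s⁻¹) →
      ∀ χ : G → ℂ, (fun d : C => (χ ∘ σG) ⟨d, hCG d.2⟩) =
        (fun d : C => χ ⟨d, hCG d.2⟩) ∘ σC := by
    intro s σG σC hσG hσC χ
    funext d
    show χ (σG ⟨d, hCG d.2⟩) = χ ⟨(σC d : C), hCG (σC d).2⟩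
    congr 1
    apply Subtype.ext
    rw [hσG]
    exact (hσC d).symm
  intro χ hχ hI β hβ ⟨m, hm, hpm⟩
  have hIT : ChInv G T χ := fun t ht => hI t (hTS ht)
  obtain ⟨βu, hβu, -, huniq⟩ := h1 χ hχ hIT
  have e1 : β = βu := huniq β hβ ⟨m, hm, hpm⟩
  intro s hs c c' hcc'
  obtain ⟨σG, σC, hσG, hσC⟩ := hconj s hs
  have hβ' : Cfsg.IsIrrCharacter C (β ∘ σC) :=
    isIrrCharacter_comp_surj σC.toMonoidHom σC.surjective hβ
  have hinvC : (fun d : C => χ ⟨d, hCG d.2⟩) ∘ σC = (fun d : C => χ ⟨d, hCG d.2⟩) := by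
    funext d
    show χ ⟨(σC d : C), hCG (σC d).2⟩ = χ ⟨d, hCG d.2⟩
    exact hI s hs ⟨d, hCG d.2⟩ ⟨(σC d : C), hCG (σC d).2⟩ (hσC d)
  have hm' : Cfsg.classInner (fun d : C => χ ⟨d, hCG d.2⟩) (β ∘ σC) = m := by
    rw [← hm]
    conv_lhs => rw [← hinvC]
    exact classInner_comp_equiv σC _ _
  have e2 : β ∘ σC = βu := huniq _ hβ' ⟨m, hm', hpm⟩
  have h5 : c' = σC c := Subtype.ext (by rw [hcc', hσC])
  rw [h5]
  exact congrFun (e2.trans e1.symm) c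

theorem gcorr_key2 {Γ : Type u} [Group Γ] [Finite Γ] {p : ℕ} (G S T : Subgroup Γ)
    (hnorm : ∀ s ∈ S, ∀ g ∈ G, s * g * s⁻¹ ∈ G) (hTS : T ≤ S)
    (hTnorm : ∀ s ∈ S, ∀ t ∈ T, s * t * s⁻¹ ∈ T)
    (C : Subgroup Γ) [Fintype C] (hC : C = G ⊓ Subgroup.centralizer (T : Set Γ)) (hCG : C ≤ G)
    (hcorr : GCorr p (A := G) (B := C) (fun χ => ChInv G T χ) (fun χ c => χ ⟨c, hCG c.2⟩)) :
    ∀ β : C → ℂ, Cfsg.IsIrrCharacter C β → ChInv C S β → ∀ χ : G → ℂ,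
      Cfsg.IsIrrCharacter G χ → ChInv G T χ →
      (∃ m : ℕ, Cfsg.classInner (fun c : C => χ ⟨c, hCG c.2⟩) β = m ∧ ¬ p ∣ m) →
      ChInv G S χ := by
  classical
  obtain ⟨h1, -, h3, h4⟩ := hcorr
  have hsC : ∀ s ∈ S, ∀ d ∈ C, s * d * s⁻¹ ∈ C := cent_norm G S T hnorm hTnorm C hC
  have hconj : ∀ s ∈ S, ∃ (σG : G ≃* G) (σC : C ≃* C),
      (∀ g : G, ((σG g : G) : Γ) = s * g * s⁻¹) ∧ (∀ c : C, ((σC c : C) : Γ) = s * c * s⁻¹) := by
    intro s hs
    have hsG1 : ∀ g ∈ G, s * g * s⁻¹ ∈ G := hnorm s hs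
    have hsG2 : ∀ g ∈ G, s⁻¹ * g * s ∈ G := fun g hg => by
      have h0 := hnorm s⁻¹ (S.inv_mem hs) g hg
      simpa using h0
    have hsC1 : ∀ d ∈ C, s * d * s⁻¹ ∈ C := hsC s hs
    have hsC2 : ∀ d ∈ C, s⁻¹ * d * s ∈ C := fun d hd => by
      have h0 := hsC s⁻¹ (S.inv_mem hs) d hd
      simpa using h0
    exact ⟨gpConj G s hsG1 hsG2, gpConj C s hsC1 hsC2, fun g => rfl, fun c => rfl⟩
  have hres_conj : ∀ (s : Γ) (σG : G ≃* G) (σC : C ≃* C),
      (∀ g : G, ((σG g : G) : Γ) = s * g * s⁻¹) → (∀ c : C, ((σC c : C) : Γ) = s * c * s⁻¹) →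
      ∀ χ : G → ℂ, (fun d : C => (χ ∘ σG) ⟨d, hCG d.2⟩) =
        (fun d : C => χ ⟨d, hCG d.2⟩) ∘ σC := by
    intro s σG σC hσG hσC χ
    funext d
    show χ (σG ⟨d, hCG d.2⟩) = χ ⟨(σC d : C), hCG (σC d).2⟩
    congr 1
    apply Subtype.ext
    rw [hσG]
    exact (hσC d).symm
  intro β hβ hIβ χ hχ hIT ⟨m, hm, hpm⟩ s hs g g' hgg'
  obtain ⟨σG, σC, hσG, hσC⟩ := hconj s hs
  have hχ' : Cfsg.IsIrrCharacter G (χ ∘ σG) :=
    isIrrCharacter_comp_surj σG.toMonoidHom σG.surjective hχ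
  have hIT' : ChInv G T (χ ∘ σG) := by
    intro t ht g g' hgg'
    show χ (σG g') = χ (σG g)
    apply hIT (s * t * s⁻¹) (hTnorm s hs t ht) (σG g) (σG g')
    rw [hσG, hσG, hgg']
    group
  have hβinv : β ∘ σC = β := by
    funext d
    exact hIβ s hs d (σC d) (hσC d)
  have hm' : Cfsg.classInner (fun d : C => (χ ∘ σG) ⟨d, hCG d.2⟩) β = m := by
    rw [hres_conj s σG σC hσG hσC, ← hm]
    conv_lhs => rw [← hβinv]
    exact classInner_comp_equiv σC _ _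
  have hχeq : χ ∘ σG = χ := h3 _ _ hχ' hχ hIT' hIT β hβ m m hm' hpm hm hpm
  have h5 : g' = σG g := Subtype.ext (by rw [hgg', hσG])
  rw [h5]
  exact congrFun hχeq g

/-! ### the action on irreducible characters -/

theorem irrAct_mem {Γ : Type u} [Group Γ] (N T : Subgroup Γ)
    (hNT : ∀ t ∈ T, ∀ n ∈ N, t * n * t⁻¹ ∈ N) (t : T) (n : N) : (t : Γ)⁻¹ * n * t ∈ N := by
  have h0 := hNT (t : Γ)⁻¹ (T.inv_mem t.2) n n.2
  simpa using h0

theorem irrAct_comp {Γ : Type u} [Group Γ] (N T : Subgroup Γ)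
    (hNT : ∀ t ∈ T, ∀ n ∈ N, t * n * t⁻¹ ∈ N) (t : T) :
    ∃ σ : N ≃* N, (∀ n : N, ((σ n : N) : Γ) = (t : Γ)⁻¹ * n * t) ∧
      ∀ φ : N → ℂ, (fun n : N => φ ⟨(t : Γ)⁻¹ * n * t, irrAct_mem N T hNT t n⟩) = φ ∘ σ := by
  have h1 : ∀ g ∈ N, (t : Γ)⁻¹ * g * ((t : Γ)⁻¹)⁻¹ ∈ N :=
    fun g hg => hNT _ (T.inv_mem t.2) g hg
  have h2 : ∀ g ∈ N, ((t : Γ)⁻¹)⁻¹ * g * (t : Γ)⁻¹ ∈ N := fun g hg => by
    rw [inv_inv]; exact hNT _ t.2 g hg
  have h3 : ∀ n : N, ((gpConj N (t : Γ)⁻¹ h1 h2 n : N) : Γ) = (t : Γ)⁻¹ * n * t := by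
    intro n
    rw [gpConj_coe, inv_inv]
  refine ⟨gpConj N (t : Γ)⁻¹ h1 h2, h3, ?_⟩
  intro φ
  funext n
  show φ _ = φ _
  congr 1
  apply Subtype.ext
  exact (h3 n).symm

theorem irrAct_irr {Γ : Type u} [Group Γ] (N T : Subgroup Γ)
    (hNT : ∀ t ∈ T, ∀ n ∈ N, t * n * t⁻¹ ∈ N) (t : T) (φ : N → ℂ)
    (hφ : Cfsg.IsIrrCharacter N φ) :
    Cfsg.IsIrrCharacter N (fun n : N => φ ⟨(t : Γ)⁻¹ * n * t, irrAct_mem N T hNT t n⟩) := by
  obtain ⟨σ, -, h⟩ := irrAct_comp N T hNT t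
  rw [h φ]
  exact isIrrCharacter_comp_surj σ.toMonoidHom σ.surjective hφ

/-- the action of a normalising subgroup on the irreducible characters of a subgroup -/
noncomputable def irrAct {Γ : Type u} [Group Γ] (N T : Subgroup Γ)
    (hNT : ∀ t ∈ T, ∀ n ∈ N, t * n * t⁻¹ ∈ N) : MulAction T (Cfsg.IrrCharacter N) where
  smul t φ := ⟨fun n : N => φ.1 ⟨(t : Γ)⁻¹ * n * t, irrAct_mem N T hNT t n⟩,
    irrAct_irr N T hNT t φ.1 φ.2⟩
  one_smul φ := by
    apply Subtype.ext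
    funext n
    refine congrArg φ.1 (Subtype.ext ?_)
    show ((1 : T) : Γ)⁻¹ * n * ((1 : T) : Γ) = n
    simp
  mul_smul a b φ := by
    apply Subtype.ext
    funext n
    refine congrArg φ.1 (Subtype.ext ?_)
    show ((a * b : T) : Γ)⁻¹ * n * ((a * b : T) : Γ) = (b : Γ)⁻¹ * ((a : Γ)⁻¹ * n * a) * b
    rw [Subgroup.coe_mul]
    group

/-! ### lying over, through the correspondence -/

theorem over_step {Γ : Type u} [Group Γ] [Finite Γ] {p : ℕ} (hp : p.Prime) (G N T : Subgroup Γ)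
    [Fintype G] [Fintype N] (hNG : N ≤ G) (hNn : ∀ g ∈ G, ∀ n ∈ N, g * n * g⁻¹ ∈ N)
    (hTN : ∀ t ∈ T, ∀ n ∈ N, t * n * t⁻¹ ∈ N)
    (hTp : ∀ t ∈ T, ∃ k : ℕ, ∀ g ∈ G, t ^ (p ^ k) * g = g * t ^ (p ^ k))
    (hpG : ¬ p ∣ Nat.card G)
    (C D : Subgroup Γ) [Fintype C] [Fintype D]
    (hC : C = G ⊓ Subgroup.centralizer (T : Set Γ))
    (hD : D = N ⊓ Subgroup.centralizer (T : Set Γ))
    (hCG : C ≤ G) (hDN : D ≤ N) (hDC : D ≤ C)
    (hcorrG : GCorr p (A := G) (B := C) (fun χ => ChInv G T χ) (fun χ c => χ ⟨c, hCG c.2⟩))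
    (hcorrN : GCorr p (A := N) (B := D) (fun χ => ChInv N T χ) (fun χ c => χ ⟨c, hDN c.2⟩))
    (χ : G → ℂ) (hχ : Cfsg.IsIrrCharacter G χ) (hχT : ChInv G T χ)
    (ψ : C → ℂ) (hψ : Cfsg.IsIrrCharacter C ψ)
    (hχψ : ∃ m : ℕ, Cfsg.classInner (fun c : C => χ ⟨c, hCG c.2⟩) ψ = m ∧ ¬ p ∣ m)
    (θ : N → ℂ) (hθ : Cfsg.IsIrrCharacter N θ) (hθT : ChInv N T θ)
    (θs : D → ℂ) (hθs : Cfsg.IsIrrCharacter D θs)
    (hθθs : ∃ m : ℕ, Cfsg.classInner (fun c : D => θ ⟨c, hDN c.2⟩) θs = m ∧ ¬ p ∣ m)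
    (hψθs : Cfsg.classInner (fun d : D => ψ ⟨d, hDC d.2⟩) θs ≠ 0) :
    Cfsg.classInner (fun n : N => χ ⟨n, hNG n.2⟩) θ ≠ 0 := by
  classical
  haveI : Fintype (Cfsg.IrrCharacter C) := Fintype.ofFinite _
  haveI : Fintype (Cfsg.IrrCharacter N) := Fintype.ofFinite _
  obtain ⟨hG1, -, -, -⟩ := hcorrG
  obtain ⟨-, -, hN3, -⟩ := hcorrN
  have hχch := isCharacter_of_isIrrCharacter hχ
  have hθsch := isCharacter_of_isIrrCharacter hθs
  have hDn : ∀ c ∈ C, ∀ d ∈ D, c * d * c⁻¹ ∈ D := by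
    intro c hc d hd
    rw [hC] at hc
    rw [hD] at hd ⊢
    refine Subgroup.mem_inf.2 ⟨hNn c hc.1 d hd.1, ?_⟩
    exact Subgroup.mul_mem _ (Subgroup.mul_mem _ hc.2 hd.2) (Subgroup.inv_mem _ hc.2)
  obtain ⟨e, he⟩ := classInner_char_char_nat
    (isCharacter_comp (Subgroup.inclusion hDC) (isCharacter_of_isIrrCharacter hψ)) hθsch
  have he' : Cfsg.classInner (fun d : D => ψ ⟨d, hDC d.2⟩) θs = e := he
  have he0 : e ≠ 0 := by
    intro h0; apply hψθs; rw [he', h0]; simp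
  have hpe : ¬ p ∣ e := by
    intro hd
    have h1 := ram_dvd_card C D hDC hDn ψ hψ θs hθs e he' he0
    exact hpG (dvd_trans hd (dvd_trans h1 (Subgroup.card_dvd_of_le hCG)))
  obtain ⟨m, ff, hm, hff, htot⟩ := inner_expansion_hom (Subgroup.inclusion hDC)
    (fun c : C => χ ⟨c, hCG c.2⟩) (isCharacter_comp (Subgroup.inclusion hCG) hχch) θs hθsch
  obtain ⟨a, b, ha, hb, htot'⟩ := inner_expansion_hom (Subgroup.inclusion hDN)
    (fun n : N => χ ⟨n, hNG n.2⟩) (isCharacter_comp (Subgroup.inclusion hNG) hχch) θs hθsch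
  have hsame : ∑ φ, a φ * b φ = ∑ β, m β * ff β := by
    have h1 : ((∑ φ, a φ * b φ : ℕ) : ℂ) = ((∑ β, m β * ff β : ℕ) : ℂ) := by
      rw [← htot, ← htot']
      rfl
    exact_mod_cast h1
  have hnot : ¬ p ∣ ∑ β, m β * ff β := by
    obtain ⟨m₀, hm₀, hpm₀⟩ := hχψ
    obtain ⟨βu, hβu, -, huniq⟩ := hG1 χ hχ hχT
    have hψu : ψ = βu := huniq ψ hψ ⟨m₀, hm₀, hpm₀⟩
    have hsplit := (Finset.add_sum_erase Finset.univ (fun β => m β * ff β)
      (Finset.mem_univ (⟨ψ, hψ⟩ : Cfsg.IrrCharacter C))).symm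
    have hrest : p ∣ ∑ β ∈ Finset.univ.erase (⟨ψ, hψ⟩ : Cfsg.IrrCharacter C), m β * ff β := by
      apply Finset.dvd_sum
      intro β hβ
      have hne : β ≠ ⟨ψ, hψ⟩ := (Finset.mem_erase.1 hβ).1
      by_contra hnd
      apply hne
      apply Subtype.ext
      have h1 : ¬ p ∣ m β := fun h => hnd (dvd_mul_of_dvd_left h _)
      show β.1 = ψ
      rw [hψu]
      exact huniq β.1 β.2 ⟨m β, hm β, h1⟩
    have hmψ : m ⟨ψ, hψ⟩ = m₀ := by
      have h1 : ((m ⟨ψ, hψ⟩ : ℕ) : ℂ) = (m₀ : ℂ) := by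
        rw [← hm₀]; exact (hm ⟨ψ, hψ⟩).symm
      exact_mod_cast h1
    have hffψ : ff ⟨ψ, hψ⟩ = e := by
      have h1 : ((ff ⟨ψ, hψ⟩ : ℕ) : ℂ) = (e : ℂ) := by
        rw [← he']; exact (hff ⟨ψ, hψ⟩).symm
      exact_mod_cast h1
    intro hd
    rw [hsplit, hmψ, hffψ] at hd
    have h5 : p ∣ m₀ * e := by
      have h6 := Nat.dvd_sub hd hrest
      rwa [Nat.add_sub_cancel] at h6
    rcases (Nat.Prime.dvd_mul hp).1 h5 with h | h
    · exact hpm₀ h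
    · exact hpe h
  intro hzero
  apply hnot
  rw [← hsame]
  letI := irrAct N T hTN
  have hsm : ∀ (t : T) (φ : Cfsg.IrrCharacter N) (n : N),
      (t • φ).1 n = φ.1 ⟨(t : Γ)⁻¹ * n * t, irrAct_mem N T hTN t n⟩ := fun _ _ _ => rfl
  have hact : ∀ t : T, ∃ k : ℕ, ∀ φ : Cfsg.IrrCharacter N, t ^ (p ^ k) • φ = φ := by
    intro t
    obtain ⟨k, hk⟩ := hTp t t.2
    refine ⟨k, fun φ => ?_⟩
    apply Subtype.ext
    funext n
    rw [hsm]
    refine congrArg φ.1 (Subtype.ext ?_)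
    show ((t ^ (p ^ k) : T) : Γ)⁻¹ * n * ((t ^ (p ^ k) : T) : Γ) = n
    rw [Subgroup.coe_pow, mul_assoc, ← hk n (hNG n.2), ← mul_assoc, inv_mul_cancel, one_mul]
  have hFinv : ∀ (t : T) (φ : Cfsg.IrrCharacter N), a (t • φ) * b (t • φ) = a φ * b φ := by
    intro t φ
    have h1 : a (t • φ) = a φ := by
      have h2 : ((a (t • φ) : ℕ) : ℂ) = (a φ : ℂ) := by
        rw [← ha, ← ha]
        obtain ⟨σ, hσ, hcomp⟩ := irrAct_comp N T hTN t
        have h3 : ((t • φ : Cfsg.IrrCharacter N) : N → ℂ) = φ.1 ∘ σ := hcomp φ.1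
        have h4 : (fun n : N => χ ⟨n, hNG n.2⟩) ∘ σ = (fun n : N => χ ⟨n, hNG n.2⟩) := by
          funext n
          show χ ⟨(σ n : N), hNG (σ n).2⟩ = χ ⟨n, hNG n.2⟩
          apply hχT (t : Γ)⁻¹ (T.inv_mem t.2) ⟨n, hNG n.2⟩ ⟨(σ n : N), hNG (σ n).2⟩
          show ((σ n : N) : Γ) = (t : Γ)⁻¹ * n * ((t : Γ)⁻¹)⁻¹
          rw [hσ, inv_inv]
        rw [h3]
        conv_lhs => rw [← h4]
        exact classInner_comp_equiv σ _ _
      exact_mod_cast h2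
    have h3 : b (t • φ) = b φ := by
      have h2 : ((b (t • φ) : ℕ) : ℂ) = (b φ : ℂ) := by
        rw [← hb, ← hb]
        congr 1
        funext d
        show (t • φ).1 ⟨d, hDN d.2⟩ = φ.1 ⟨d, hDN d.2⟩
        rw [hsm]
        refine congrArg φ.1 (Subtype.ext ?_)
        show (t : Γ)⁻¹ * d * t = d
        have hd : (d : Γ) ∈ Subgroup.centralizer (T : Set Γ) := by
          have h5 : ∀ x ∈ D, x ∈ Subgroup.centralizer (T : Set Γ) := by
            intro x hx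
            rw [hD] at hx
            exact hx.2
          exact h5 d d.2
        have h6 := Subgroup.mem_centralizer_iff.1 hd t t.2
        rw [mul_assoc, ← h6, ← mul_assoc, inv_mul_cancel, one_mul]
      exact_mod_cast h2
    rw [h1, h3]
  apply orbit_sum_mod hp hact (fun φ => a φ * b φ) hFinv
  intro φ hfix
  by_cases hφθ : φ = ⟨θ, hθ⟩
  · have h1 : a φ = 0 := by
      have h2 : ((a φ : ℕ) : ℂ) = 0 := by
        rw [← ha, hφθ]; exact hzero
      exact_mod_cast h2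
    rw [h1, zero_mul]; exact dvd_zero p
  · apply dvd_mul_of_dvd_right
    by_contra hnd
    apply hφθ
    apply Subtype.ext
    have hφT : ChInv N T φ.1 := by
      intro t ht g g' hgg'
      have h1 : ((⟨t, ht⟩ : T) • φ).1 g' = φ.1 g' := by rw [hfix ⟨t, ht⟩]
      rw [hsm] at h1
      rw [← h1]
      refine congrArg φ.1 (Subtype.ext ?_)
      show t⁻¹ * (g' : Γ) * t = (g : Γ)
      rw [hgg']; group
    obtain ⟨m₁, hm₁, hpm₁⟩ := hθθs
    exact hN3 φ.1 θ φ.2 hθ hφT hθT θs hθs (b φ) m₁ (hb φ) hnd hm₁ hpm₁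

/-! ### the theorem for solvable operator groups -/

theorem over_solv {Γ : Type u} [Group Γ] [Finite Γ] (S : Subgroup Γ) [Group.IsSolvable S] :
    ∀ (n : ℕ) (G : Subgroup Γ) [Fintype G], Nat.card G = n →
      (∀ s ∈ S, ∀ g ∈ G, s * g * s⁻¹ ∈ G) → (Nat.card G).Coprime (Nat.card S) →
      ∀ (N : Subgroup Γ) [Fintype N] (hNG : N ≤ G), (∀ g ∈ G, ∀ n ∈ N, g * n * g⁻¹ ∈ N) →
      (∀ s ∈ S, ∀ n ∈ N, s * n * s⁻¹ ∈ N) →
      ∀ θ : N → ℂ, Cfsg.IsIrrCharacter N θ → ChInv N S θ →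
      ∃ χ : G → ℂ, Cfsg.IsIrrCharacter G χ ∧
        Cfsg.classInner (fun n : N => χ ⟨n, hNG n.2⟩) θ ≠ 0 ∧ ChInv G S χ := by
  classical
  intro n
  induction n using Nat.strong_induction_on with
  | _ n ih =>
    intro G instG hn hnorm hcop N instN hNG hNn hNS θ hθ hθS
    by_cases hcent : ∀ s ∈ S, ∀ g ∈ G, s * g = g * s
    · obtain ⟨χ, hχ, hne⟩ := exists_over G N hNG θ hθ
      refine ⟨χ, hχ, hne, ?_⟩
      intro s hs g g' hgg'
      have h1 : g' = g := Subtype.ext (by rw [hgg', hcent s hs g g.2]; group)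
      rw [h1]
    · obtain ⟨𝒯, h𝒯⟩ : ∃ 𝒯 : Set (Subgroup S),
          𝒯 = {T | T.Normal ∧ ¬ ∀ t : S, t ∈ T → ∀ g ∈ G, (t : Γ) * g = g * (t : Γ)} := ⟨_, rfl⟩
      have h𝒯mem : ∀ T : Subgroup S, T ∈ 𝒯 ↔
          (T.Normal ∧ ¬ ∀ t : S, t ∈ T → ∀ g ∈ G, (t : Γ) * g = g * (t : Γ)) := by
        intro T; rw [h𝒯]; rfl
      have htop : (⊤ : Subgroup S) ∈ 𝒯 := by
        rw [h𝒯mem]
        refine ⟨inferInstance, ?_⟩
        intro h
        apply hcent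
        intro s hs g hg
        exact h ⟨s, hs⟩ (Subgroup.mem_top _) g hg
      obtain ⟨T, hT𝒯, hTmin⟩ := Set.exists_min_image 𝒯 (fun T : Subgroup S => Nat.card T)
        (Set.toFinite 𝒯) ⟨⊤, htop⟩
      obtain ⟨hTn, hTact⟩ := (h𝒯mem T).1 hT𝒯
      haveI := hTn
      have hTne : T ≠ ⊥ := by
        rintro rfl
        apply hTact
        intro t ht g hg
        rw [Subgroup.mem_bot.1 ht]
        simp
      obtain ⟨p, hp, hpT, T₁, hT₁n, hT₁le, hT₁ne, hpow⟩ := solv_step T hTne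
      have hT₁act : ∀ t : S, t ∈ T₁ → ∀ g ∈ G, (t : Γ) * g = g * (t : Γ) := by
        by_contra hcon
        have h1 : T₁ ∈ 𝒯 := (h𝒯mem T₁).2 ⟨hT₁n, hcon⟩
        have h2 : Nat.card T ≤ Nat.card T₁ := hTmin T₁ h1
        exact hT₁ne (Subgroup.eq_of_le_of_card_ge hT₁le h2)
      obtain ⟨T', hT'def⟩ : ∃ T' : Subgroup Γ, T' = T.map S.subtype := ⟨_, rfl⟩
      have hT'S : T' ≤ S := by rw [hT'def]; exact Subgroup.map_subtype_le T
      have hT'mem : ∀ x : S, (x : Γ) ∈ T' ↔ x ∈ T := by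
        intro x
        rw [hT'def, Subgroup.mem_map]
        constructor
        · rintro ⟨y, hy, hyx⟩
          have h1 : y = x := Subtype.ext hyx
          rw [← h1]; exact hy
        · intro hx; exact ⟨x, hx, rfl⟩
      have hT'norm : ∀ x ∈ S, ∀ t ∈ T', x * t * x⁻¹ ∈ T' := by
        intro x hx t ht
        have h1 := (hT'mem ⟨t, hT'S ht⟩).1 ht
        have h2 := hTn.conj_mem _ h1 ⟨x, hx⟩
        exact (hT'mem _).2 h2
      have hT'p : ∀ t ∈ T', ∃ k : ℕ, ∀ g ∈ G, t ^ (p ^ k) * g = g * t ^ (p ^ k) := by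
        intro t ht
        refine ⟨1, ?_⟩
        intro g hg
        have h1 := (hT'mem ⟨t, hT'S ht⟩).1 ht
        have h2 := hpow _ h1
        have h3 : t ^ p * g = g * t ^ p := hT₁act _ h2 g hg
        rw [pow_one]
        exact h3
      have hT'act : ¬ ∀ t ∈ T', ∀ g ∈ G, t * g = g * t := by
        intro h
        apply hTact
        intro t ht g hg
        exact h t ((hT'mem t).2 ht) g hg
      have hcardT' : Nat.card T' = Nat.card T := by
        rw [hT'def]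
        exact (Nat.card_congr
          (T.equivMapOfInjective S.subtype S.subtype_injective).toEquiv).symm
      have hpS : p ∣ Nat.card S := by
        have h1 : Nat.card T' ∣ Nat.card S := Subgroup.card_dvd_of_le hT'S
        rw [hcardT'] at h1
        exact dvd_trans hpT h1
      have hpG : ¬ p ∣ Nat.card G := by
        intro hd
        have h1 : p ∣ Nat.gcd (Nat.card G) (Nat.card S) := Nat.dvd_gcd hd hpS
        have h2 : Nat.gcd (Nat.card G) (Nat.card S) = 1 := hcop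
        rw [h2] at h1
        exact hp.one_lt.ne' (Nat.dvd_one.1 h1)
      obtain ⟨C, hCdef⟩ : ∃ C : Subgroup Γ, C = G ⊓ Subgroup.centralizer (T' : Set Γ) :=
        ⟨_, rfl⟩
      haveI : Fintype C := Fintype.ofFinite _
      have hCG : C ≤ G := by rw [hCdef]; exact inf_le_left
      have hCne : C ≠ G := by
        intro hCeq
        apply hT'act
        intro t ht g hg
        have h1 : g ∈ C := by rw [hCeq]; exact hg
        rw [hCdef] at h1
        exact Subgroup.mem_centralizer_iff.1 (Subgroup.mem_inf.1 h1).2 t ht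
      have hClt : Nat.card C < n := by
        rw [← hn]
        by_contra hcon
        push_neg at hcon
        exact hCne (Subgroup.eq_of_le_of_card_ge hCG hcon)
      have hsC : ∀ s ∈ S, ∀ d ∈ C, s * d * s⁻¹ ∈ C := cent_norm G S T' hnorm hT'norm C hCdef
      have hcopC : (Nat.card C).Coprime (Nat.card S) :=
        Nat.Coprime.coprime_dvd_left (Subgroup.card_dvd_of_le hCG) hcop
      have hcopT : (Nat.card G).Coprime (Nat.card T') :=
        Nat.Coprime.coprime_dvd_right (Subgroup.card_dvd_of_le hT'S) hcop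
      have hcorr := gp_induct2 hp (Nat.card T') G T' rfl (fun t ht => hnorm t (hT'S ht)) hcopT
        hT'p C hCdef hCG
      obtain ⟨D, hDdef⟩ : ∃ D : Subgroup Γ, D = N ⊓ Subgroup.centralizer (T' : Set Γ) :=
        ⟨_, rfl⟩
      haveI : Fintype D := Fintype.ofFinite _
      have hDN : D ≤ N := by rw [hDdef]; exact inf_le_left
      have hDC : D ≤ C := by rw [hDdef, hCdef]; exact inf_le_inf_right _ hNG
      have hcopTN : (Nat.card N).Coprime (Nat.card T') :=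
        Nat.Coprime.coprime_dvd_left (Subgroup.card_dvd_of_le hNG) hcopT
      have hT'pN : ∀ t ∈ T', ∃ k : ℕ, ∀ g ∈ N, t ^ (p ^ k) * g = g * t ^ (p ^ k) := fun t ht => by
        obtain ⟨k, hk⟩ := hT'p t ht
        exact ⟨k, fun g hg => hk g (hNG hg)⟩
      have hcorrN := gp_induct2 hp (Nat.card T') N T' rfl (fun t ht => hNS t (hT'S ht)) hcopTN
        hT'pN D hDdef hDN
      have hθT : ChInv N T' θ := fun t ht => hθS t (hT'S ht)
      obtain ⟨θs, hθs, hθθs, -⟩ := hcorrN.1 θ hθ hθT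
      have hθsS : ChInv D S θs :=
        gcorr_key1 N S T' hNS hT'S hT'norm D hDdef hDN hcorrN θ hθ hθS θs hθs hθθs
      have hDn : ∀ c ∈ C, ∀ d ∈ D, c * d * c⁻¹ ∈ D := by
        intro c hc d hd
        rw [hCdef] at hc
        rw [hDdef] at hd ⊢
        refine Subgroup.mem_inf.2 ⟨hNn c hc.1 d hd.1, ?_⟩
        exact Subgroup.mul_mem _ (Subgroup.mul_mem _ hc.2 hd.2) (Subgroup.inv_mem _ hc.2)
      have hsD : ∀ s ∈ S, ∀ d ∈ D, s * d * s⁻¹ ∈ D := cent_norm N S T' hNS hT'norm D hDdef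
      obtain ⟨ψ, hψ, hψθs, hψS⟩ :=
        ih (Nat.card C) hClt C rfl hsC hcopC D hDC hDn hsD θs hθs hθsS
      obtain ⟨χ, hχ, hχT, hχψ⟩ := hcorr.2.2.2 ψ hψ
      have hχS : ChInv G S χ :=
        gcorr_key2 G S T' hnorm hT'S hT'norm C hCdef hCG hcorr ψ hψ hψS χ hχ hχT hχψ
      refine ⟨χ, hχ, ?_, hχS⟩
      exact over_step hp G N T' hNG hNn (fun t ht => hNS t (hT'S ht)) hT'p hpG C D hCdef hDdef
        hCG hDN hDC hcorr hcorrN χ hχ hχT ψ hψ hχψ θ hθ hθT θs hθs hθθs hψθs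

end Cfsg.Agent.Lib.Helper7
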