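import Mathlib
import Cfsg.Agent.Lib.Lead.SZ2
import Cfsg.Agent.Lib.Helper7.GlaubOver
import Cfsg.Agent.Lib.Helper8.CharStronglyReal

/-!
# Glauberman's lemma and invariant constituents

Glauberman's lemma (a coprime operator group fixes a point of a transitive set), and its
application to invariant irreducible constituents of restrictions.
-/

set_option autoImplicit false

namespace Cfsg.Agent.Lib.Helper7

open Cfsg.Agent.Lib.Lead

universe u v

/-- Glauberman's lemma: if `B` acts coprimely on the normal subgroup `A` and the `A`-orbit of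
`ω` is `B`-stable, then `B` fixes a point of that orbit. -/
theorem glaub_lemma {Q : Type u} [Group Q] [Finite Q] (A B : Subgroup Q) [hA : A.Normal]
    (hcop : (Nat.card A).Coprime (Nat.card B))
    (hsolv : Group.IsSolvable A ∨ Group.IsSolvable B)
    {Ω : Type v} [MulAction Q Ω] (ω : Ω)
    (htrans : ∀ b ∈ B, ∃ a ∈ A, b • ω = a • ω) :
    ∃ a ∈ A, ∀ b ∈ B, b • (a • ω) = a • ω := by
  classical
  obtain ⟨T, hTdef⟩ : ∃ T : Subgroup Q, T = MulAction.stabilizer Q ω ⊓ (A ⊔ B) := ⟨_, rfl⟩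
  have hTle : T ≤ A ⊔ B := by rw [hTdef]; exact inf_le_right
  have hTstab : ∀ t ∈ T, t • ω = ω := by
    intro t ht
    rw [hTdef] at ht
    exact MulAction.mem_stabilizer_iff.1 ht.1
  have hsup : A ⊔ T = A ⊔ B := by
    apply le_antisymm
    · exact sup_le le_sup_left hTle
    · apply sup_le le_sup_left
      intro b hb
      obtain ⟨a, ha, hab⟩ := htrans b hb
      have h1 : a⁻¹ * b ∈ T := by
        rw [hTdef]
        refine ⟨?_, ?_⟩
        · exact MulAction.mem_stabilizer_iff.2 (by rw [mul_smul, hab, inv_smul_smul])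
        · exact Subgroup.mul_mem _ (Subgroup.mem_sup_left (A.inv_mem ha))
            (Subgroup.mem_sup_right hb)
      have h2 : b = a * (a⁻¹ * b) := by group
      rw [h2]
      exact Subgroup.mul_mem _ (Subgroup.mem_sup_left ha) (Subgroup.mem_sup_right h1)
  have hdisj : Disjoint A B := Subgroup.disjoint_of_coprime_natCard hcop
  have hrel : A.relIndex T = Nat.card B := by
    rw [← Subgroup.relIndex_sup_left (K := A) (H := T), hsup, Subgroup.relIndex_sup_left]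
    show (A.subgroupOf B).index = Nat.card B
    rw [Subgroup.subgroupOf_eq_bot.2 hdisj, Subgroup.index_bot]
  haveI : (A.subgroupOf T).Normal := hA.subgroupOf T
  have hidx : (A.subgroupOf T).index = Nat.card B := hrel
  have hcard_dvd : Nat.card (A.subgroupOf T) ∣ Nat.card A := by
    let f : (A.subgroupOf T) →* A :=
      { toFun := fun x => ⟨((x : T) : Q), Subgroup.mem_subgroupOf.1 x.2⟩
        map_one' := rfl
        map_mul' := fun _ _ => rfl }
    have h1 : Function.Injective f := by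
      intro x y hxy
      apply Subtype.ext
      apply Subtype.ext
      exact congrArg (fun z : A => (z : Q)) hxy
    exact Subgroup.card_dvd_of_injective f h1
  have hcop' : (Nat.card (A.subgroupOf T)).Coprime (A.subgroupOf T).index := by
    rw [hidx]; exact Nat.Coprime.coprime_dvd_left hcard_dvd hcop
  obtain ⟨H', hH'⟩ := Subgroup.exists_right_complement'_of_coprime hcop'
  have hH'card : Nat.card H' = Nat.card B := by
    have h1 := hH'.card_mul_card
    have h2 := (A.subgroupOf T).card_mul_index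
    rw [hidx] at h2
    have h3 : Nat.card (A.subgroupOf T) ≠ 0 := Nat.card_pos.ne'
    have h4 : Nat.card (A.subgroupOf T) * Nat.card H' =
        Nat.card (A.subgroupOf T) * Nat.card B := by rw [h1, h2]
    exact Nat.eq_of_mul_eq_mul_left (Nat.pos_of_ne_zero h3) h4
  obtain ⟨K, hKdef⟩ : ∃ K : Subgroup Q, K = H'.map T.subtype := ⟨_, rfl⟩
  have hKcard : Nat.card K = Nat.card B := by
    rw [hKdef, ← hH'card]
    exact Subgroup.card_map_of_injective T.subtype_injective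
  have hKT : K ≤ T := by rw [hKdef]; exact Subgroup.map_subtype_le H'
  have hBA : B ≤ Subgroup.normalizer (A : Set Q) := by
    rw [Subgroup.normalizer_eq_top]; exact le_top
  obtain ⟨n, hn, hconj⟩ := szc A B K hBA (hKT.trans (by rw [sup_comm]; exact hTle)) hKcard hcop
    hsolv
  refine ⟨n⁻¹, A.inv_mem hn, fun b hb => ?_⟩
  have h1 : n * b * n⁻¹ ∈ K := by
    rw [← hconj]
    exact ⟨b, hb, rfl⟩
  have h2 := hTstab _ (hKT h1)
  calc b • (n⁻¹ • ω) = n⁻¹ • ((n * b * n⁻¹) • ω) := by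
        rw [← mul_smul, ← mul_smul]; congr 1; group
    _ = n⁻¹ • ω := by rw [h2]

/-- Glauberman's lemma, with `A` only normalised by `B` -/
theorem glaub_lemma' {Q : Type u} [Group Q] [Finite Q] (A B : Subgroup Q)
    (hBA : B ≤ Subgroup.normalizer (A : Set Q))
    (hcop : (Nat.card A).Coprime (Nat.card B))
    (hsolv : Group.IsSolvable A ∨ Group.IsSolvable B)
    {Ω : Type v} [MulAction Q Ω] (ω : Ω)
    (htrans : ∀ b ∈ B, ∃ a ∈ A, b • ω = a • ω) :
    ∃ a ∈ A, ∀ b ∈ B, b • (a • ω) = a • ω := by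
  classical
  have hAM : A ≤ Subgroup.normalizer (A : Set Q) := Subgroup.le_normalizer
  haveI : (A.subgroupOf (Subgroup.normalizer (A : Set Q))).Normal := Subgroup.normal_in_normalizer
  have hcA : Nat.card (A.subgroupOf (Subgroup.normalizer (A : Set Q))) = Nat.card A :=
    Nat.card_congr (Subgroup.subgroupOfEquivOfLe hAM).toEquiv
  have hcB : Nat.card (B.subgroupOf (Subgroup.normalizer (A : Set Q))) = Nat.card B :=
    Nat.card_congr (Subgroup.subgroupOfEquivOfLe hBA).toEquiv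
  have hsolv' : Group.IsSolvable (A.subgroupOf (Subgroup.normalizer (A : Set Q))) ∨
      Group.IsSolvable (B.subgroupOf (Subgroup.normalizer (A : Set Q))) := by
    rcases hsolv with h | h
    · left
      haveI := h
      exact solvable_of_solvable_injective (f := (Subgroup.subgroupOfEquivOfLe hAM).toMonoidHom)
        (Subgroup.subgroupOfEquivOfLe hAM).injective
    · right
      haveI := h
      exact solvable_of_solvable_injective (f := (Subgroup.subgroupOfEquivOfLe hBA).toMonoidHom)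
        (Subgroup.subgroupOfEquivOfLe hBA).injective
  obtain ⟨a, ha, hfix⟩ := glaub_lemma (A.subgroupOf (Subgroup.normalizer (A : Set Q)))
    (B.subgroupOf (Subgroup.normalizer (A : Set Q))) (by rw [hcA, hcB]; exact hcop) hsolv' ω (by
      intro b hb
      obtain ⟨a, ha, hab⟩ := htrans (b : Q) (Subgroup.mem_subgroupOf.1 hb)
      exact ⟨⟨a, hAM ha⟩, Subgroup.mem_subgroupOf.2 ha, hab⟩)
  refine ⟨(a : Q), Subgroup.mem_subgroupOf.1 ha, fun b hb => ?_⟩
  exact hfix ⟨b, hBA hb⟩ (Subgroup.mem_subgroupOf.2 hb)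

/-- conjugating by an element under which `χ` is invariant does not change multiplicities -/
theorem inner_irrAct {Γ : Type u} [Group Γ] (G N T : Subgroup Γ) [Fintype G] [Fintype N]
    (hNG : N ≤ G) (hTN : ∀ t ∈ T, ∀ n ∈ N, t * n * t⁻¹ ∈ N) (χ : G → ℂ) (hχT : ChInv G T χ)
    (t : T) (φ : N → ℂ) :
    Cfsg.classInner (fun n : N => χ ⟨n, hNG n.2⟩)
        (fun n : N => φ ⟨(t : Γ)⁻¹ * n * t, irrAct_mem N T hTN t n⟩) =
      Cfsg.classInner (fun n : N => χ ⟨n, hNG n.2⟩) φ := by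
  obtain ⟨σ, hσ, hcomp⟩ := irrAct_comp N T hTN t
  have h4 : (fun n : N => χ ⟨n, hNG n.2⟩) ∘ σ = (fun n : N => χ ⟨n, hNG n.2⟩) := by
    funext n
    show χ ⟨(σ n : N), hNG (σ n).2⟩ = χ ⟨n, hNG n.2⟩
    apply hχT (t : Γ)⁻¹ (T.inv_mem t.2) ⟨n, hNG n.2⟩ ⟨(σ n : N), hNG (σ n).2⟩
    show ((σ n : N) : Γ) = (t : Γ)⁻¹ * n * ((t : Γ)⁻¹)⁻¹
    rw [hσ, inv_inv]
  rw [hcomp φ]
  conv_lhs => rw [← h4]
  exact classInner_comp_equiv σ _ _

/-- an invariant irreducible character has an invariant irreducible constituent on a normal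
subgroup of coprime index, when the operator group or the quotient is solvable -/
theorem inv_constituent {Γ : Type u} [Group Γ] [Finite Γ] (G S N : Subgroup Γ) [Fintype G]
    [Fintype N] (hnorm : ∀ s ∈ S, ∀ g ∈ G, s * g * s⁻¹ ∈ G) (hNG : N ≤ G)
    [hNn : (N.subgroupOf G).Normal] (hNS : ∀ s ∈ S, ∀ n ∈ N, s * n * s⁻¹ ∈ N)
    (hcop : (N.relIndex G).Coprime (Nat.card S))
    (hsolv : Group.IsSolvable S ∨ Group.IsSolvable (G ⧸ N.subgroupOf G))
    (χ : G → ℂ) (hχ : Cfsg.IsIrrCharacter G χ) (hinv : ChInv G S χ) :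
    ∃ θ : N → ℂ, Cfsg.IsIrrCharacter N θ ∧
      Cfsg.classInner (fun n : N => χ ⟨n, hNG n.2⟩) θ ≠ 0 ∧ ChInv N S θ := by
  classical
  haveI : Fintype Γ := Fintype.ofFinite Γ
  haveI : Fintype (N.subgroupOf G) := Fintype.ofFinite _
  have hNnG : ∀ g ∈ G, ∀ n ∈ N, g * n * g⁻¹ ∈ N := by
    intro g hg n hn
    have h := hNn.conj_mem (⟨n, hNG hn⟩ : G) (Subgroup.mem_subgroupOf.2 hn) ⟨g, hg⟩
    exact Subgroup.mem_subgroupOf.1 h
  have hχG : ChInv G G χ := by
    intro g hg x x' hx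
    have hcl := isClassFunction_of_irr hχ
    have h1 : x' = ⟨g, hg⟩ * x * ⟨g, hg⟩⁻¹ := Subtype.ext (by rw [hx]; rfl)
    rw [h1]; exact hcl x ⟨g, hg⟩
  have hchN : Cfsg.IsCharacter N (fun n : N => χ ⟨n, hNG n.2⟩) :=
    isCharacter_comp (Subgroup.inclusion hNG) (isCharacter_of_isIrrCharacter hχ)
  obtain ⟨d, hd0, hd⟩ := irr_one hχ
  have h1 : (fun n : N => χ ⟨n, hNG n.2⟩) 1 ≠ 0 := by
    show χ ⟨((1 : N) : Γ), hNG (1 : N).2⟩ ≠ 0
    have h2 : (⟨((1 : N) : Γ), hNG (1 : N).2⟩ : G) = 1 := rfl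
    rw [h2, hd]; exact_mod_cast hd0
  obtain ⟨θ₀f, hθ₀, hne₀⟩ := exists_constituent hchN h1
  obtain ⟨θ₀, hθ₀def⟩ : ∃ θ₀ : Cfsg.IrrCharacter N, θ₀ = ⟨θ₀f, hθ₀⟩ := ⟨_, rfl⟩
  have hne₀' : Cfsg.classInner (fun n : N => χ ⟨n, hNG n.2⟩) θ₀.1 ≠ 0 := by
    rw [hθ₀def]; exact hne₀
  obtain ⟨αG, hαG⟩ : ∃ αG : G →* Equiv.Perm (Cfsg.IrrCharacter N),
      ∀ (g : G) (φ : Cfsg.IrrCharacter N) (n : N),
        (αG g φ).1 n = φ.1 ⟨(g : Γ)⁻¹ * n * g, irrAct_mem N G hNnG g n⟩ :=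
    ⟨@MulAction.toPermHom G (Cfsg.IrrCharacter N) _ (irrAct N G hNnG), fun _ _ _ => rfl⟩
  obtain ⟨αS, hαS⟩ : ∃ αS : S →* Equiv.Perm (Cfsg.IrrCharacter N),
      ∀ (s : S) (φ : Cfsg.IrrCharacter N) (n : N),
        (αS s φ).1 n = φ.1 ⟨(s : Γ)⁻¹ * n * s, irrAct_mem N S hNS s n⟩ :=
    ⟨@MulAction.toPermHom S (Cfsg.IrrCharacter N) _ (irrAct N S hNS), fun _ _ _ => rfl⟩
  have hcS : ∀ (s : S) (φ : Cfsg.IrrCharacter N),
      Cfsg.classInner (fun n : N => χ ⟨n, hNG n.2⟩) (αS s φ).1 =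
        Cfsg.classInner (fun n : N => χ ⟨n, hNG n.2⟩) φ.1 := by
    intro s φ
    have h := inner_irrAct G N S hNG hNS χ hinv s φ.1
    rw [← h]
    congr 1
    funext n
    exact hαS s φ n
  have hcG : ∀ (g : G) (φ : Cfsg.IrrCharacter N),
      Cfsg.classInner (fun n : N => χ ⟨n, hNG n.2⟩) (αG g φ).1 =
        Cfsg.classInner (fun n : N => χ ⟨n, hNG n.2⟩) φ.1 := by
    intro g φ
    have h := inner_irrAct G N G hNG hNnG χ hχG g φ.1
    rw [← h]
    congr 1
    funext n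
    exact hαG g φ n
  -- transitivity
  have htr : ∀ φ : Cfsg.IrrCharacter N,
      Cfsg.classInner (fun n : N => χ ⟨n, hNG n.2⟩) φ.1 ≠ 0 → ∃ g : G, φ = αG g θ₀ := by
    intro φ hφ
    obtain ⟨φ', hφ'def⟩ : ∃ φ' : N.subgroupOf G → ℂ,
        φ' = fun x : N.subgroupOf G => φ.1 ⟨(x : G), Subgroup.mem_subgroupOf.mp x.2⟩ := ⟨_, rfl⟩
    obtain ⟨θ', hθ'def⟩ : ∃ θ' : N.subgroupOf G → ℂ,
        θ' = fun x : N.subgroupOf G => θ₀.1 ⟨(x : G), Subgroup.mem_subgroupOf.mp x.2⟩ := ⟨_, rfl⟩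
    have hφ' : Cfsg.IsIrrCharacter (N.subgroupOf G) φ' := by
      rw [hφ'def]
      exact isIrrCharacter_comp_surj (Subgroup.subgroupOfEquivOfLe hNG).toMonoidHom
        (Subgroup.subgroupOfEquivOfLe hNG).surjective φ.2
    have hθ' : Cfsg.IsIrrCharacter (N.subgroupOf G) θ' := by
      rw [hθ'def]
      exact isIrrCharacter_comp_surj (Subgroup.subgroupOfEquivOfLe hNG).toMonoidHom
        (Subgroup.subgroupOfEquivOfLe hNG).surjective θ₀.2
    have c1 : Cfsg.classInner (fun x : N.subgroupOf G => χ x) φ' ≠ 0 := by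
      have e1 : Cfsg.classInner (fun x : N.subgroupOf G => χ x) φ' =
          Cfsg.classInner (fun n : N => χ ⟨n, hNG n.2⟩) φ.1 := by
        rw [hφ'def]
        exact classInner_subgroupOf N G hNG (fun n : N => χ ⟨n, hNG n.2⟩) φ.1
      rw [e1]; exact hφ
    have c2 : Cfsg.classInner (fun x : N.subgroupOf G => χ x) θ' ≠ 0 := by
      have e1 : Cfsg.classInner (fun x : N.subgroupOf G => χ x) θ' =
          Cfsg.classInner (fun n : N => χ ⟨n, hNG n.2⟩) θ₀.1 := by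
        rw [hθ'def]
        exact classInner_subgroupOf N G hNG (fun n : N => χ ⟨n, hNG n.2⟩) θ₀.1
      rw [e1]; exact hne₀'
    obtain ⟨g, hg⟩ := Cfsg.Agent.Lib.Helper8.constituents_conj (N.subgroupOf G) ⟨χ, hχ⟩
      ⟨φ', hφ'⟩ ⟨θ', hθ'⟩ c1 c2
    refine ⟨g⁻¹, ?_⟩
    apply Subtype.ext
    funext n
    rw [hαG]
    have h2 := congrFun hg ⟨⟨n, hNG n.2⟩, Subgroup.mem_subgroupOf.2 n.2⟩
    have h3 : φ.1 n = θ' (conjHom (N.subgroupOf G) g ⟨⟨n, hNG n.2⟩, Subgroup.mem_subgroupOf.2 n.2⟩) := by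
      have h4 : φ' ⟨⟨n, hNG n.2⟩, Subgroup.mem_subgroupOf.2 n.2⟩ = φ.1 n := by
        rw [hφ'def]
      rw [← h4]
      exact h2
    rw [h3, hθ'def]
    refine congrArg θ₀.1 (Subtype.ext ?_)
    show (g : Γ) * n * (g : Γ)⁻¹ = ((g⁻¹ : G) : Γ)⁻¹ * n * ((g⁻¹ : G) : Γ)
    rw [Subgroup.coe_inv, inv_inv]
  -- normalisation
  have hnormal : αS.range ≤ Subgroup.normalizer (αG.range : Set (Equiv.Perm (Cfsg.IrrCharacter N))) := by
    apply le_normalizer_of_conj_mem
    rintro _ ⟨s, rfl⟩ _ ⟨g, rfl⟩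
    refine ⟨⟨(s : Γ) * g * (s : Γ)⁻¹, hnorm s s.2 g g.2⟩, ?_⟩
    apply Equiv.ext
    intro φ
    apply Subtype.ext
    funext n
    have hinv' : (αS s)⁻¹ = αS s⁻¹ := (map_inv αS s).symm
    rw [hinv']
    show (αG _ φ).1 n = (αS s (αG g (αS s⁻¹ φ))).1 n
    rw [hαG, hαS, hαG, hαS]
    refine congrArg φ.1 (Subtype.ext ?_)
    simp only [Subgroup.coe_inv, inv_inv]
    group
  have hker : N.subgroupOf G ≤ αG.ker := by
    intro x hx
    rw [MonoidHom.mem_ker]
    apply Equiv.ext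
    intro φ
    apply Subtype.ext
    funext n
    rw [hαG]
    show φ.1 _ = φ.1 n
    have hcl := isClassFunction_of_irr φ.2
    have hxN : (x : Γ) ∈ N := Subgroup.mem_subgroupOf.1 hx
    have h2 := hcl n (⟨(x : Γ), hxN⟩⁻¹ : N)
    rw [← h2]
    refine congrArg φ.1 (Subtype.ext ?_)
    simp
  have hcardA : Nat.card αG.range ∣ N.relIndex G := by
    rw [← Subgroup.index_ker]
    exact Subgroup.index_dvd_of_le hker
  have hcardB : Nat.card αS.range ∣ Nat.card S := Subgroup.card_range_dvd αS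
  have hcop' : (Nat.card αG.range).Coprime (Nat.card αS.range) :=
    Nat.Coprime.coprime_dvd_left hcardA (Nat.Coprime.coprime_dvd_right hcardB hcop)
  have hsolv' : Group.IsSolvable αG.range ∨ Group.IsSolvable αS.range := by
    rcases hsolv with h | h
    · right
      haveI := h
      exact solvable_of_surjective αS.rangeRestrict_surjective
    · left
      haveI := h
      have hker' : N.subgroupOf G ≤ αG.rangeRestrict.ker := by
        rw [MonoidHom.ker_rangeRestrict]; exact hker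
      have hf : Function.Surjective (QuotientGroup.lift (N.subgroupOf G) αG.rangeRestrict hker') := by
        rintro ⟨_, ⟨g, rfl⟩⟩
        exact ⟨(g : G ⧸ N.subgroupOf G), rfl⟩
      exact solvable_of_surjective hf
  obtain ⟨a, ha, hfix⟩ := glaub_lemma' αG.range αS.range hnormal hcop' hsolv' θ₀ (by
    rintro _ ⟨s, rfl⟩
    have hc : Cfsg.classInner (fun n : N => χ ⟨n, hNG n.2⟩) (αS s θ₀).1 ≠ 0 := by
      rw [hcS]; exact hne₀'
    obtain ⟨g, hg⟩ := htr _ hc
    exact ⟨αG g, ⟨g, rfl⟩, hg⟩)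
  obtain ⟨g, rfl⟩ := ha
  refine ⟨(αG g θ₀).1, (αG g θ₀).2, ?_, ?_⟩
  · rw [hcG]; exact hne₀'
  · intro s hs n n' hnn'
    have h := hfix (αS ⟨s, hs⟩) ⟨⟨s, hs⟩, rfl⟩
    have h2 : (αS ⟨s, hs⟩ (αG g θ₀)).1 n' = (αG g θ₀).1 n' :=
      congrFun (congrArg Subtype.val h) n'
    rw [← h2, hαS]
    refine congrArg (αG g θ₀).1 (Subtype.ext ?_)
    show s⁻¹ * (n' : Γ) * s = n
    rw [hnn']; group

end Cfsg.Agent.Lib.Helper7
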