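import Mathlib
import Cfsg.Agent.Lib.Helper7.GlaubLem
import Cfsg.Agent.Lib.Helper7.CharExt
import Cfsg.Agent.Lib.Lead.CharBasic
import Cfsg.Agent.Lib.Lead.CharArtin
import Cfsg.Agent.Lib.Lead.CharClifford
import Cfsg.Agent.Lib.Lead.CharGallagher

/-!
# Invariant characters above invariant characters: solvable quotients

Going up through an abelian section with Glauberman's lemma (the linear characters of the
section act transitively on the characters over a given one), and then through a solvable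
quotient.
-/

set_option autoImplicit false

namespace Cfsg.Agent.Lib.Helper7

open Cfsg.Agent.Lib.Lead
open scoped ComplexConjugate commutatorElement

universe u

/-- an irreducible character whose kernel contains all commutators is linear -/
theorem linear_of_derived_ker {G : Type u} [Group G] [Fintype G] {ψ : G → ℂ}
    (hψ : Cfsg.IsIrrCharacter G ψ) (hk : ∀ g h : G, ψ (g * h * g⁻¹ * h⁻¹) = ψ 1) : ψ 1 = 1 := by
  classical
  have hself := classInner_irr_self hψ
  obtain ⟨n, ρ, hρ, rfl⟩ := hψ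
  haveI := hρ
  have hfin : Module.finrank ℂ (Fin n → ℂ) = n := by simp
  have hc : ∀ g h : G, ρ g * ρ h = ρ h * ρ g := by
    intro g h
    have h1 : ρ (g * h * g⁻¹ * h⁻¹) = LinearMap.id := by
      rw [← char_eq_finrank_iff, hk, Representation.char_one]
    have h2 : g * h = (g * h * g⁻¹ * h⁻¹) * (h * g) := by group
    rw [← map_mul, ← map_mul, h2, map_mul, h1]
    rfl
  have hnorm : ∀ g : G, ‖ρ.character g‖ = (n : ℝ) := by
    intro g
    have h1 := (norm_char_eq_iff ρ g).2 ⟨_, schur_scalar ρ (ρ g) (fun h => hc g h)⟩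
    rw [hfin] at h1
    exact h1
  have hn0 : 0 < n := by
    have := finrank_pos_of_irr ρ
    rwa [hfin] at this
  have hsum : Cfsg.classInner ρ.character ρ.character = ((n : ℂ)) ^ 2 := by
    unfold Cfsg.classInner
    have h1 : ∀ g : G, ρ.character g * conj (ρ.character g) = ((n : ℂ)) ^ 2 := by
      intro g
      rw [Complex.mul_conj, Complex.normSq_eq_norm_sq, hnorm g]
      push_cast
      rfl
    rw [Finset.sum_congr rfl (fun g _ => h1 g), Finset.sum_const, Finset.card_univ,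
      nsmul_eq_mul, Nat.card_eq_fintype_card]
    have h2 : (Fintype.card G : ℂ) ≠ 0 := by
      exact_mod_cast Fintype.card_ne_zero
    field_simp
  rw [hself] at hsum
  have h3 : (n : ℂ) ^ 2 = 1 := hsum.symm
  have h4 : n ^ 2 = 1 := by exact_mod_cast h3
  have h5 : n = 1 := by nlinarith
  rw [Representation.char_one, hfin, h5]
  simp

/-- over an abelian quotient, the irreducible characters over a given character of the normal
subgroup are permuted transitively by the linear characters of the quotient -/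
theorem ab_transitive {G : Type u} [Group G] [Fintype G] (N : Subgroup G) [hN : N.Normal]
    [Fintype N] (hab : ∀ g h : G, g * h * g⁻¹ * h⁻¹ ∈ N)
    (θ : N → ℂ) (hθ : Cfsg.IsIrrCharacter N θ) {χ₀ χ₁ : G → ℂ}
    (h0 : Cfsg.IsIrrCharacter G χ₀) (h1 : Cfsg.IsIrrCharacter G χ₁)
    (c0 : Cfsg.classInner (fun n : N => χ₀ n) θ ≠ 0)
    (c1 : Cfsg.classInner (fun n : N => χ₁ n) θ ≠ 0) :
    ∃ lam : G →* ℂˣ, (∀ x ∈ N, lam x = 1) ∧ χ₁ = fun g => (lam g : ℂ) * χ₀ g := by
  classical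
  haveI : Fintype (Cfsg.IrrCharacter G) := Fintype.ofFinite _
  haveI : Fintype (Cfsg.IrrCharacter N) := Fintype.ofFinite _
  have hcf1 : Cfsg.IsClassFunction G χ₁ := isClassFunction_of_irr h1
  have hcf0 : Cfsg.IsClassFunction G χ₀ := isClassFunction_of_irr h0
  -- (a) the induced character of the restriction of χ₀ contains χ₁
  have ha : Cfsg.classInner (Cfsg.indFun N (fun n : N => χ₀ n)) χ₁ ≠ 0 := by
    rw [frobenius_reciprocity N _ _ hcf1]
    obtain ⟨m, ff, hm, hff, hsum⟩ := restrict_inner_expansion N N (le_refl N) χ₀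
      (isCharacter_of_isIrrCharacter h0) (fun n : N => χ₁ n)
      (isCharacter_restrict N (isCharacter_of_isIrrCharacter h1))
    rw [hsum]
    have hmθ : m ⟨θ, hθ⟩ ≠ 0 := by
      intro h
      apply c0
      have := hm ⟨θ, hθ⟩
      rw [h, Nat.cast_zero] at this
      exact this
    have hfθ : ff ⟨θ, hθ⟩ ≠ 0 := by
      intro h
      apply c1
      have h2 := hff ⟨θ, hθ⟩
      rw [h, Nat.cast_zero] at h2
      rw [← classInner_conj_symm]
      have h3 : Cfsg.classInner θ (fun n : N => χ₁ n) = 0 := h2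
      rw [h3, map_zero]
    have hpos : 0 < ∑ φ : Cfsg.IrrCharacter N, m φ * ff φ :=
      Finset.sum_pos' (fun _ _ => Nat.zero_le _)
        ⟨⟨θ, hθ⟩, Finset.mem_univ _, Nat.mul_pos (Nat.pos_of_ne_zero hmθ) (Nat.pos_of_ne_zero hfθ)⟩
    exact_mod_cast hpos.ne'
  -- (b) it is the product with the permutation character
  have hb : Cfsg.indFun N (fun n : N => χ₀ n) = Cfsg.indFun N (fun _ : N => (1 : ℂ)) * χ₀ := by
    have h2 := indFun_mul_restrict N (fun _ : N => (1 : ℂ)) χ₀ hcf0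
    rw [← h2]
    congr 1
    funext n
    simp
  have hΨ : Cfsg.IsCharacter G (Cfsg.indFun N (fun _ : N => (1 : ℂ))) :=
    isCharacter_indFun N _ (isCharacter_of_isIrrCharacter (isIrrCharacter_one N))
  obtain ⟨m, hexp, hm⟩ := isCharacter_expansion hΨ
  -- (d) some constituent works
  have hd : ∃ ψ : Cfsg.IrrCharacter G, m ψ ≠ 0 ∧ Cfsg.classInner (ψ.1 * χ₀) χ₁ ≠ 0 := by
    by_contra hcon
    push_neg at hcon
    apply ha
    rw [hb, hexp, Finset.sum_mul, classInner_sum_left]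
    apply Finset.sum_eq_zero
    intro ψ _
    rw [smul_mul_assoc, classInner_smul_left]
    by_cases hmψ : m ψ = 0
    · rw [hmψ, Nat.cast_zero, zero_mul]
    · rw [hcon ψ hmψ, mul_zero]
  obtain ⟨ψ, hmψ, hψ1⟩ := hd
  -- (e) ψ is trivial on N
  have hconst : Cfsg.classInner (fun n : N => ψ.1 n) (fun _ : N => (1 : ℂ)) ≠ 0 := by
    intro h
    apply hmψ
    have h2 := hm ψ
    rw [frobenius_reciprocity N _ _ (isClassFunction_of_irr ψ.2), ← classInner_conj_symm, h,
      map_zero] at h2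
    exact_mod_cast h2.symm
  have hcl := clifford_char N hN ψ.1 ψ.2 (fun _ : N => (1 : ℂ)) (isIrrCharacter_one N) hconst
  have hset : {ψ' : N → ℂ | ∃ g : G, ψ' = fun n : N =>
      (fun _ : N => (1 : ℂ)) ⟨g * n * g⁻¹, hN.conj_mem n n.2 g⟩} = {fun _ : N => (1 : ℂ)} := by
    ext ψ'
    constructor
    · rintro ⟨g, rfl⟩; rfl
    · intro h; exact ⟨1, h⟩
  rw [hset, finsum_mem_singleton] at hcl
  have hψN : ∀ x ∈ N, ψ.1 x = ψ.1 1 := by
    intro x hx
    have e1 := congrFun hcl ⟨x, hx⟩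
    have e2 := congrFun hcl 1
    simp only [Pi.smul_apply, smul_eq_mul, mul_one] at e1 e2
    have e3 : ψ.1 ((1 : N) : G) = ψ.1 1 := rfl
    rw [← e3, e2]
    exact e1
  have hlin : ψ.1 1 = 1 := linear_of_derived_ker ψ.2 (fun g h => hψN _ (hab g h))
  obtain ⟨lam, hlam⟩ := exists_hom_of_linear ψ.2 hlin
  have hlamN : ∀ x ∈ N, lam x = 1 := by
    intro x hx
    apply Units.ext
    have e1 := congrFun hlam x
    have e2 := hψN x hx
    rw [hlin] at e2
    rw [e2] at e1
    show (lam x : ℂ) = 1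
    exact e1.symm
  refine ⟨lam, hlamN, ?_⟩
  have hirr : Cfsg.IsIrrCharacter G (fun g => (lam g : ℂ) * χ₀ g) := isIrr_twist lam h0
  have heq : ψ.1 * χ₀ = fun g => (lam g : ℂ) * χ₀ g := by
    funext g
    show ψ.1 g * χ₀ g = (lam g : ℂ) * χ₀ g
    rw [congrFun hlam g]
  rw [heq, classInner_irr hirr h1] at hψ1
  by_contra hne
  apply hψ1
  rw [if_neg (fun h => hne h.symm)]

/-- the action of the linear characters on the irreducible characters by multiplication -/
noncomputable def twAct (G : Type u) [Group G] [Finite G] :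
    MulAction (G →* ℂˣ) (Cfsg.IrrCharacter G) where
  smul lam χ := ⟨fun g => (lam g : ℂ) * χ.1 g, isIrr_twist lam χ.2⟩
  one_smul χ := by
    apply Subtype.ext
    funext g
    show (((1 : G →* ℂˣ) g : ℂˣ) : ℂ) * χ.1 g = χ.1 g
    simp
  mul_smul a b χ := by
    apply Subtype.ext
    funext g
    show (((a * b) g : ℂˣ) : ℂ) * χ.1 g = (a g : ℂ) * ((b g : ℂ) * χ.1 g)
    rw [MonoidHom.mul_apply, Units.val_mul, mul_assoc]

/-- transitivity of lying over -/
theorem over_trans {Γ : Type u} [Group Γ] [Finite Γ] (G M N : Subgroup Γ) [Fintype G] [Fintype M]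
    [Fintype N] (hMG : M ≤ G) (hNM : N ≤ M) (χ : G → ℂ) (hχ : Cfsg.IsCharacter G χ)
    (φ : M → ℂ) (hφ : Cfsg.IsIrrCharacter M φ) (θ : N → ℂ) (hθ : Cfsg.IsIrrCharacter N θ)
    (h1 : Cfsg.classInner (fun m : M => χ ⟨m, hMG m.2⟩) φ ≠ 0)
    (h2 : Cfsg.classInner (fun n : N => φ ⟨n, hNM n.2⟩) θ ≠ 0) :
    Cfsg.classInner (fun n : N => χ ⟨n, hMG (hNM n.2)⟩) θ ≠ 0 := by
  classical
  haveI : Fintype (Cfsg.IrrCharacter M) := Fintype.ofFinite _
  have hχM : Cfsg.IsCharacter M (fun m : M => χ ⟨m, hMG m.2⟩) :=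
    isCharacter_comp (Subgroup.inclusion hMG) hχ
  obtain ⟨m, hexp, hm⟩ := isCharacter_expansion hχM
  choose ff hff using fun ψ : Cfsg.IrrCharacter M => classInner_char_char_nat
    (isCharacter_comp (Subgroup.inclusion hNM) (isCharacter_of_isIrrCharacter ψ.2))
    (isCharacter_of_isIrrCharacter hθ)
  have hres : (fun n : N => χ ⟨n, hMG (hNM n.2)⟩) =
      ∑ ψ : Cfsg.IrrCharacter M, (m ψ : ℂ) • (fun n : N => ψ.1 ⟨n, hNM n.2⟩) := by
    funext n
    have e1 := congrFun hexp ⟨n, hNM n.2⟩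
    rw [Finset.sum_apply] at e1 ⊢
    exact e1
  have hsum : Cfsg.classInner (fun n : N => χ ⟨n, hMG (hNM n.2)⟩) θ =
      ((∑ ψ : Cfsg.IrrCharacter M, m ψ * ff ψ : ℕ) : ℂ) := by
    rw [hres, classInner_sum_left]
    push_cast
    apply Finset.sum_congr rfl
    intro ψ _
    rw [classInner_smul_left]
    congr 1
    exact hff ψ
  rw [hsum]
  have hmφ : m ⟨φ, hφ⟩ ≠ 0 := by
    intro h
    apply h1
    have := hm ⟨φ, hφ⟩
    rw [h, Nat.cast_zero] at this
    exact this
  have hfφ : ff ⟨φ, hφ⟩ ≠ 0 := by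
    intro h
    apply h2
    have := hff ⟨φ, hφ⟩
    rw [h, Nat.cast_zero] at this
    exact this
  have hpos : 0 < ∑ ψ : Cfsg.IrrCharacter M, m ψ * ff ψ :=
    Finset.sum_pos' (fun _ _ => Nat.zero_le _)
      ⟨⟨φ, hφ⟩, Finset.mem_univ _, Nat.mul_pos (Nat.pos_of_ne_zero hmφ) (Nat.pos_of_ne_zero hfφ)⟩
  exact_mod_cast hpos.ne'

/-- going up through an abelian section -/
theorem ab_step {Γ : Type u} [Group Γ] [Finite Γ] (G S N : Subgroup Γ) [Fintype G] [Fintype N]
    (hnorm : ∀ s ∈ S, ∀ g ∈ G, s * g * s⁻¹ ∈ G) (hNG : N ≤ G)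
    (hNn : ∀ g ∈ G, ∀ n ∈ N, g * n * g⁻¹ ∈ N) (hNS : ∀ s ∈ S, ∀ n ∈ N, s * n * s⁻¹ ∈ N)
    (hab : ∀ g ∈ G, ∀ h ∈ G, g * h * g⁻¹ * h⁻¹ ∈ N)
    (hcop : (N.relIndex G).Coprime (N.relIndex S))
    (θ : N → ℂ) (hθ : Cfsg.IsIrrCharacter N θ) (hθS : ChInv N S θ) :
    ∃ χ : G → ℂ, Cfsg.IsIrrCharacter G χ ∧
      Cfsg.classInner (fun n : N => χ ⟨n, hNG n.2⟩) θ ≠ 0 ∧ ChInv G S χ := by
  classical
  haveI : Fintype Γ := Fintype.ofFinite Γ
  haveI : Fintype (N.subgroupOf G) := Fintype.ofFinite _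
  haveI hN' : (N.subgroupOf G).Normal := by
    constructor
    intro n hn g
    rw [Subgroup.mem_subgroupOf] at hn ⊢
    exact hNn g g.2 n hn
  obtain ⟨χ₀f, hχ₀, hne₀⟩ := exists_over G N hNG θ hθ
  obtain ⟨χ₀, hχ₀def⟩ : ∃ χ₀ : Cfsg.IrrCharacter G, χ₀ = ⟨χ₀f, hχ₀⟩ := ⟨_, rfl⟩
  have hne₀' : Cfsg.classInner (fun n : N => χ₀.1 ⟨n, hNG n.2⟩) θ ≠ 0 := by
    rw [hχ₀def]; exact hne₀
  obtain ⟨θ', hθ'def⟩ : ∃ θ' : N.subgroupOf G → ℂ,
      θ' = fun x : N.subgroupOf G => θ ⟨(x : G), Subgroup.mem_subgroupOf.mp x.2⟩ := ⟨_, rfl⟩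
  have hθ' : Cfsg.IsIrrCharacter (N.subgroupOf G) θ' := by
    rw [hθ'def]
    exact isIrrCharacter_comp_surj (Subgroup.subgroupOfEquivOfLe hNG).toMonoidHom
      (Subgroup.subgroupOfEquivOfLe hNG).surjective hθ
  have hconv : ∀ χ : G → ℂ, Cfsg.classInner (fun x : N.subgroupOf G => χ x) θ' =
      Cfsg.classInner (fun n : N => χ ⟨n, hNG n.2⟩) θ := by
    intro χ
    rw [hθ'def]
    exact classInner_subgroupOf N G hNG (fun n : N => χ ⟨n, hNG n.2⟩) θ
  obtain ⟨μ, hμ⟩ : ∃ μ : (G →* ℂˣ) →* Equiv.Perm (Cfsg.IrrCharacter G),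
      ∀ (lam : G →* ℂˣ) (φ : Cfsg.IrrCharacter G) (g : G),
        (μ lam φ).1 g = (lam g : ℂ) * φ.1 g :=
    ⟨@MulAction.toPermHom (G →* ℂˣ) (Cfsg.IrrCharacter G) _ (twAct G), fun _ _ _ => rfl⟩
  obtain ⟨αS, hαS⟩ : ∃ αS : S →* Equiv.Perm (Cfsg.IrrCharacter G),
      ∀ (s : S) (φ : Cfsg.IrrCharacter G) (g : G),
        (αS s φ).1 g = φ.1 ⟨(s : Γ)⁻¹ * g * s, irrAct_mem G S hnorm s g⟩ :=
    ⟨@MulAction.toPermHom S (Cfsg.IrrCharacter G) _ (irrAct G S hnorm), fun _ _ _ => rfl⟩
  obtain ⟨ΛN, hΛ⟩ : ∃ ΛN : Subgroup (G →* ℂˣ),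
      ∀ lam : G →* ℂˣ, lam ∈ ΛN ↔ ∀ x : G, (x : Γ) ∈ N → lam x = 1 :=
    ⟨{ carrier := {lam | ∀ x : G, (x : Γ) ∈ N → lam x = 1}
       mul_mem' := by
         intro a b ha hb x hx
         rw [MonoidHom.mul_apply, ha x hx, hb x hx, one_mul]
       one_mem' := by
         intro x hx
         rfl
       inv_mem' := by
         intro a ha x hx
         rw [MonoidHom.inv_apply, ha x hx, inv_one] }, fun _ => Iff.rfl⟩
  have hnormal : αS.range ≤ Subgroup.normalizer
      ((ΛN.map μ : Subgroup (Equiv.Perm (Cfsg.IrrCharacter G))) :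
        Set (Equiv.Perm (Cfsg.IrrCharacter G))) := by
    apply le_normalizer_of_conj_mem
    rintro _ ⟨s, rfl⟩ _ ⟨lam, hlam, rfl⟩
    obtain ⟨σ, hσ, -⟩ := irrAct_comp G S hnorm s
    refine ⟨lam.comp σ.toMonoidHom, ?_, ?_⟩
    · rw [SetLike.mem_coe, hΛ]
      intro x hx
      show lam (σ x) = 1
      apply (hΛ lam).1 hlam
      rw [hσ]
      have := hNS (s : Γ)⁻¹ (S.inv_mem s.2) x hx
      simpa using this
    · apply Equiv.ext
      intro φ
      apply Subtype.ext
      funext g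
      have hinv' : (αS s)⁻¹ = αS s⁻¹ := (map_inv αS s).symm
      rw [hinv']
      show (μ (lam.comp σ.toMonoidHom) φ).1 g = (αS s (μ lam (αS s⁻¹ φ))).1 g
      rw [hμ, hαS, hμ, hαS]
      have e1 : σ g = ⟨(s : Γ)⁻¹ * g * s, irrAct_mem G S hnorm s g⟩ := Subtype.ext (hσ g)
      show (lam (σ g) : ℂ) * φ.1 g = _
      rw [e1]
      congr 1
      refine congrArg φ.1 (Subtype.ext ?_)
      simp only [Subgroup.coe_inv, inv_inv]
      group
  have hpow : ∀ a ∈ ΛN.map μ, a ^ (N.relIndex G) = 1 := by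
    rintro _ ⟨lam, hlam, rfl⟩
    rw [← map_pow]
    have h1 : lam ^ (N.relIndex G) = 1 := by
      apply MonoidHom.ext
      intro g
      rw [MonoidHom.pow_apply, MonoidHom.one_apply, ← map_pow]
      apply (hΛ lam).1 hlam
      have h2 : g ^ (N.subgroupOf G).index ∈ N.subgroupOf G := Subgroup.pow_index_mem _ g
      exact Subgroup.mem_subgroupOf.1 h2
    rw [h1, map_one]
  have hkerS : N.subgroupOf S ≤ αS.ker := by
    intro x hx
    rw [MonoidHom.mem_ker]
    apply Equiv.ext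
    intro φ
    apply Subtype.ext
    funext g
    rw [hαS]
    show φ.1 _ = φ.1 g
    have hcl := isClassFunction_of_irr φ.2
    have hxN : (x : Γ) ∈ N := Subgroup.mem_subgroupOf.1 hx
    have h2 := hcl g (⟨(x : Γ), hNG hxN⟩⁻¹ : G)
    rw [← h2]
    refine congrArg φ.1 (Subtype.ext ?_)
    simp
  have hcardB : Nat.card αS.range ∣ N.relIndex S := by
    rw [← Subgroup.index_ker]
    exact Subgroup.index_dvd_of_le hkerS
  have hcop' : (Nat.card (ΛN.map μ)).Coprime (Nat.card αS.range) := by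
    apply Nat.Coprime.coprime_dvd_right hcardB
    by_contra hnc
    obtain ⟨p, hp, hpA, hpS⟩ := Nat.Prime.not_coprime_iff_dvd.1 hnc
    haveI : Fact p.Prime := ⟨hp⟩
    obtain ⟨a, ha⟩ := exists_prime_orderOf_dvd_card' p hpA
    have h1 : (a : Equiv.Perm (Cfsg.IrrCharacter G)) ^ (N.relIndex G) = 1 := hpow a a.2
    have h2 : a ^ (N.relIndex G) = 1 := Subtype.ext h1
    have h3 : p ∣ N.relIndex G := by rw [← ha]; exact orderOf_dvd_of_pow_eq_one h2
    exact hp.one_lt.ne' (Nat.eq_one_of_dvd_coprimes hcop h3 hpS)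
  have hsolv : Group.IsSolvable (ΛN.map μ) ∨ Group.IsSolvable αS.range := by
    left
    apply isSolvable_of_comm
    intro a b
    obtain ⟨l₁, -, h₁⟩ := a.2
    obtain ⟨l₂, -, h₂⟩ := b.2
    apply Subtype.ext
    show (a : Equiv.Perm (Cfsg.IrrCharacter G)) * b = b * a
    rw [← h₁, ← h₂, ← map_mul, ← map_mul]
    exact congrArg μ (mul_comm l₁ l₂)
  have htrans : ∀ b ∈ αS.range, ∃ a ∈ ΛN.map μ, b • χ₀ = a • χ₀ := by
    rintro _ ⟨s, rfl⟩
    have hover : Cfsg.classInner (fun n : N => (αS s χ₀).1 ⟨n, hNG n.2⟩) θ ≠ 0 := by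
      obtain ⟨σN, hσN, -⟩ := irrAct_comp N S hNS s
      have e1 : (fun n : N => (αS s χ₀).1 ⟨n, hNG n.2⟩) =
          (fun n : N => χ₀.1 ⟨n, hNG n.2⟩) ∘ σN := by
        funext n
        rw [hαS]
        show χ₀.1 _ = χ₀.1 ⟨(σN n : N), hNG (σN n).2⟩
        refine congrArg χ₀.1 (Subtype.ext ?_)
        exact (hσN n).symm
      have e2 : θ ∘ σN = θ := by
        funext n
        show θ (σN n) = θ n
        apply hθS (s : Γ)⁻¹ (S.inv_mem s.2) n (σN n)
        rw [hσN, inv_inv]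
      rw [e1]
      have e3 := classInner_comp_equiv σN (fun n : N => χ₀.1 ⟨n, hNG n.2⟩) θ
      rw [e2] at e3
      rw [e3]
      exact hne₀'
    have c0 : Cfsg.classInner (fun x : N.subgroupOf G => χ₀.1 x) θ' ≠ 0 := by
      rw [hconv]; exact hne₀'
    have c1 : Cfsg.classInner (fun x : N.subgroupOf G => (αS s χ₀).1 x) θ' ≠ 0 := by
      rw [hconv]; exact hover
    obtain ⟨lam, hlamN, hlam⟩ := ab_transitive (N.subgroupOf G)
      (fun g h => by rw [Subgroup.mem_subgroupOf]; exact hab g g.2 h h.2) θ' hθ' χ₀.2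
      (αS s χ₀).2 c0 c1
    refine ⟨μ lam, ⟨lam, ?_, rfl⟩, ?_⟩
    · rw [SetLike.mem_coe, hΛ]
      intro x hx
      exact hlamN x (Subgroup.mem_subgroupOf.2 hx)
    · apply Subtype.ext
      funext g
      show (αS s χ₀).1 g = (μ lam χ₀).1 g
      rw [hμ, congrFun hlam g]
  obtain ⟨a, ha, hfix⟩ := glaub_lemma' (ΛN.map μ) αS.range hnormal hcop' hsolv χ₀ htrans
  obtain ⟨lam, hlam, rfl⟩ := ha
  refine ⟨(μ lam χ₀).1, (μ lam χ₀).2, ?_, ?_⟩
  · have e : (fun n : N => (μ lam χ₀).1 ⟨n, hNG n.2⟩) = fun n : N => χ₀.1 ⟨n, hNG n.2⟩ := by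
      funext n
      rw [hμ, (hΛ lam).1 hlam ⟨n, hNG n.2⟩ n.2]
      simp
    rw [e]; exact hne₀'
  · intro s hs g g' hgg'
    have h := hfix (αS ⟨s, hs⟩) ⟨⟨s, hs⟩, rfl⟩
    have h2 : (αS ⟨s, hs⟩ (μ lam χ₀)).1 g' = (μ lam χ₀).1 g' :=
      congrFun (congrArg Subtype.val h) g'
    rw [← h2, hαS]
    refine congrArg (μ lam χ₀).1 (Subtype.ext ?_)
    show s⁻¹ * (g' : Γ) * s = g
    rw [hgg']; group

/-- an invariant irreducible character of a normal subgroup with solvable quotient lies under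
an invariant irreducible character, when the operator group acts coprimely on the quotient -/
theorem solv_over {Γ : Type u} [Group Γ] [Finite Γ] (S : Subgroup Γ) :
    ∀ (k : ℕ) (G N : Subgroup Γ) [Fintype G] [Fintype N] (hNG : N ≤ G)
      [hNn : (N.subgroupOf G).Normal], N.relIndex G = k →
      (∀ s ∈ S, ∀ g ∈ G, s * g * s⁻¹ ∈ G) → (∀ s ∈ S, ∀ n ∈ N, s * n * s⁻¹ ∈ N) →
      (N.relIndex G).Coprime (N.relIndex S) → Group.IsSolvable (G ⧸ N.subgroupOf G) →
      ∀ θ : N → ℂ, Cfsg.IsIrrCharacter N θ → ChInv N S θ →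
      ∃ χ : G → ℂ, Cfsg.IsIrrCharacter G χ ∧
        Cfsg.classInner (fun n : N => χ ⟨n, hNG n.2⟩) θ ≠ 0 ∧ ChInv G S χ := by
  classical
  intro k
  induction k using Nat.strong_induction_on with
  | _ k ih =>
    intro G N instG instN hNG hNn hk hnorm hNS hcop hsolv θ hθ hθS
    have hNnG : ∀ g ∈ G, ∀ n ∈ N, g * n * g⁻¹ ∈ N := by
      intro g hg n hn
      have h := hNn.conj_mem (⟨n, hNG hn⟩ : G) (Subgroup.mem_subgroupOf.2 hn) ⟨g, hg⟩
      exact Subgroup.mem_subgroupOf.1 h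
    by_cases hab : ∀ g ∈ G, ∀ h ∈ G, g * h * g⁻¹ * h⁻¹ ∈ N
    · exact ab_step G S N hnorm hNG hNnG hNS hab hcop θ hθ hθS
    · obtain ⟨M, hMdef⟩ : ∃ M : Subgroup Γ, M = N ⊔ ⁅G, G⁆ := ⟨_, rfl⟩
      have hNM : N ≤ M := by rw [hMdef]; exact le_sup_left
      have hcM : ⁅G, G⁆ ≤ M := by rw [hMdef]; exact le_sup_right
      have hcG : ⁅G, G⁆ ≤ G := by
        rw [Subgroup.commutator_le]
        intro g₁ h₁ g₂ h₂
        rw [commutatorElement_def]
        exact G.mul_mem (G.mul_mem (G.mul_mem h₁ h₂) (G.inv_mem h₁)) (G.inv_mem h₂)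
      have hMG : M ≤ G := by rw [hMdef]; exact sup_le hNG hcG
      have hcomm_mem : ∀ g ∈ G, ∀ h ∈ G, g * h * g⁻¹ * h⁻¹ ∈ M := by
        intro g hg h hh
        apply hcM
        have := Subgroup.commutator_mem_commutator hg hh
        rwa [commutatorElement_def] at this
      have hMS : ∀ s ∈ S, ∀ x ∈ M, s * x * s⁻¹ ∈ M := by
        intro s hs
        have hle : N ⊔ ⁅G, G⁆ ≤ M.comap (MulAut.conj s).toMonoidHom := by
          apply sup_le
          · intro n hn
            rw [Subgroup.mem_comap]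
            exact hNM (hNS s hs n hn)
          · rw [Subgroup.commutator_le]
            intro g₁ h₁ g₂ h₂
            rw [Subgroup.mem_comap]
            apply hcM
            show (MulAut.conj s) ⁅g₁, g₂⁆ ∈ ⁅G, G⁆
            rw [map_commutatorElement]
            exact Subgroup.commutator_mem_commutator (hnorm s hs g₁ h₁) (hnorm s hs g₂ h₂)
        intro x hx
        rw [hMdef] at hx
        exact hle hx
      have hMnG : ∀ g ∈ G, ∀ x ∈ M, g * x * g⁻¹ ∈ M := by
        intro g hg x hx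
        have h1 : g * x * g⁻¹ = (g * x * g⁻¹ * x⁻¹) * x := by group
        rw [h1]
        exact M.mul_mem (hcomm_mem g hg x (hMG hx)) hx
      -- M is a proper subgroup of G
      have hMne : ¬ G ≤ M := by
        intro hGM
        haveI := hsolv
        haveI : Nontrivial (G ⧸ N.subgroupOf G) := by
          by_contra hnt
          rw [not_nontrivial_iff_subsingleton] at hnt
          apply hab
          intro g hg h hh
          have hmem : g * h * g⁻¹ * h⁻¹ ∈ G :=
            G.mul_mem (G.mul_mem (G.mul_mem hg hh) (G.inv_mem hg)) (G.inv_mem hh)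
          have h1 : ((⟨g * h * g⁻¹ * h⁻¹, hmem⟩ : G) : G ⧸ N.subgroupOf G) = 1 :=
            Subsingleton.elim _ _
          rw [QuotientGroup.eq_one_iff] at h1
          exact Subgroup.mem_subgroupOf.1 h1
        have hlt := IsSolvable.commutator_lt_top_of_nontrivial (G ⧸ N.subgroupOf G)
        apply hlt.ne
        have hMP : N ⊔ ⁅G, G⁆ ≤ ((commutator (G ⧸ N.subgroupOf G)).comap
            (QuotientGroup.mk' (N.subgroupOf G))).map G.subtype := by
          apply sup_le
          · intro n hn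
            refine Subgroup.mem_map.2 ⟨⟨n, hNG hn⟩, ?_, rfl⟩
            rw [Subgroup.mem_comap]
            have h1 : QuotientGroup.mk' (N.subgroupOf G) ⟨n, hNG hn⟩ = 1 :=
              (QuotientGroup.eq_one_iff _).2 (Subgroup.mem_subgroupOf.2 hn)
            rw [h1]
            exact Subgroup.one_mem _
          · rw [Subgroup.commutator_le]
            intro g₁ h₁ g₂ h₂
            refine Subgroup.mem_map.2 ⟨⁅(⟨g₁, h₁⟩ : G), (⟨g₂, h₂⟩ : G)⁆, ?_, rfl⟩
            rw [Subgroup.mem_comap, map_commutatorElement, commutator_def]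
            exact Subgroup.commutator_mem_commutator (Subgroup.mem_top _) (Subgroup.mem_top _)
        rw [eq_top_iff]
        intro q _
        obtain ⟨g, rfl⟩ := QuotientGroup.mk'_surjective (N.subgroupOf G) q
        have h1 : (g : Γ) ∈ N ⊔ ⁅G, G⁆ := by rw [← hMdef]; exact hGM g.2
        obtain ⟨y, hy, hyg⟩ := Subgroup.mem_map.1 (hMP h1)
        have h2 : y = g := Subtype.ext hyg
        rw [h2, Subgroup.mem_comap] at hy
        exact hy
      have hidx : N.relIndex M * M.relIndex G = N.relIndex G :=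
        Subgroup.relIndex_mul_relIndex N M G hNM hMG
      have hMG1 : M.relIndex G ≠ 1 := by
        rw [Ne, Subgroup.relIndex_eq_one]; exact hMne
      have hpos : N.relIndex G ≠ 0 := by
        show (N.subgroupOf G).index ≠ 0
        exact Subgroup.index_ne_zero_of_finite
      have hlt : N.relIndex M < k := by
        rw [← hk, ← hidx]
        have h0 : N.relIndex M ≠ 0 := fun h => hpos (by rw [← hidx, h, zero_mul])
        have h0' : M.relIndex G ≠ 0 := fun h => hpos (by rw [← hidx, h, mul_zero])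
        have h1 : 2 ≤ M.relIndex G := by omega
        nlinarith [Nat.pos_of_ne_zero h0]
      haveI : Fintype M := Fintype.ofFinite _
      haveI hNM' : (N.subgroupOf M).Normal := by
        constructor
        intro n hn g
        rw [Subgroup.mem_subgroupOf] at hn ⊢
        exact hNnG g (hMG g.2) n hn
      have hcopM : (N.relIndex M).Coprime (N.relIndex S) :=
        Nat.Coprime.coprime_dvd_left (Dvd.intro _ hidx) hcop
      have hsolvM : Group.IsSolvable (M ⧸ N.subgroupOf M) := by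
        haveI := hsolv
        have hle : N.subgroupOf M ≤ (N.subgroupOf G).comap (Subgroup.inclusion hMG) := by
          intro x hx
          rw [Subgroup.mem_comap, Subgroup.mem_subgroupOf]
          exact Subgroup.mem_subgroupOf.1 hx
        have hf : Function.Injective
            (QuotientGroup.map (N.subgroupOf M) (N.subgroupOf G) (Subgroup.inclusion hMG) hle) := by
          rw [injective_iff_map_eq_one]
          intro q
          induction q using QuotientGroup.induction_on with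
          | H x =>
            intro hx
            rw [QuotientGroup.map_mk, QuotientGroup.eq_one_iff] at hx
            rw [QuotientGroup.eq_one_iff]
            exact Subgroup.mem_subgroupOf.2 (Subgroup.mem_subgroupOf.1 hx)
        exact solvable_of_solvable_injective hf
      obtain ⟨φ, hφ, hφθ, hφS⟩ := ih (N.relIndex M) hlt M N hNM rfl hMS hNS hcopM hsolvM θ hθ hθS
      have hcopGM : (M.relIndex G).Coprime (M.relIndex S) :=
        Nat.Coprime.coprime_dvd_left (Dvd.intro_left _ hidx)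
          (Nat.Coprime.coprime_dvd_right (Subgroup.relIndex_dvd_of_le_left S hNM) hcop)
      obtain ⟨χ, hχ, hχφ, hχS⟩ := ab_step G S M hnorm hMG hMnG hMS hcomm_mem hcopGM φ hφ hφS
      exact ⟨χ, hχ, over_trans G M N hMG hNM χ (isCharacter_of_isIrrCharacter hχ) φ hφ θ hθ
        hχφ hφθ, hχS⟩

end Cfsg.Agent.Lib.Helper7
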