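import Mathlib
import Cfsg.Agent.Lib.Helper7.GlaubAb
import Cfsg.Agent.Lib.Helper7.ExtGrp2
import Cfsg.Agent.Lib.Lead.CharCentral
import Cfsg.Agent.S0865

/-!
# Invariant characters above invariant characters: the non-split case

Reduction to a linear character through the finite group of intertwining pairs, and the
linear case through a quotient and the coprime case.
-/

set_option autoImplicit false

namespace Cfsg.Agent.Lib.Helper7

open Cfsg.Agent.Lib.Lead
open scoped ComplexConjugate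

universe u

/-- inner products are unchanged by inflation along a surjective homomorphism -/
theorem classInner_comp_surj {A B : Type*} [Group A] [Group B] [Fintype A] [Fintype B]
    (f : A →* B) (hf : Function.Surjective f) (φ ψ : B → ℂ) :
    Cfsg.classInner (φ ∘ f) (ψ ∘ f) = Cfsg.classInner φ ψ := by
  classical
  have key : ∀ F : B → ℂ, ∑ a : A, F (f a) =
      ((Finset.univ.filter (fun a : A => f a = 1)).card : ℂ) * ∑ b : B, F b := by
    intro F
    rw [← Finset.sum_fiberwise (Finset.univ : Finset A) (fun a : A => f a) (fun a => F (f a)),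
      Finset.mul_sum]
    apply Finset.sum_congr rfl
    intro b _
    have h1 : ∀ a ∈ Finset.univ.filter (fun a : A => f a = b), F (f a) = F b := by
      intro a ha
      rw [(Finset.mem_filter.1 ha).2]
    rw [Finset.sum_congr rfl h1, Finset.sum_const, nsmul_eq_mul]
    congr 2
    exact MonoidHom.card_fiber_eq_of_mem_range f (hf b) (hf 1)
  have hcard : (Nat.card A : ℂ) =
      ((Finset.univ.filter (fun a : A => f a = 1)).card : ℂ) * (Nat.card B : ℂ) := by
    have h := key (fun _ => 1)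
    simp only [Finset.sum_const, Finset.card_univ, nsmul_eq_mul, mul_one] at h
    rw [Nat.card_eq_fintype_card, Nat.card_eq_fintype_card]
    exact h
  unfold Cfsg.classInner
  have h2 := key (fun b => φ b * conj (ψ b))
  have hA : (Nat.card A : ℂ) ≠ 0 := by exact_mod_cast Nat.card_pos.ne'
  have hB : (Nat.card B : ℂ) ≠ 0 := by exact_mod_cast Nat.card_pos.ne'
  have hc : ((Finset.univ.filter (fun a : A => f a = 1)).card : ℂ) ≠ 0 := by
    intro h0
    rw [h0, zero_mul] at hcard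
    exact hA hcard
  show (Nat.card A : ℂ)⁻¹ * ∑ a : A, φ (f a) * conj (ψ (f a)) = _
  rw [h2, hcard]
  field_simp

/-- an irreducible character over an invariant linear character of a normal subgroup is a
multiple of it there -/
theorem clifford_inv_linear {G : Type u} [Group G] [Fintype G] (N : Subgroup G) [hN : N.Normal]
    [Fintype N] {χ : G → ℂ} (hχ : Cfsg.IsIrrCharacter G χ) (φ : N → ℂ)
    (hφ : Cfsg.IsIrrCharacter N φ) (hφ1 : φ 1 = 1)
    (hinv : ∀ (g : G) (n : N), φ ⟨g * n * g⁻¹, hN.conj_mem n n.2 g⟩ = φ n)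
    (hconst : Cfsg.classInner (fun n : N => χ n) φ ≠ 0) :
    ∀ n : N, χ n = χ 1 * φ n := by
  have hcl := clifford_char N hN χ hχ φ hφ hconst
  have hset : {ψ' : N → ℂ | ∃ g : G, ψ' = fun n : N =>
      φ ⟨g * n * g⁻¹, hN.conj_mem n n.2 g⟩} = {φ} := by
    ext ψ'
    constructor
    · rintro ⟨g, rfl⟩
      show (fun n : N => φ ⟨g * n * g⁻¹, hN.conj_mem n n.2 g⟩) = φ
      funext n
      exact hinv g n
    · intro h
      refine ⟨1, ?_⟩
      rw [Set.mem_singleton_iff] at h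
      rw [h]
      funext n
      exact (hinv 1 n).symm
  rw [hset, finsum_mem_singleton] at hcl
  intro n
  have e1 := congrFun hcl n
  have e2 := congrFun hcl 1
  simp only [Pi.smul_apply, smul_eq_mul] at e1 e2
  rw [hφ1, mul_one] at e2
  have e3 : χ ((1 : N) : G) = χ 1 := rfl
  rw [← e3, e2]
  exact e1

/-- splitting a number into a part coprime to `m` and a part built from primes dividing `m` -/
theorem split_coprime (m : ℕ) : ∀ o : ℕ, 0 < o → ∃ a b : ℕ, o = a * b ∧ Nat.Coprime b m ∧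
    Nat.Coprime a b ∧ ∀ r : ℕ, Nat.Coprime r m → Nat.Coprime r a := by
  intro o
  induction o using Nat.strong_induction_on with
  | _ o ih =>
    intro ho
    by_cases hc : Nat.Coprime o m
    · exact ⟨1, o, (one_mul o).symm, hc, Nat.coprime_one_left o, fun r _ => Nat.coprime_one_right r⟩
    · obtain ⟨p, hp, hpo, hpm⟩ := Nat.Prime.not_coprime_iff_dvd.1 hc
      obtain ⟨o', rfl⟩ := hpo
      have ho' : 0 < o' := by
        rcases Nat.eq_zero_or_pos o' with h | h
        · rw [h, mul_zero] at ho; exact absurd ho (lt_irrefl 0)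
        · exact h
      have hlt : o' < p * o' := by nlinarith [hp.two_le]
      obtain ⟨a, b, hab, hb, hcab, hr⟩ := ih o' hlt ho'
      refine ⟨p * a, b, by rw [hab]; ring, hb, ?_, ?_⟩
      · exact Nat.Coprime.mul_left (Nat.Coprime.coprime_dvd_right hpm hb).symm hcab
      · intro r hrm
        exact Nat.Coprime.mul_right (Nat.Coprime.coprime_dvd_right hpm hrm) (hr r hrm)

/-- the linear case, for a linear character of order prime to the index of `G` -/
theorem lin_over_cop {E : Type u} [Group E] [Finite E] (G D : Subgroup E) [hG : G.Normal]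
    [hD : D.Normal] (hDG : D ≤ G) (hcop : (G.index).Coprime (D.relIndex G))
    (hsolv : Group.IsSolvable (E ⧸ G)) (ν : D →* ℂˣ)
    (hν : ∀ (x : E) (y : D), ν ⟨x * y * x⁻¹, hD.conj_mem y y.2 x⟩ = ν y)
    (b : ℕ) (hb0 : 0 < b) (hb : ν ^ b = 1) (hbm : Nat.Coprime b G.index) :
    ∃ β : G → ℂ, Cfsg.IsIrrCharacter G β ∧ (∀ y : D, β ⟨y, hDG y.2⟩ = β 1 * (ν y : ℂ)) ∧
      ∀ (x : E) (g : G), β ⟨x * g * x⁻¹, hG.conj_mem g g.2 x⟩ = β g := by
  classical
  haveI : Fintype E := Fintype.ofFinite E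
  haveI : Fintype G := Fintype.ofFinite G
  haveI : Fintype D := Fintype.ofFinite D
  -- the kernel
  obtain ⟨L, hLdef⟩ : ∃ L : Subgroup E, L = ν.ker.map D.subtype := ⟨_, rfl⟩
  have hLmem : ∀ x : E, x ∈ L ↔ ∃ h : x ∈ D, ν ⟨x, h⟩ = 1 := by
    intro x
    rw [hLdef, Subgroup.mem_map]
    constructor
    · rintro ⟨y, hy, rfl⟩
      exact ⟨y.2, MonoidHom.mem_ker.1 hy⟩
    · rintro ⟨h, h1⟩
      exact ⟨⟨x, h⟩, MonoidHom.mem_ker.2 h1, rfl⟩
  have hLD : L ≤ D := fun x hx => ((hLmem x).1 hx).1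
  haveI hLn : L.Normal := by
    constructor
    intro x hx e
    obtain ⟨h, h1⟩ := (hLmem x).1 hx
    rw [hLmem]
    refine ⟨hD.conj_mem x h e, ?_⟩
    rw [← h1]
    exact hν e ⟨x, h⟩
  have hq : Function.Surjective (QuotientGroup.mk' L) := QuotientGroup.mk'_surjective L
  have hqker : (QuotientGroup.mk' L).ker = L := QuotientGroup.ker_mk' L
  haveI hGbn : (G.map (QuotientGroup.mk' L)).Normal := hG.map _ hq
  haveI hDbn : (D.map (QuotientGroup.mk' L)).Normal := hD.map _ hq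
  have hDbGb : D.map (QuotientGroup.mk' L) ≤ G.map (QuotientGroup.mk' L) := Subgroup.map_mono hDG
  haveI : Fintype (G.map (QuotientGroup.mk' L)) := Fintype.ofFinite _
  haveI : Fintype (D.map (QuotientGroup.mk' L)) := Fintype.ofFinite _
  -- cardinalities
  have hidx : (G.map (QuotientGroup.mk' L)).index = G.index :=
    Subgroup.index_map_eq G hq (by rw [hqker]; exact hLD.trans hDG)
  have hcardG : Nat.card (G.map (QuotientGroup.mk' L)) = L.relIndex D * D.relIndex G := by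
    rw [← Subgroup.relIndex_ker, hqker]
    exact (Subgroup.relIndex_mul_relIndex L D G hLD hDG).symm
  have hLDb : L.relIndex D ∣ b := by
    have h1 : L.subgroupOf D = ν.ker := by
      ext y
      rw [Subgroup.mem_subgroupOf, hLmem, MonoidHom.mem_ker]
      constructor
      · rintro ⟨h, h1⟩; exact h1
      · intro h1; exact ⟨y.2, h1⟩
    have h2 : L.relIndex D = Nat.card ν.range := by
      show (L.subgroupOf D).index = _
      rw [h1, Subgroup.index_ker]
    rw [h2]
    haveI : NeZero b := ⟨hb0.ne'⟩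
    have h3 : ν.range ≤ rootsOfUnity b ℂ := by
      rintro _ ⟨y, rfl⟩
      rw [mem_rootsOfUnity]
      have h4 := DFunLike.congr_fun hb y
      rw [MonoidHom.pow_apply, MonoidHom.one_apply] at h4
      exact h4
    have h5 := Subgroup.card_dvd_of_le h3
    rw [Complex.card_rootsOfUnity] at h5
    exact h5
  have hcopG : (Nat.card (G.map (QuotientGroup.mk' L))).Coprime G.index := by
    rw [hcardG]
    exact Nat.Coprime.mul_left (Nat.Coprime.coprime_dvd_left hLDb hbm) hcop.symm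
  -- the complement
  obtain ⟨Sb, hSb⟩ := Subgroup.exists_right_complement'_of_coprime
    (N := G.map (QuotientGroup.mk' L)) (by rw [hidx]; exact hcopG)
  have hSbcard : Nat.card Sb = G.index := by
    have h1 := hSb.card_mul_card
    have h2 := (G.map (QuotientGroup.mk' L)).card_mul_index
    rw [hidx] at h2
    have h3 : 0 < Nat.card (G.map (QuotientGroup.mk' L)) := Nat.card_pos
    have h4 : Nat.card (G.map (QuotientGroup.mk' L)) * Nat.card Sb =
        Nat.card (G.map (QuotientGroup.mk' L)) * G.index := by rw [h1, h2]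
    exact Nat.eq_of_mul_eq_mul_left h3 h4
  have hcopS : (Nat.card (G.map (QuotientGroup.mk' L))).Coprime (Nat.card Sb) := by
    rw [hSbcard]; exact hcopG
  haveI hSbsolv : Group.IsSolvable Sb := by
    haveI := hsolv
    have hle : G ≤ (G.map (QuotientGroup.mk' L)).comap (QuotientGroup.mk' L) :=
      Subgroup.le_comap_map _ _
    have hf1 : Function.Surjective (QuotientGroup.map G (G.map (QuotientGroup.mk' L))
        (QuotientGroup.mk' L) hle) := by
      intro y
      induction y using QuotientGroup.induction_on with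
      | H z =>
        obtain ⟨x, rfl⟩ := hq z
        exact ⟨(x : E ⧸ G), rfl⟩
    haveI : Group.IsSolvable ((E ⧸ L) ⧸ G.map (QuotientGroup.mk' L)) := solvable_of_surjective hf1
    have hf2 : Function.Injective
        ((QuotientGroup.mk' (G.map (QuotientGroup.mk' L))).comp Sb.subtype) := by
      rw [injective_iff_map_eq_one]
      intro s hs
      have h1 : (s : E ⧸ L) ∈ G.map (QuotientGroup.mk' L) := by
        rw [MonoidHom.comp_apply] at hs
        exact (QuotientGroup.eq_one_iff _).1 hs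
      have h2 : (s : E ⧸ L) ∈ G.map (QuotientGroup.mk' L) ⊓ Sb := ⟨h1, s.2⟩
      rw [hSb.disjoint.eq_bot] at h2
      exact Subtype.ext (Subgroup.mem_bot.1 h2)
    exact solvable_of_solvable_injective hf2
  -- the character on the quotient
  have hpD : Function.Surjective ((QuotientGroup.mk' L).subgroupMap D) :=
    MonoidHom.subgroupMap_surjective _ D
  have hkerD : ((QuotientGroup.mk' L).subgroupMap D).ker ≤ ν.ker := by
    intro y hy
    rw [MonoidHom.mem_ker] at hy ⊢
    have h1 : QuotientGroup.mk' L (y : E) = 1 := congrArg Subtype.val hy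
    have h2 : (y : E) ∈ L := by rw [← hqker]; exact MonoidHom.mem_ker.2 h1
    obtain ⟨h, h3⟩ := (hLmem _).1 h2
    exact h3
  obtain ⟨νb, hνb⟩ : ∃ νb : D.map (QuotientGroup.mk' L) →* ℂˣ,
      ∀ y : D, νb ((QuotientGroup.mk' L).subgroupMap D y) = ν y :=
    ⟨(((QuotientGroup.mk' L).subgroupMap D).liftOfRightInverse (Function.surjInv hpD)
      (Function.rightInverse_surjInv hpD)) ⟨ν, hkerD⟩,
      fun y => MonoidHom.liftOfRightInverse_comp_apply _ _ _ _ y⟩
  have hθb : Cfsg.IsIrrCharacter (D.map (QuotientGroup.mk' L)) (fun d => (νb d : ℂ)) := by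
    have h := isIrr_twist νb (isIrrCharacter_one (D.map (QuotientGroup.mk' L)))
    simpa using h
  have hChInv : ChInv (D.map (QuotientGroup.mk' L)) Sb (fun d => (νb d : ℂ)) := by
    intro s hs d d' hdd'
    obtain ⟨x, rfl⟩ := hq s
    obtain ⟨y, rfl⟩ := hpD d
    have h1 : d' = (QuotientGroup.mk' L).subgroupMap D ⟨x * y * x⁻¹, hD.conj_mem y y.2 x⟩ := by
      apply Subtype.ext
      rw [hdd']
      show _ = QuotientGroup.mk' L (x * y * x⁻¹)
      rw [map_mul, map_mul, map_inv]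
      rfl
    show (νb d' : ℂ) = (νb _ : ℂ)
    rw [h1, hνb, hνb, hν]
  obtain ⟨βb, hβb, hover, hS⟩ := over_solv Sb (Nat.card (G.map (QuotientGroup.mk' L)))
    (G.map (QuotientGroup.mk' L)) rfl (fun s _ g hg => hGbn.conj_mem g hg s) hcopS
    (D.map (QuotientGroup.mk' L)) hDbGb (fun g _ n hn => hDbn.conj_mem n hn g)
    (fun s _ n hn => hDbn.conj_mem n hn s) (fun d => (νb d : ℂ)) hθb hChInv
  have hpG : Function.Surjective ((QuotientGroup.mk' L).subgroupMap G) :=
    MonoidHom.subgroupMap_surjective _ G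
  have hβ : Cfsg.IsIrrCharacter G (βb ∘ (QuotientGroup.mk' L).subgroupMap G) :=
    isIrrCharacter_comp_surj _ hpG hβb
  refine ⟨βb ∘ (QuotientGroup.mk' L).subgroupMap G, hβ, ?_, ?_⟩
  · -- values on D
    haveI hD' : (D.subgroupOf G).Normal := hD.subgroupOf G
    haveI : Fintype (D.subgroupOf G) := Fintype.ofFinite _
    obtain ⟨p', hp'def⟩ : ∃ p' : D.subgroupOf G →* D.map (QuotientGroup.mk' L),
        p' = ((QuotientGroup.mk' L).subgroupMap D).comp
          (Subgroup.subgroupOfEquivOfLe hDG).toMonoidHom := ⟨_, rfl⟩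
    have hp' : Function.Surjective p' := by
      rw [hp'def]
      exact hpD.comp (Subgroup.subgroupOfEquivOfLe hDG).surjective
    have hp'val : ∀ y : D.subgroupOf G, ((p' y : D.map (QuotientGroup.mk' L)) : E ⧸ L) =
        QuotientGroup.mk' L ((y : G) : E) := by
      intro y; rw [hp'def]; rfl
    have e1 : (fun y : D.subgroupOf G => (βb ∘ (QuotientGroup.mk' L).subgroupMap G) y) =
        (fun d : D.map (QuotientGroup.mk' L) => βb ⟨d, hDbGb d.2⟩) ∘ p' := by
      funext y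
      show βb _ = βb _
      refine congrArg βb (Subtype.ext ?_)
      rw [hp'val]
      rfl
    have e2 : (fun y : D.subgroupOf G => ((ν ⟨(y : G), Subgroup.mem_subgroupOf.1 y.2⟩ : ℂˣ) : ℂ)) =
        (fun d : D.map (QuotientGroup.mk' L) => (νb d : ℂ)) ∘ p' := by
      funext y
      show _ = ((νb (p' y) : ℂˣ) : ℂ)
      have h1 : p' y = (QuotientGroup.mk' L).subgroupMap D
          ⟨(y : G), Subgroup.mem_subgroupOf.1 y.2⟩ := by rw [hp'def]; rfl
      rw [h1, hνb]
    have hφ' : Cfsg.IsIrrCharacter (D.subgroupOf G)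
        (fun y : D.subgroupOf G => ((ν ⟨(y : G), Subgroup.mem_subgroupOf.1 y.2⟩ : ℂˣ) : ℂ)) := by
      rw [e2]
      exact isIrrCharacter_comp_surj p' hp' hθb
    have hconst : Cfsg.classInner
        (fun y : D.subgroupOf G => (βb ∘ (QuotientGroup.mk' L).subgroupMap G) y)
        (fun y : D.subgroupOf G => ((ν ⟨(y : G), Subgroup.mem_subgroupOf.1 y.2⟩ : ℂˣ) : ℂ)) ≠ 0 := by
      rw [e1, e2, classInner_comp_surj p' hp']
      exact hover
    have hval := clifford_inv_linear (D.subgroupOf G) hβ _ hφ' (by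
        show ((ν ⟨((1 : D.subgroupOf G) : G), _⟩ : ℂˣ) : ℂ) = 1
        have h1 : (⟨(((1 : D.subgroupOf G) : G) : E), Subgroup.mem_subgroupOf.1
            (1 : D.subgroupOf G).2⟩ : D) = 1 := rfl
        rw [h1, map_one, Units.val_one]) (by
        intro g y
        show ((ν _ : ℂˣ) : ℂ) = ((ν _ : ℂˣ) : ℂ)
        have h1 := hν (g : E) ⟨(y : G), Subgroup.mem_subgroupOf.1 y.2⟩
        rw [← h1]
        rfl) hconst
    intro y
    exact hval ⟨⟨y, hDG y.2⟩, Subgroup.mem_subgroupOf.2 y.2⟩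
  · -- invariance
    intro x g
    obtain ⟨⟨gb, sb⟩, hgs, -⟩ := hSb.existsUnique (QuotientGroup.mk' L x)
    have hgs' : (gb : E ⧸ L) * (sb : E ⧸ L) = QuotientGroup.mk' L x := hgs
    have hcl := isClassFunction_of_irr hβb
    have hu : (sb : E ⧸ L) * QuotientGroup.mk' L (g : E) * (sb : E ⧸ L)⁻¹ ∈
        G.map (QuotientGroup.mk' L) :=
      hGbn.conj_mem _ (Subgroup.mem_map_of_mem _ g.2) _
    have h1 : βb ⟨_, hu⟩ = βb ((QuotientGroup.mk' L).subgroupMap G g) :=
      hS sb sb.2 ((QuotientGroup.mk' L).subgroupMap G g) ⟨_, hu⟩ rfl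
    have h2 : (QuotientGroup.mk' L).subgroupMap G ⟨x * g * x⁻¹, hG.conj_mem g g.2 x⟩ =
        gb * ⟨_, hu⟩ * gb⁻¹ := by
      apply Subtype.ext
      show QuotientGroup.mk' L (x * g * x⁻¹) =
        (gb : E ⧸ L) * ((sb : E ⧸ L) * QuotientGroup.mk' L (g : E) * (sb : E ⧸ L)⁻¹) *
          (gb : E ⧸ L)⁻¹
      rw [map_mul, map_mul, map_inv, ← hgs']
      group
    show βb _ = βb _
    rw [h2, hcl, h1]

/-- the linear case -/
theorem lin_over {E : Type u} [Group E] [Finite E] (G D : Subgroup E) [hG : G.Normal]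
    [hD : D.Normal] (hDG : D ≤ G) (hcop : (G.index).Coprime (D.relIndex G))
    (hsolv : Group.IsSolvable (E ⧸ G)) (ν : D →* ℂˣ)
    (hν : ∀ (x : E) (y : D), ν ⟨x * y * x⁻¹, hD.conj_mem y y.2 x⟩ = ν y) :
    ∃ β : G → ℂ, Cfsg.IsIrrCharacter G β ∧ (∀ y : D, β ⟨y, hDG y.2⟩ = β 1 * (ν y : ℂ)) ∧
      ∀ (x : E) (g : G), β ⟨x * g * x⁻¹, hG.conj_mem g g.2 x⟩ = β g := by
  classical
  haveI : Fintype E := Fintype.ofFinite E
  haveI : Fintype G := Fintype.ofFinite G
  haveI : Fintype D := Fintype.ofFinite D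
  have ho : 0 < orderOf ν := by
    have h1 : ν ^ Nat.card D = 1 := by
      apply MonoidHom.ext; intro x
      rw [MonoidHom.pow_apply, MonoidHom.one_apply, ← map_pow, pow_card_eq_one', map_one]
    exact orderOf_pos_iff.2 (isOfFinOrder_iff_pow_eq_one.2 ⟨Nat.card D, Nat.card_pos, h1⟩)
  obtain ⟨a, b, hab, hbm, hcab, hra⟩ := split_coprime G.index (orderOf ν) ho
  have hb0 : 0 < b := by
    rcases Nat.eq_zero_or_pos b with h | h
    · rw [h, mul_zero] at hab; exact absurd hab ho.ne'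
    · exact h
  obtain ⟨e₁, he₁a, he₁b⟩ := Nat.chineseRemainder hcab 1 0
  obtain ⟨e₂, he₂a, he₂b⟩ := Nat.chineseRemainder hcab 0 1
  have hmod : e₁ + e₂ ≡ 1 [MOD orderOf ν] := by
    rw [hab]
    exact (Nat.modEq_and_modEq_iff_modEq_mul hcab).1 ⟨he₁a.add he₂a, he₁b.add he₂b⟩
  have h12 : ν ^ e₁ * ν ^ e₂ = ν :=
    (pow_add ν e₁ e₂).symm.trans (((pow_eq_pow_iff_modEq (x := ν)).2 hmod).trans (pow_one ν))
  have hd1 : orderOf ν ∣ e₁ * a := by
    rw [hab, mul_comm e₁ a]
    exact Nat.mul_dvd_mul_left a ((Nat.modEq_zero_iff_dvd).1 he₁b)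
  have hν₁a : (ν ^ e₁) ^ a = 1 :=
    (pow_mul ν e₁ a).symm.trans (orderOf_dvd_iff_pow_eq_one.1 hd1)
  have hd2 : orderOf ν ∣ e₂ * b := by
    rw [hab]
    exact Nat.mul_dvd_mul ((Nat.modEq_zero_iff_dvd).1 he₂a) (dvd_refl b)
  have hν₂b : (ν ^ e₂) ^ b = 1 :=
    (pow_mul ν e₂ b).symm.trans (orderOf_dvd_iff_pow_eq_one.1 hd2)
  have hνpow : ∀ (k : ℕ) (x : E) (y : D),
      (ν ^ k) ⟨x * y * x⁻¹, hD.conj_mem y y.2 x⟩ = (ν ^ k) y := by
    intro k x y
    rw [MonoidHom.pow_apply, MonoidHom.pow_apply, hν]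
  -- Step 2: the part of order prime to the index
  obtain ⟨β₂, hβ₂, hβ₂D, hβ₂inv⟩ := lin_over_cop G D hDG hcop hsolv (ν ^ e₂) (hνpow e₂) b hb0
    hν₂b hbm
  -- Step 1: the other part extends
  haveI hD' : (D.subgroupOf G).Normal := hD.subgroupOf G
  obtain ⟨ν₁', hν₁'def⟩ : ∃ ν₁' : D.subgroupOf G →* ℂˣ,
      ν₁' = (ν ^ e₁).comp (Subgroup.subgroupOfEquivOfLe hDG).toMonoidHom := ⟨_, rfl⟩
  have hν₁'val : ∀ y : D.subgroupOf G,
      ν₁' y = (ν ^ e₁) ⟨(y : G), Subgroup.mem_subgroupOf.1 y.2⟩ := by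
    intro y; rw [hν₁'def]; rfl
  have hlamc : Cfsg.IsCharacter (D.subgroupOf G) (fun y => ((ν₁' y : ℂˣ) : ℂ)) := by
    have h := isIrr_twist ν₁' (isIrrCharacter_one (D.subgroupOf G))
    have h2 : Cfsg.IsIrrCharacter (D.subgroupOf G) (fun y => ((ν₁' y : ℂˣ) : ℂ)) := by
      simpa using h
    exact isCharacter_of_isIrrCharacter h2
  have hlam1 : (fun y : D.subgroupOf G => ((ν₁' y : ℂˣ) : ℂ)) 1 = 1 := by
    show ((ν₁' 1 : ℂˣ) : ℂ) = 1
    rw [map_one, Units.val_one]
  have hinv' : ∀ (g : G) (y : D.subgroupOf G),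
      (fun y : D.subgroupOf G => ((ν₁' y : ℂˣ) : ℂ))
        ⟨g * y * g⁻¹, hD'.conj_mem (y : G) y.2 g⟩ =
      (fun y : D.subgroupOf G => ((ν₁' y : ℂˣ) : ℂ)) y := by
    intro g y
    show ((ν₁' _ : ℂˣ) : ℂ) = ((ν₁' y : ℂˣ) : ℂ)
    rw [hν₁'val, hν₁'val]
    have h1 := hνpow e₁ (g : E) ⟨(y : G), Subgroup.mem_subgroupOf.1 y.2⟩
    rw [← h1]
    rfl
  have hord : orderOf (fun y : D.subgroupOf G => ((ν₁' y : ℂˣ) : ℂ)) ∣ a := by
    rw [Cfsg.Agent.S0865.orderOf_fun]
    apply orderOf_dvd_of_pow_eq_one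
    apply MonoidHom.ext
    intro y
    rw [MonoidHom.pow_apply, MonoidHom.one_apply, hν₁'val, ← MonoidHom.pow_apply, hν₁a,
      MonoidHom.one_apply]
  have hcopS : Nat.Coprime (D.subgroupOf G).index
      (orderOf (fun y : D.subgroupOf G => ((ν₁' y : ℂˣ) : ℂ))) :=
    Nat.Coprime.coprime_dvd_right hord (hra _ hcop.symm)
  obtain ⟨μ, ⟨hμc, hμ1, hμext, hμord⟩, hμuniq⟩ := Cfsg.Agent.S0865.result (D.subgroupOf G)
    (fun y => ((ν₁' y : ℂˣ) : ℂ)) ⟨hlamc, hlam1⟩ hinv' hcopS
  have hμinv : ∀ (x : E) (g : G), μ ⟨x * g * x⁻¹, hG.conj_mem g g.2 x⟩ = μ g := by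
    intro x g
    have h1 : ∀ g ∈ G, x * g * x⁻¹ ∈ G := fun g hg => hG.conj_mem g hg x
    have h2 : ∀ g ∈ G, x⁻¹ * g * x ∈ G := fun g hg => by
      have := hG.conj_mem g hg x⁻¹
      rwa [inv_inv] at this
    have hμx : μ ∘ (gpConj G x h1 h2) = μ := by
      apply hμuniq
      · refine ⟨isCharacter_comp (gpConj G x h1 h2).toMonoidHom hμc, ?_⟩
        show μ (gpConj G x h1 h2 1) = 1
        rw [map_one, hμ1]
      · intro y
        show μ (gpConj G x h1 h2 (y : G)) = ((ν₁' y : ℂˣ) : ℂ)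
        have hmem : gpConj G x h1 h2 (y : G) ∈ D.subgroupOf G := by
          rw [Subgroup.mem_subgroupOf, gpConj_coe]
          exact hD.conj_mem _ (Subgroup.mem_subgroupOf.1 y.2) x
        have h3 := hμext ⟨_, hmem⟩
        rw [h3]
        show ((ν₁' _ : ℂˣ) : ℂ) = ((ν₁' y : ℂˣ) : ℂ)
        rw [hν₁'val, hν₁'val]
        have h4 := hνpow e₁ x ⟨(y : G), Subgroup.mem_subgroupOf.1 y.2⟩
        rw [← h4]
        rfl
      · have h5 : orderOf (μ ∘ (gpConj G x h1 h2)) = orderOf μ := by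
          rw [orderOf_eq_orderOf_iff]
          intro k
          constructor
          · intro h
            funext g
            have h6 := congrFun h ((gpConj G x h1 h2).symm g)
            simp only [Pi.pow_apply, Function.comp_apply, MulEquiv.apply_symm_apply,
              Pi.one_apply] at h6
            simpa using h6
          · intro h
            funext g
            have h6 := congrFun h (gpConj G x h1 h2 g)
            simpa using h6
        rw [h5, hμord]
        exact hcopS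
    have h7 := congrFun hμx g
    exact h7
  obtain ⟨lam₁, hlam₁⟩ := exists_hom_of_linear (isIrrCharacter_of_linear hμc hμ1) hμ1
  have hlam₁D : ∀ y : D, ((lam₁ ⟨y, hDG y.2⟩ : ℂˣ) : ℂ) = (((ν ^ e₁) y : ℂˣ) : ℂ) := by
    intro y
    have h1 := hμext ⟨⟨y, hDG y.2⟩, Subgroup.mem_subgroupOf.2 y.2⟩
    rw [hlam₁] at h1
    rw [hν₁'val] at h1
    exact h1
  refine ⟨fun g => (lam₁ g : ℂ) * β₂ g, isIrr_twist lam₁ hβ₂, ?_, ?_⟩
  · intro y
    show (lam₁ ⟨y, hDG y.2⟩ : ℂ) * β₂ ⟨y, hDG y.2⟩ = (lam₁ 1 : ℂ) * β₂ 1 * (ν y : ℂ)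
    rw [hlam₁D, hβ₂D, map_one, Units.val_one, one_mul]
    have h1 : (ν y : ℂ) = (((ν ^ e₁) y : ℂˣ) : ℂ) * (((ν ^ e₂) y : ℂˣ) : ℂ) := by
      rw [← Units.val_mul, ← MonoidHom.mul_apply, h12]
    rw [h1]
    ring
  · intro x g
    show (lam₁ _ : ℂ) * β₂ _ = (lam₁ g : ℂ) * β₂ g
    rw [hβ₂inv]
    congr 1
    have h1 := hμinv x g
    rw [hlam₁] at h1
    exact h1

/-- the finite central extension attached to an invariant irreducible representation -/
theorem exists_triple_data {Γ : Type u} [Group Γ] [Finite Γ] (N : Subgroup Γ) [hN : N.Normal]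
    {n : ℕ} (ρ : Representation ℂ N (Fin n → ℂ)) [ρ.IsIrreducible]
    (hinv : ∀ (g : Γ) (m : N), ρ.character (conjHom N g m) = ρ.character m) :
    ∃ (E : Type u) (_ : Group E) (_ : Finite E) (π : E →* Γ) (τ : E →* (Endn n)ˣ)
      (ι : N →* E),
      Function.Surjective π ∧ (∀ m : N, π (ι m) = m) ∧
      (∀ m : N, ((τ (ι m) : (Endn n)ˣ) : Endn n) = ρ m) ∧
      (∀ z x : E, π z = 1 → z * x = x * z) ∧
      (∀ (x : E) (m : N), ∃ m' : N, x * ι m * x⁻¹ = ι m') ∧
      ∃ lam : N.comap π →* ℂˣ,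
        (∀ y : N.comap π, ((τ (y : E) : (Endn n)ˣ) : Endn n) =
          (lam y : ℂ) • ρ ⟨π (y : E), y.2⟩) ∧
        ∀ (x : E) (y : N.comap π),
          lam ⟨x * y * x⁻¹, (hN.comap π).conj_mem (y : E) y.2 x⟩ = lam y := by
  classical
  have hn0 : 0 < n := by
    have h1 := finrank_pos_of_irr ρ
    rw [Module.finrank_fin_fun] at h1
    exact h1
  have hMpos : 0 < Nat.card N := Nat.card_pos
  have hM : ∀ m : N, LinearMap.det (ρ m) ^ Nat.card N = 1 := by
    intro m
    rw [← map_pow, ← map_pow, pow_card_eq_one', map_one, map_one]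
  obtain ⟨lam, hlam⟩ := exists_finLam N ρ (Nat.card N) hn0
  refine ⟨finGrp N ρ (Nat.card N), inferInstance, finGrp_finite N ρ hinv _ hMpos,
    finProj N ρ (Nat.card N), finRep N ρ (Nat.card N), finIncl N ρ (Nat.card N) hM,
    finProj_surj N ρ hinv _, fun m => finProj_incl N ρ _ hM m, fun m => finRep_incl N ρ _ hM m,
    ?_, ?_, lam, hlam, fun x y => finLam_inv N ρ _ hn0 lam hlam x y⟩
  · intro z x hz
    obtain ⟨c, hc, -⟩ := finGrp_ker_scalar N ρ (Nat.card N) z hz
    apply Subtype.ext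
    apply Subtype.ext
    apply Prod.ext
    · show finProj N ρ (Nat.card N) z * finProj N ρ (Nat.card N) x =
        finProj N ρ (Nat.card N) x * finProj N ρ (Nat.card N) z
      rw [hz, one_mul, mul_one]
    · show finRep N ρ (Nat.card N) z * finRep N ρ (Nat.card N) x =
        finRep N ρ (Nat.card N) x * finRep N ρ (Nat.card N) z
      apply Units.ext
      rw [Units.val_mul, Units.val_mul, hc, smul_mul_assoc, mul_smul_comm, one_mul, mul_one]
  · intro x m
    refine ⟨conjHom N (finProj N ρ (Nat.card N) x) m, ?_⟩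
    apply Subtype.ext
    exact liftIncl_conj N ρ x.1 m

/-- the non-split theorem when the top quotient is solvable -/
theorem nonsplit_solv_top {Γ : Type u} [Group Γ] [Finite Γ] (G N : Subgroup Γ) [hG : G.Normal]
    [hN : N.Normal] [Fintype G] [Fintype N] (hNG : N ≤ G)
    (hcop : (G.index).Coprime (N.relIndex G)) (hsolv : Group.IsSolvable (Γ ⧸ G))
    (θ : N → ℂ) (hθ : Cfsg.IsIrrCharacter N θ)
    (hinv : ∀ (x : Γ) (n : N), θ ⟨x * n * x⁻¹, hN.conj_mem n n.2 x⟩ = θ n) :
    ∃ χ : G → ℂ, Cfsg.IsIrrCharacter G χ ∧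
      Cfsg.classInner (fun n : N => χ ⟨n, hNG n.2⟩) θ ≠ 0 ∧
      ∀ (x : Γ) (g : G), χ ⟨x * g * x⁻¹, hG.conj_mem g g.2 x⟩ = χ g := by
  classical
  haveI : Fintype Γ := Fintype.ofFinite Γ
  have hθself := classInner_irr_self hθ
  obtain ⟨n, ρ, hρ, rfl⟩ := hθ
  haveI := hρ
  have hn0 : 0 < n := by
    have h1 := finrank_pos_of_irr ρ
    rw [Module.finrank_fin_fun] at h1
    exact h1
  obtain ⟨E, instE, instEf, π, τ, ι, hπ, hπι, hτι, hcent, hιn, lam, hlam, hlaminv⟩ :=
    exists_triple_data N ρ (fun g m => hinv g m)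
  haveI : Fintype E := Fintype.ofFinite E
  haveI hDn : (N.comap π).Normal := hN.comap π
  haveI hGn : (G.comap π).Normal := hG.comap π
  haveI : Fintype (G.comap π) := Fintype.ofFinite _
  have hDG : N.comap π ≤ G.comap π := Subgroup.comap_mono hNG
  have hidx : (G.comap π).index = G.index := Subgroup.index_comap_of_surjective G hπ
  have hrel : (N.comap π).relIndex (G.comap π) = N.relIndex G := by
    rw [Subgroup.relIndex_comap, Subgroup.map_comap_eq_self_of_surjective hπ]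
  have hsolvE : Group.IsSolvable (E ⧸ G.comap π) := by
    haveI := hsolv
    have hf : Function.Injective (QuotientGroup.map (G.comap π) G π (le_refl _)) := by
      rw [injective_iff_map_eq_one]
      intro q
      induction q using QuotientGroup.induction_on with
      | H x =>
        intro hx
        rw [QuotientGroup.map_mk, QuotientGroup.eq_one_iff] at hx
        rw [QuotientGroup.eq_one_iff]
        exact hx
    exact solvable_of_solvable_injective hf
  obtain ⟨β, hβ, hβD, hβinv⟩ := lin_over (G.comap π) (N.comap π) hDG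
    (by rw [hidx, hrel]; exact hcop) hsolvE lam⁻¹ (by
      intro x y
      rw [MonoidHom.inv_apply, MonoidHom.inv_apply, hlaminv])
  obtain ⟨dβ, hdβ0, hdβ⟩ := irr_one hβ
  have hβ10 : β 1 ≠ 0 := by rw [hdβ]; exact_mod_cast hdβ0
  -- membership facts
  have hιD : ∀ m : N, ι m ∈ N.comap π := by
    intro m
    rw [Subgroup.mem_comap, hπι]
    exact m.2
  have hlamι : ∀ m : N, lam ⟨ι m, hιD m⟩ = 1 := by
    intro m
    apply Units.ext
    apply smul_unit_cancel hn0 (MonoidHom.toHomUnits ρ m)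
    rw [MonoidHom.coe_toHomUnits, Units.val_one, one_smul]
    have h1 := hlam ⟨ι m, hιD m⟩
    have h2 : (⟨π (ι m), (hιD m)⟩ : N) = m := Subtype.ext (hπι m)
    rw [show (⟨π ((⟨ι m, hιD m⟩ : N.comap π) : E), (⟨ι m, hιD m⟩ : N.comap π).2⟩ : N) = m from h2,
      hτι] at h1
    exact h1.symm
  have hkerD : ∀ z : E, π z = 1 → z ∈ N.comap π := by
    intro z hz
    rw [Subgroup.mem_comap, hz]
    exact N.one_mem
  have hlamker : ∀ (z : E) (hz : π z = 1),
      ((τ z : (Endn n)ˣ) : Endn n) = (lam ⟨z, hkerD z hz⟩ : ℂ) • (1 : Endn n) := by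
    intro z hz
    have h1 := hlam ⟨z, hkerD z hz⟩
    have h2 : (⟨π ((⟨z, hkerD z hz⟩ : N.comap π) : E), (⟨z, hkerD z hz⟩ : N.comap π).2⟩ : N) = 1 :=
      Subtype.ext hz
    rw [h2, map_one] at h1
    exact h1
  -- the character of τ on the preimage of G
  obtain ⟨T, hTdef⟩ : ∃ T : G.comap π → ℂ,
      T = fun x : G.comap π => LinearMap.trace ℂ (Fin n → ℂ) ((τ (x : E) : (Endn n)ˣ) : Endn n) :=
    ⟨_, rfl⟩
  have hTc : Cfsg.IsCharacter (G.comap π) T := by
    rw [hTdef]
    exact ⟨n, (Units.coeHom (Endn n)).comp (τ.comp (G.comap π).subtype), rfl⟩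
  -- well-definedness modulo the kernel
  have hψz : ∀ (x : G.comap π) (z : E) (hz : π z = 1) (hzG : z ∈ G.comap π),
      β (x * ⟨z, hzG⟩) * T (x * ⟨z, hzG⟩) = β x * T x := by
    intro x z hz hzG
    have hzc : (⟨z, hzG⟩ : G.comap π) ∈ Subgroup.center (G.comap π) := by
      rw [Subgroup.mem_center_iff]
      intro g
      apply Subtype.ext
      show (g : E) * z = z * (g : E)
      exact (hcent z (g : E) hz).symm
    have hT : T (x * ⟨z, hzG⟩) = (lam ⟨z, hkerD z hz⟩ : ℂ) * T x := by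
      rw [hTdef]
      show LinearMap.trace ℂ (Fin n → ℂ) ((τ ((x : E) * z) : (Endn n)ˣ) : Endn n) = _
      rw [map_mul, Units.val_mul, hlamker z hz, mul_smul_comm, mul_one, map_smul, smul_eq_mul]
    have hB : β (x * ⟨z, hzG⟩) = (((lam ⟨z, hkerD z hz⟩)⁻¹ : ℂˣ) : ℂ) * β x := by
      obtain ⟨k, ρβ, hρβ, hβeq⟩ := id hβ
      haveI := hρβ
      have h1 := char_mul_central ρβ x ⟨z, hzG⟩ hzc
      rw [hβeq] at h1
      have h2 : β ⟨z, hzG⟩ = β 1 * ((lam⁻¹ ⟨z, hkerD z hz⟩ : ℂˣ) : ℂ) := hβD ⟨z, hkerD z hz⟩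
      have h3 : β 1 = (Module.finrank ℂ (Fin k → ℂ) : ℂ) := by
        rw [← hβeq, Representation.char_one]
      rw [h1, h2, ← h3, MonoidHom.inv_apply]
      field_simp
    rw [hT, hB]
    have h5 : (((lam ⟨z, hkerD z hz⟩)⁻¹ : ℂˣ) : ℂ) * (lam ⟨z, hkerD z hz⟩ : ℂ) = 1 := by
      rw [← Units.val_mul, inv_mul_cancel, Units.val_one]
    calc (((lam ⟨z, hkerD z hz⟩)⁻¹ : ℂˣ) : ℂ) * β x * ((lam ⟨z, hkerD z hz⟩ : ℂ) * T x)
        = ((((lam ⟨z, hkerD z hz⟩)⁻¹ : ℂˣ) : ℂ) * (lam ⟨z, hkerD z hz⟩ : ℂ)) * (β x * T x) := by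
          ring
      _ = β x * T x := by rw [h5, one_mul]
  have hψwd : ∀ x x' : G.comap π, π (x : E) = π (x' : E) → β x * T x = β x' * T x' := by
    intro x x' hxx'
    have hz : π ((x : E)⁻¹ * (x' : E)) = 1 := by
      rw [map_mul, map_inv, hxx', inv_mul_cancel]
    have hzG : (x : E)⁻¹ * (x' : E) ∈ G.comap π := hDG (hkerD _ hz)
    have hx' : x' = x * ⟨_, hzG⟩ := by
      apply Subtype.ext
      show (x' : E) = (x : E) * ((x : E)⁻¹ * (x' : E))
      group
    have h := hψz x _ hz hzG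
    rw [← hx'] at h
    exact h.symm
  -- irreducibility of the product
  have hιn' : (ι.range).Normal := by
    constructor
    rintro _ ⟨m, rfl⟩ x
    obtain ⟨m', hm'⟩ := hιn x m
    exact ⟨m', hm'.symm⟩
  haveI hN1 : ((ι.range).subgroupOf (G.comap π)).Normal := hιn'.subgroupOf _
  haveI : Fintype ((ι.range).subgroupOf (G.comap π)) := Fintype.ofFinite _
  have hmemN1 : ∀ y : (ι.range).subgroupOf (G.comap π), ∃ m : N, ι m = ((y : G.comap π) : E) := by
    intro y
    exact Subgroup.mem_subgroupOf.1 y.2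
  have hprod : Cfsg.IsIrrCharacter ((ι.range).subgroupOf (G.comap π))
      ((fun _ : (ι.range).subgroupOf (G.comap π) => (1 : ℂ)) *
        fun y : (ι.range).subgroupOf (G.comap π) => T y) := by
    have hmemN : ∀ y : (ι.range).subgroupOf (G.comap π), π ((y : G.comap π) : E) ∈ N := by
      intro y
      obtain ⟨m, hm⟩ := hmemN1 y
      rw [← hm, hπι]
      exact m.2
    obtain ⟨p₁, hp₁⟩ : ∃ p₁ : (ι.range).subgroupOf (G.comap π) →* N,
        ∀ y, ((p₁ y : N) : Γ) = π ((y : G.comap π) : E) :=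
      ⟨(π.comp ((G.comap π).subtype.comp ((ι.range).subgroupOf (G.comap π)).subtype)).codRestrict
        N hmemN, fun _ => rfl⟩
    have hp₁s : Function.Surjective p₁ := by
      intro m
      have h1 : ι m ∈ G.comap π := hDG (hιD m)
      refine ⟨⟨⟨ι m, h1⟩, Subgroup.mem_subgroupOf.2 ⟨m, rfl⟩⟩, ?_⟩
      apply Subtype.ext
      rw [hp₁]
      exact hπι m
    have heq : ((fun _ : (ι.range).subgroupOf (G.comap π) => (1 : ℂ)) *
        fun y : (ι.range).subgroupOf (G.comap π) => T y) = ρ.character ∘ p₁ := by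
      funext y
      obtain ⟨m, hm⟩ := hmemN1 y
      have h1 : p₁ y = m := by
        apply Subtype.ext
        rw [hp₁, ← hm, hπι]
      show (1 : ℂ) * T y = ρ.character (p₁ y)
      rw [one_mul, h1, hTdef]
      show LinearMap.trace ℂ (Fin n → ℂ) ((τ ((y : G.comap π) : E) : (Endn n)ˣ) : Endn n) = _
      rw [← hm, hτι]
      rfl
    rw [heq]
    exact isIrrCharacter_comp_surj p₁ hp₁s ⟨n, ρ, hρ, rfl⟩
  have hβN1 : ∀ y : (ι.range).subgroupOf (G.comap π), β y = β 1 := by
    intro y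
    obtain ⟨m, hm⟩ := hmemN1 y
    have h1 := hβD ⟨ι m, hιD m⟩
    rw [MonoidHom.inv_apply, hlamι, inv_one, Units.val_one, mul_one] at h1
    rw [← h1]
    refine congrArg β (Subtype.ext ?_)
    exact hm.symm
  have hc : Cfsg.classInner (Cfsg.indFun ((ι.range).subgroupOf (G.comap π))
      (fun _ : (ι.range).subgroupOf (G.comap π) => (1 : ℂ))) β ≠ 0 := by
    rw [frobenius_reciprocity _ _ _ (isClassFunction_of_irr hβ)]
    have h1 : (fun y : (ι.range).subgroupOf (G.comap π) => β y) =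
        (β 1) • (fun _ : (ι.range).subgroupOf (G.comap π) => (1 : ℂ)) := by
      funext y
      show β y = β 1 * 1
      rw [hβN1, mul_one]
    rw [h1, ← classInner_conj_symm, classInner_smul_left, classInner_one_one, mul_one]
    intro h0
    apply hβ10
    have h2 := congrArg (starRingEnd ℂ) h0
    rw [Complex.conj_conj, map_zero] at h2
    exact h2
  have hgal := (gallagher_core ((ι.range).subgroupOf (G.comap π))
    (fun _ : (ι.range).subgroupOf (G.comap π) => (1 : ℂ))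
    (isIrrCharacter_one _) (fun _ _ => rfl) T hTc hprod).1 β β hβ hβ hc hc
  rw [if_pos rfl] at hgal
  have hψirr : Cfsg.IsIrrCharacter (G.comap π) (β * T) :=
    isIrrCharacter_of_norm_one (isCharacter_mul (isCharacter_of_isIrrCharacter hβ) hTc) hgal
  -- descent to G
  have hpG : Function.Surjective (π.subgroupComap G) :=
    MonoidHom.subgroupComap_surjective_of_surjective π G hπ
  obtain ⟨χ, hχdef⟩ : ∃ χ : G → ℂ, χ = fun g => (β * T) (Function.surjInv hpG g) := ⟨_, rfl⟩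
  have hχψ : ∀ x : G.comap π, χ (π.subgroupComap G x) = β x * T x := by
    intro x
    rw [hχdef]
    show β _ * T _ = β x * T x
    apply hψwd
    have h1 := Function.surjInv_eq hpG (π.subgroupComap G x)
    exact congrArg Subtype.val h1
  have hcomp : χ ∘ (π.subgroupComap G) = β * T := by
    funext x
    exact hχψ x
  have hχcf : Cfsg.IsClassFunction G χ := by
    intro g h
    obtain ⟨x, rfl⟩ := hpG g
    obtain ⟨y, rfl⟩ := hpG h
    rw [← map_inv, ← map_mul, ← map_mul, hχψ, hχψ]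
    exact (isClassFunction_of_irr hψirr) x y
  have hχc : Cfsg.IsCharacter G χ := by
    apply isCharacter_of_nat_inner hχcf
    intro η hη
    have h1 := classInner_comp_surj (π.subgroupComap G) hpG χ η
    rw [← h1, hcomp]
    exact classInner_char_char_nat (isCharacter_of_isIrrCharacter hψirr)
      (isCharacter_comp (π.subgroupComap G) (isCharacter_of_isIrrCharacter hη))
  have hχirr : Cfsg.IsIrrCharacter G χ := by
    apply isIrrCharacter_of_norm_one hχc
    rw [← classInner_comp_surj (π.subgroupComap G) hpG χ χ, hcomp]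
    exact classInner_irr_self hψirr
  refine ⟨χ, hχirr, ?_, ?_⟩
  · have h1 : (fun m : N => χ ⟨m, hNG m.2⟩) = (β 1) • ρ.character := by
      funext m
      have h2 : (⟨(m : Γ), hNG m.2⟩ : G) = π.subgroupComap G ⟨ι m, hDG (hιD m)⟩ :=
        Subtype.ext (hπι m).symm
      show χ ⟨m, hNG m.2⟩ = β 1 * ρ.character m
      rw [h2, hχψ]
      have h3 := hβD ⟨ι m, hιD m⟩
      rw [MonoidHom.inv_apply, hlamι, inv_one, Units.val_one, mul_one] at h3
      have h4 : β ⟨ι m, hDG (hιD m)⟩ = β 1 := h3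
      rw [h4, hTdef]
      show β 1 * LinearMap.trace ℂ (Fin n → ℂ) ((τ (ι m) : (Endn n)ˣ) : Endn n) = _
      rw [hτι]
      rfl
    rw [h1, classInner_smul_left, hθself, mul_one]
    exact hβ10
  · intro x g
    obtain ⟨x', rfl⟩ := hπ x
    obtain ⟨g', rfl⟩ := hpG g
    have h1 : (⟨π x' * ((π.subgroupComap G g' : G) : Γ) * (π x')⁻¹,
        hG.conj_mem _ (π.subgroupComap G g').2 (π x')⟩ : G) =
        π.subgroupComap G ⟨x' * g' * x'⁻¹, hGn.conj_mem g' g'.2 x'⟩ := by
      apply Subtype.ext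
      show π x' * π (g' : E) * (π x')⁻¹ = π (x' * g' * x'⁻¹)
      rw [map_mul, map_mul, map_inv]
    rw [h1, hχψ, hχψ, hβinv]
    congr 1
    rw [hTdef]
    show LinearMap.trace ℂ (Fin n → ℂ) ((τ (x' * (g' : E) * x'⁻¹) : (Endn n)ˣ) : Endn n) =
      LinearMap.trace ℂ (Fin n → ℂ) ((τ (g' : E) : (Endn n)ˣ) : Endn n)
    rw [map_mul, map_mul, map_inv, Units.val_mul, Units.val_mul, LinearMap.trace_mul_comm,
      ← mul_assoc, Units.inv_mul, one_mul]

/-- the non-split theorem when the bottom quotient is solvable -/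
theorem nonsplit_solv_bot {Γ : Type u} [Group Γ] [Finite Γ] (G N : Subgroup Γ) [hG : G.Normal]
    [hN : N.Normal] [Fintype G] [Fintype N] (hNG : N ≤ G)
    (hcop : (G.index).Coprime (N.relIndex G)) (hsolv : Group.IsSolvable (G ⧸ N.subgroupOf G))
    (θ : N → ℂ) (hθ : Cfsg.IsIrrCharacter N θ)
    (hinv : ∀ (x : Γ) (n : N), θ ⟨x * n * x⁻¹, hN.conj_mem n n.2 x⟩ = θ n) :
    ∃ χ : G → ℂ, Cfsg.IsIrrCharacter G χ ∧
      Cfsg.classInner (fun n : N => χ ⟨n, hNG n.2⟩) θ ≠ 0 ∧
      ∀ (x : Γ) (g : G), χ ⟨x * g * x⁻¹, hG.conj_mem g g.2 x⟩ = χ g := by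
  classical
  haveI : Fintype Γ := Fintype.ofFinite Γ
  have hq : Function.Surjective (QuotientGroup.mk' N) := QuotientGroup.mk'_surjective N
  have hqker : (QuotientGroup.mk' N).ker = N := QuotientGroup.ker_mk' N
  haveI hGbn : (G.map (QuotientGroup.mk' N)).Normal := hG.map _ hq
  have hidx : (G.map (QuotientGroup.mk' N)).index = G.index :=
    Subgroup.index_map_eq G hq (by rw [hqker]; exact hNG)
  have hcardG : Nat.card (G.map (QuotientGroup.mk' N)) = N.relIndex G := by
    rw [← Subgroup.relIndex_ker, hqker]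
  obtain ⟨Hb, hHb⟩ := Subgroup.exists_right_complement'_of_coprime
    (N := G.map (QuotientGroup.mk' N)) (by rw [hidx, hcardG]; exact hcop.symm)
  have hHbcard : Nat.card Hb = G.index := by
    have h1 := hHb.card_mul_card
    have h2 := (G.map (QuotientGroup.mk' N)).card_mul_index
    rw [hidx] at h2
    have h3 : 0 < Nat.card (G.map (QuotientGroup.mk' N)) := Nat.card_pos
    have h4 : Nat.card (G.map (QuotientGroup.mk' N)) * Nat.card Hb =
        Nat.card (G.map (QuotientGroup.mk' N)) * G.index := by rw [h1, h2]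
    exact Nat.eq_of_mul_eq_mul_left h3 h4
  obtain ⟨H, hHdef⟩ : ∃ H : Subgroup Γ, H = Hb.comap (QuotientGroup.mk' N) := ⟨_, rfl⟩
  have hrelH : N.relIndex H = G.index := by
    have h1 : (QuotientGroup.mk' N).ker.relIndex H = Nat.card (H.map (QuotientGroup.mk' N)) :=
      Subgroup.relIndex_ker _ _
    rw [hqker, hHdef, Subgroup.map_comap_eq_self_of_surjective hq, hHbcard] at h1
    rw [hHdef]
    exact h1
  haveI hN' : (N.subgroupOf G).Normal := hN.subgroupOf G
  have hcop' : (N.relIndex G).Coprime (N.relIndex H) := by rw [hrelH]; exact hcop.symm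
  have hθH : ChInv N H θ := by
    intro s _ n n' hnn'
    have h1 := hinv s n
    rw [← h1]
    exact congrArg θ (Subtype.ext hnn')
  obtain ⟨χ, hχ, hne, hχH⟩ := solv_over H (N.relIndex G) G N hNG rfl
    (fun s _ g hg => hG.conj_mem g hg s) (fun s _ n hn => hN.conj_mem n hn s) hcop' hsolv θ hθ hθH
  refine ⟨χ, hχ, hne, ?_⟩
  intro x g
  obtain ⟨⟨gb, hb⟩, hgh, -⟩ := hHb.existsUnique (QuotientGroup.mk' N x)
  have hgh' : (gb : Γ ⧸ N) * (hb : Γ ⧸ N) = QuotientGroup.mk' N x := hgh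
  obtain ⟨g₀, hg₀, hg₀eq⟩ := Subgroup.mem_map.1 gb.2
  have hh₀ : g₀⁻¹ * x ∈ H := by
    rw [hHdef, Subgroup.mem_comap, map_mul, map_inv, hg₀eq, ← hgh', inv_mul_cancel_left]
    exact hb.2
  have hcl := isClassFunction_of_irr hχ
  have hmem : (g₀⁻¹ * x) * g * (g₀⁻¹ * x)⁻¹ ∈ G := hG.conj_mem g g.2 _
  have h1 : χ ⟨_, hmem⟩ = χ g := hχH _ hh₀ g ⟨_, hmem⟩ rfl
  have h2 : (⟨x * g * x⁻¹, hG.conj_mem g g.2 x⟩ : G) =
      ⟨g₀, hg₀⟩ * ⟨_, hmem⟩ * ⟨g₀, hg₀⟩⁻¹ := by
    apply Subtype.ext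
    show x * (g : Γ) * x⁻¹ = g₀ * ((g₀⁻¹ * x) * g * (g₀⁻¹ * x)⁻¹) * g₀⁻¹
    group
  rw [h2, hcl, h1]

end Cfsg.Agent.Lib.Helper7
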