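import Mathlib

set_option autoImplicit false

namespace Cfsg.Agent.Lib.Helper7

/-- Jordan: a transitive action of a finite group on a finite set with at least two points
has a fixed-point-free element. -/
theorem exists_fixedPointFree {G X : Type*} [Group G] [Finite G] [MulAction G X] [Finite X]
    [MulAction.IsPretransitive G X] (hX : 2 ≤ Nat.card X) : ∃ g : G, ∀ x : X, g • x ≠ x := by
  classical
  have : Fintype G := Fintype.ofFinite G
  have : Fintype X := Fintype.ofFinite X
  by_contra hcon
  push Not at hcon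
  have hne : Nonempty X := (Nat.card_pos_iff.mp (by omega)).1
  have huniq : Nonempty (Unique (MulAction.orbitRel.Quotient G X)) :=
    (MulAction.pretransitive_iff_unique_quotient_of_nonempty G X).mp inferInstance
  obtain ⟨hu⟩ := huniq
  have : Fintype (MulAction.orbitRel.Quotient G X) := Fintype.ofFinite _
  have hB := MulAction.sum_card_fixedBy_eq_card_orbits_mul_card_group G X
  have h1 : Fintype.card (MulAction.orbitRel.Quotient G X) = 1 := Fintype.card_eq_one_iff.mpr ⟨default, fun y => hu.uniq y⟩
  rw [h1, one_mul] at hB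
  have h2 : ∀ g : G, 1 ≤ Fintype.card (MulAction.fixedBy X g) := by
    intro g
    obtain ⟨x, hx⟩ := hcon g
    exact Fintype.card_pos_iff.mpr ⟨⟨x, hx⟩⟩
  have h3 : Fintype.card (MulAction.fixedBy X (1 : G)) = Fintype.card X := by
    apply Fintype.card_congr
    exact Equiv.subtypeUnivEquiv (fun x => by simp)
  rw [← Finset.add_sum_erase Finset.univ _ (Finset.mem_univ (1 : G)), h3] at hB
  have h4 : (Finset.univ.erase (1 : G)).card • 1 ≤ ∑ g ∈ Finset.univ.erase (1 : G), Fintype.card (MulAction.fixedBy X g) :=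
    Finset.card_nsmul_le_sum _ _ _ (fun g _ => h2 g)
  rw [Finset.card_erase_of_mem (Finset.mem_univ _), Finset.card_univ] at h4
  rw [Nat.card_eq_fintype_card] at hX
  have h5 : 0 < Fintype.card G := Fintype.card_pos
  simp only [smul_eq_mul, mul_one] at h4
  omega

/-- A finite group is not the union of the conjugates of a proper subgroup. -/
theorem exists_not_mem_conj {G : Type*} [Group G] [Finite G] (M : Subgroup G) (hM : M ≠ ⊤) :
    ∃ x : G, ∀ g : G, g⁻¹ * x * g ∉ M := by
  have hX : 2 ≤ Nat.card (G ⧸ M) := by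
    have h1 : M.index ≠ 1 := fun h => hM (Subgroup.index_eq_one.mp h)
    have h2 : M.index ≠ 0 := Subgroup.index_ne_zero_of_finite
    rw [← Subgroup.index_eq_card]
    omega
  obtain ⟨x, hx⟩ := exists_fixedPointFree (G := G) (X := G ⧸ M) hX
  refine ⟨x, fun g hg => hx (g : G ⧸ M) ?_⟩
  rw [MulAction.Quotient.smul_mk, QuotientGroup.eq]
  have : (x • g)⁻¹ * g = (g⁻¹ * x * g)⁻¹ := by
    simp [smul_eq_mul, mul_assoc]
  rw [this]
  exact M.inv_mem hg

end Cfsg.Agent.Lib.Helper7
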