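import Mathlib
import Cfsg.Prelude.Def_Characters
import Cfsg.Agent.Lib.Lead.CharCentral
import Cfsg.Agent.Lib.Lead.CharPerm
import Cfsg.Agent.Lib.Helper7.GlaubTriple

set_option autoImplicit false

namespace Cfsg.Agent.Lib.Helper7
open Cfsg Cfsg.Agent.Lib.Lead
open scoped ComplexConjugate

/-- central translation formula for irreducible characters -/
theorem irr_mul_central {G : Type*} [Group G] {χ : G → ℂ} (hχ : Cfsg.IsIrrCharacter G χ)
    (g z : G) (hz : z ∈ Subgroup.center G) : χ (g * z) = χ z / χ 1 * χ g := by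
  obtain ⟨n, ρ, hρ, rfl⟩ := hχ
  haveI := hρ
  rw [char_mul_central ρ g z hz, Representation.char_one]

/-- special elements relative to a (central) subgroup -/
def Spec {G : Type*} [Group G] (N : Subgroup G) (g : G) : Prop :=
  ∀ x : G, x⁻¹ * g⁻¹ * x * g ∈ N → x * g = g * x

theorem spec_mul_imp {G : Type*} [Group G] (N : Subgroup G) (hN : N ≤ Subgroup.center G)
    {g n : G} (hn : n ∈ N) (h : Spec N g) : Spec N (g * n) := by
  intro x hx
  have hc : ∀ y : G, y * n = n * y := fun y => Subgroup.mem_center_iff.mp (hN hn) y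
  have e : x⁻¹ * (g * n)⁻¹ * x * (g * n) = x⁻¹ * g⁻¹ * x * g := by
    calc x⁻¹ * (g * n)⁻¹ * x * (g * n) = (x⁻¹ * n⁻¹ * g⁻¹ * x * g) * n := by group
      _ = n * (x⁻¹ * n⁻¹ * g⁻¹ * x * g) := hc _
      _ = (n * x⁻¹) * n⁻¹ * g⁻¹ * x * g := by group
      _ = (x⁻¹ * n) * n⁻¹ * g⁻¹ * x * g := by rw [hc x⁻¹]
      _ = x⁻¹ * g⁻¹ * x * g := by group
  rw [e] at hx
  have h1 := h x hx
  calc x * (g * n) = (x * g) * n := by group
    _ = (g * x) * n := by rw [h1]
    _ = g * (x * n) := by group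
    _ = g * (n * x) := by rw [hc x]
    _ = g * n * x := by group

theorem spec_conj_imp {G : Type*} [Group G] (N : Subgroup G) [hNn : N.Normal]
    {g : G} (y : G) (h : Spec N g) : Spec N (y * g * y⁻¹) := by
  intro x hx
  have e : (y⁻¹ * x * y)⁻¹ * g⁻¹ * (y⁻¹ * x * y) * g =
      y⁻¹ * (x⁻¹ * (y * g * y⁻¹)⁻¹ * x * (y * g * y⁻¹)) * y⁻¹⁻¹ := by group
  have h1 : (y⁻¹ * x * y)⁻¹ * g⁻¹ * (y⁻¹ * x * y) * g ∈ N := by
    rw [e]
    exact hNn.conj_mem _ hx y⁻¹
  have h2 := h _ h1
  calc x * (y * g * y⁻¹) = y * ((y⁻¹ * x * y) * g) * y⁻¹ := by group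
    _ = y * (g * (y⁻¹ * x * y)) * y⁻¹ := by rw [h2]
    _ = y * g * y⁻¹ * x := by group

theorem spec_class_iff {G : Type*} [Group G] (N : Subgroup G) [N.Normal]
    (hN : N ≤ Subgroup.center G) (g : G) :
    (∃ g' : G, ConjClasses.mk (g' : G ⧸ N) = ConjClasses.mk (g : G ⧸ N) ∧ Spec N g') ↔
      Spec N g := by
  constructor
  · rintro ⟨g', hc, hs⟩
    rw [ConjClasses.mk_eq_mk_iff_isConj, isConj_iff] at hc
    obtain ⟨c, hc⟩ := hc
    obtain ⟨y, rfl⟩ := QuotientGroup.mk_surjective c
    have h1 : (y * g' * y⁻¹)⁻¹ * g ∈ N := by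
      rw [← QuotientGroup.eq]
      rw [← hc]
      simp
    have h2 := spec_mul_imp N hN h1 (spec_conj_imp N y hs)
    have e : y * g' * y⁻¹ * ((y * g' * y⁻¹)⁻¹ * g) = g := by group
    rwa [e] at h2
  · intro hs
    exact ⟨g, rfl, hs⟩

theorem spec_centralizer_index {G : Type*} [Group G] (N : Subgroup G) [N.Normal]
    (hN : N ≤ Subgroup.center G) (g : G) (hs : Spec N g) :
    (Subgroup.centralizer ({(g : G ⧸ N)} : Set (G ⧸ N))).index =
      (Subgroup.centralizer ({g} : Set G)).index := by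
  have hmap : Subgroup.centralizer ({(g : G ⧸ N)} : Set (G ⧸ N)) =
      (Subgroup.centralizer ({g} : Set G)).map (QuotientGroup.mk' N) := by
    ext q
    constructor
    · intro hq
      obtain ⟨x, rfl⟩ := QuotientGroup.mk_surjective q
      rw [Subgroup.mem_centralizer_singleton_iff] at hq
      have h1 : x⁻¹ * g⁻¹ * x * g ∈ N := by
        rw [← QuotientGroup.eq_one_iff]
        have e : ((x⁻¹ * g⁻¹ * x * g : G) : G ⧸ N) =
            (x : G ⧸ N)⁻¹ * (g : G ⧸ N)⁻¹ * ((x : G ⧸ N) * (g : G ⧸ N)) := by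
          simp [mul_assoc]
        rw [e, hq]
        group
      exact ⟨x, Subgroup.mem_centralizer_singleton_iff.mpr (hs x h1), rfl⟩
    · rintro ⟨x, hx, rfl⟩
      have hx' : x ∈ Subgroup.centralizer ({g} : Set G) := hx
      rw [Subgroup.mem_centralizer_singleton_iff] at hx' ⊢
      show (x : G ⧸ N) * (g : G ⧸ N) = (g : G ⧸ N) * (x : G ⧸ N)
      rw [← QuotientGroup.mk_mul, ← QuotientGroup.mk_mul, hx']
  rw [hmap]
  apply Subgroup.index_map_eq _ (QuotientGroup.mk'_surjective N)
  rw [QuotientGroup.ker_mk']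
  intro n hn
  rw [Subgroup.mem_centralizer_singleton_iff]
  exact (Subgroup.mem_center_iff.mp (hN hn) g).symm

theorem card_classes_pred {Q : Type*} [Group Q] [Fintype Q] (P : ConjClasses Q → Prop)
    [DecidablePred P] :
    (Nat.card {C : ConjClasses Q // P C} : ℂ) =
      ∑ q : Q, if P (ConjClasses.mk q) then
        (Nat.card Q : ℂ)⁻¹ * (Nat.card (Subgroup.centralizer ({q} : Set Q)) : ℂ) else 0 := by
  classical
  haveI := Fintype.ofFinite (ConjClasses Q)
  have h1 := sum_comp_mk (G := Q)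
    (fun C => if P C then ((Nat.card {x : Q // ConjClasses.mk x = C} : ℂ))⁻¹ else 0)
  have h2 : ∀ q : Q, (if P (ConjClasses.mk q) then
      (Nat.card Q : ℂ)⁻¹ * (Nat.card (Subgroup.centralizer ({q} : Set Q)) : ℂ) else 0) =
      (fun C => if P C then ((Nat.card {x : Q // ConjClasses.mk x = C} : ℂ))⁻¹ else 0)
        (ConjClasses.mk q) := by
    intro q
    show _ = if P (ConjClasses.mk q) then _ else 0
    by_cases hp : P (ConjClasses.mk q)
    · rw [if_pos hp, if_pos hp]
      have h4 := card_class_mul_card_centralizer q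
      have h5 : Nat.card {x : Q // ConjClasses.mk x = ConjClasses.mk q} =
          Nat.card {x : Q // IsConj x q} :=
        Nat.card_congr (Equiv.subtypeEquivRight (fun x => ConjClasses.mk_eq_mk_iff_isConj))
      rw [h5, ← h4]
      push_cast
      have hc : (Nat.card {x : Q // IsConj x q} : ℂ) ≠ 0 := by
        have : Nat.card {x : Q // IsConj x q} ≠ 0 := by
          intro h0
          rw [h0, zero_mul] at h4
          exact Nat.card_pos.ne' h4.symm
        exact_mod_cast this
      have hz : (Nat.card (Subgroup.centralizer ({q} : Set Q)) : ℂ) ≠ 0 := by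
        exact_mod_cast Nat.card_pos.ne'
      field_simp
    · rw [if_neg hp, if_neg hp]
  rw [Finset.sum_congr rfl (fun q _ => h2 q), h1]
  rw [Nat.card_eq_fintype_card, Fintype.card_subtype, Finset.card_filter]
  push_cast
  apply Finset.sum_congr rfl
  intro C _
  by_cases hp : P C
  · rw [if_pos hp, if_pos hp]
    have hc : (Nat.card {x : Q // ConjClasses.mk x = C} : ℂ) ≠ 0 := by
      obtain ⟨x, hx⟩ := ConjClasses.mk_surjective C
      haveI : Nonempty {x : Q // ConjClasses.mk x = C} := ⟨⟨x, hx⟩⟩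
      exact_mod_cast Nat.card_pos.ne'
    rw [mul_inv_cancel₀ hc]
  · rw [if_neg hp, if_neg hp, mul_zero]

theorem sum_quot_fiber {G : Type*} [Group G] [Fintype G] (N : Subgroup G) [N.Normal]
    [Fintype (G ⧸ N)] (F : G ⧸ N → ℂ) :
    ∑ g : G, F (g : G ⧸ N) = (Nat.card N : ℂ) * ∑ q : G ⧸ N, F q := by
  classical
  rw [← Finset.sum_fiberwise Finset.univ (fun g : G => (g : G ⧸ N)), Finset.mul_sum]
  apply Finset.sum_congr rfl
  intro q _
  rw [Finset.sum_congr rfl (fun g hg => by rw [(Finset.mem_filter.mp hg).2]),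
    Finset.sum_const, nsmul_eq_mul]
  congr 1
  have h := QuotientGroup.card_preimage_mk N ({q} : Set (G ⧸ N))
  have h1 : Nat.card ({q} : Set (G ⧸ N)) = 1 := by simp
  rw [h1, mul_one] at h
  have h2 : Nat.card {g : G // (g : G ⧸ N) = q} = Nat.card N := h
  rw [← h2, Nat.card_eq_fintype_card, Fintype.card_subtype]

theorem special_count {G : Type*} [Group G] [Fintype G] (N : Subgroup G) [hNn : N.Normal]
    [Fintype N] (hN : N ≤ Subgroup.center G) (ψ : Cfsg.IrrCharacter ↥N)
    (hfaith : ∀ n : ↥N, (ψ : ↥N → ℂ) n = (ψ : ↥N → ℂ) 1 → n = 1) :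
    Nat.card {χ : Cfsg.IrrCharacter G //
        Cfsg.classInner (fun n : ↥N => (χ : G → ℂ) n) (ψ : ↥N → ℂ) ≠ 0} =
    Nat.card {C : ConjClasses (G ⧸ N) //
        ∃ g : G, ConjClasses.mk (g : G ⧸ N) = C ∧ Spec N g} := by
  classical
  haveI := Fintype.ofFinite (Cfsg.IrrCharacter G)
  have hcommN : ∀ a b : N, a * b = b * a := by
    intro a b
    apply Subtype.ext
    exact Subgroup.mem_center_iff.mp (hN b.2) a
  have hψ1 : (ψ : ↥N → ℂ) 1 = 1 := (commutative_iff_degrees.mp hcommN) ψ
  have hψn := norm_linear_char ψ.2 hψ1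
  have hNne : (Nat.card N : ℂ) ≠ 0 := by exact_mod_cast Nat.card_pos.ne'
  have hGne : (Nat.card G : ℂ) ≠ 0 := by exact_mod_cast Nat.card_pos.ne'
  set I : Cfsg.IrrCharacter G → Prop := fun χ =>
    Cfsg.classInner (fun n : ↥N => (χ : G → ℂ) n) (ψ : ↥N → ℂ) ≠ 0 with hI
  have hA : ∀ χ : Cfsg.IrrCharacter G,
      ∑ n : N, conj ((ψ : ↥N → ℂ) n) * ((χ : G → ℂ) n / (χ : G → ℂ) 1) =
        if I χ then (Nat.card N : ℂ) else 0 := by
    intro χ
    obtain ⟨d, hd0, hd⟩ := irr_one χ.2
    have hχ1 : (χ : G → ℂ) 1 ≠ 0 := by rw [hd]; exact_mod_cast hd0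
    by_cases hi : I χ
    · rw [if_pos hi]
      have hcl := clifford_inv_linear N χ.2 (ψ : ↥N → ℂ) ψ.2 hψ1 (fun g n => by
        refine congrArg (ψ : ↥N → ℂ) (Subtype.ext ?_)
        show g * n * g⁻¹ = n
        rw [Subgroup.mem_center_iff.mp (hN n.2) g]; group) hi
      rw [Finset.sum_congr rfl (fun n _ => by
        rw [hcl n, mul_div_cancel_left₀ _ hχ1, mul_comm, Complex.mul_conj,
          Complex.normSq_eq_norm_sq, hψn n])]
      simp [Nat.card_eq_fintype_card]
    · rw [if_neg hi]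
      have h0 : Cfsg.classInner (fun n : ↥N => (χ : G → ℂ) n) (ψ : ↥N → ℂ) = 0 :=
        not_not.mp hi
      unfold Cfsg.classInner at h0
      have h1 : ∑ n : N, (χ : G → ℂ) n * conj ((ψ : ↥N → ℂ) n) = 0 := by
        rcases mul_eq_zero.mp h0 with h | h
        · exact absurd (inv_eq_zero.mp h) hNne
        · exact h
      calc ∑ n : N, conj ((ψ : ↥N → ℂ) n) * ((χ : G → ℂ) n / (χ : G → ℂ) 1)
          = (∑ n : N, (χ : G → ℂ) n * conj ((ψ : ↥N → ℂ) n)) / (χ : G → ℂ) 1 := by
            rw [Finset.sum_div]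
            apply Finset.sum_congr rfl
            intro n _
            ring
        _ = 0 := by rw [h1, zero_div]
  have hstar : ∀ g : G, (Nat.card N : ℂ) * ∑ χ : Cfsg.IrrCharacter G,
      (if I χ then (χ : G → ℂ) g * conj ((χ : G → ℂ) g) else 0) =
      ∑ n : N, conj ((ψ : ↥N → ℂ) n) * conjCount g (g * n) := by
    intro g
    have h1 : ∀ n : N, conjCount g (g * n) = ∑ χ : Cfsg.IrrCharacter G,
        ((χ : G → ℂ) n / (χ : G → ℂ) 1 * (χ : G → ℂ) g) * conj ((χ : G → ℂ) g) := by
      intro n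
      rw [← column_orthogonality_sum (g * n) g]
      apply Finset.sum_congr rfl
      intro χ _
      rw [irr_mul_central χ.2 g n (hN n.2)]
    have hR : ∑ n : N, conj ((ψ : ↥N → ℂ) n) * conjCount g (g * n) =
        ∑ χ : Cfsg.IrrCharacter G, ∑ n : N, conj ((ψ : ↥N → ℂ) n) *
          (((χ : G → ℂ) n / (χ : G → ℂ) 1 * (χ : G → ℂ) g) * conj ((χ : G → ℂ) g)) := by
      rw [Finset.sum_comm]
      apply Finset.sum_congr rfl
      intro n _
      rw [h1 n, Finset.mul_sum]
    rw [hR, Finset.mul_sum]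
    apply Finset.sum_congr rfl
    intro χ _
    have h2 : ∑ n : N, conj ((ψ : ↥N → ℂ) n) *
        (((χ : G → ℂ) n / (χ : G → ℂ) 1 * (χ : G → ℂ) g) * conj ((χ : G → ℂ) g)) =
        (∑ n : N, conj ((ψ : ↥N → ℂ) n) * ((χ : G → ℂ) n / (χ : G → ℂ) 1)) *
          ((χ : G → ℂ) g * conj ((χ : G → ℂ) g)) := by
      rw [Finset.sum_mul]
      apply Finset.sum_congr rfl
      intro n _
      ring
    rw [h2, hA χ]
    by_cases hi : I χ
    · rw [if_pos hi, if_pos hi]
    · rw [if_neg hi, if_neg hi, mul_zero, zero_mul]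
  have hval : ∀ g : G, (Nat.card N : ℂ) * ∑ χ : Cfsg.IrrCharacter G,
      (if I χ then (χ : G → ℂ) g * conj ((χ : G → ℂ) g) else 0) =
      if Spec N g then (Nat.card (Subgroup.centralizer ({g} : Set G)) : ℂ) else 0 := by
    intro g
    by_cases hs : Spec N g
    · rw [if_pos hs, hstar g]
      rw [Finset.sum_eq_single (1 : N)]
      · rw [hψ1, map_one, one_mul]
        show conjCount g (g * ((1 : N) : G)) = _
        rw [Subgroup.coe_one, mul_one, conjCount_apply_of_isConj (IsConj.refl g)]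
      · intro n _ hn1
        have h0 : conjCount g (g * n) = 0 := by
          apply conjCount_apply_of_not_isConj
          intro hc
          obtain ⟨c, hc⟩ := isConj_iff.mp hc
          have hcn : ∀ y : G, y * (n : G) = n * y :=
            fun y => Subgroup.mem_center_iff.mp (hN n.2) y
          have e1 : c * g * c⁻¹ * n = g := by
            calc c * g * c⁻¹ * n = c * g * (c⁻¹ * n) := by group
              _ = c * g * (n * c⁻¹) := by rw [hcn c⁻¹]
              _ = c * (g * n) * c⁻¹ := by group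
              _ = g := hc
          have e2 : (c⁻¹)⁻¹ * g⁻¹ * c⁻¹ * g = n := by
            calc (c⁻¹)⁻¹ * g⁻¹ * c⁻¹ * g = (c * g * c⁻¹)⁻¹ * g := by group
              _ = (c * g * c⁻¹)⁻¹ * (c * g * c⁻¹ * n) := by rw [e1]
              _ = n := by group
          have h3 := hs c⁻¹ (by rw [e2]; exact n.2)
          have e3 : c * g * c⁻¹ = g := by
            calc c * g * c⁻¹ = c * (g * c⁻¹) := by group
              _ = c * (c⁻¹ * g) := by rw [h3]
              _ = g := by group
          rw [e3] at e1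
          have h4 : (n : G) = 1 := by simpa using e1
          exact hn1 (Subtype.ext h4)
        rw [h0, mul_zero]
      · intro h
        exact absurd (Finset.mem_univ _) h
    · rw [if_neg hs]
      have h0 : ∀ χ : Cfsg.IrrCharacter G,
          (if I χ then (χ : G → ℂ) g * conj ((χ : G → ℂ) g) else 0) = 0 := by
        intro χ
        by_cases hi : I χ
        · rw [if_pos hi]
          unfold Spec at hs
          push_neg at hs
          obtain ⟨x, hx, hne⟩ := hs
          have h5 := central_comm_char_zero N hN ψ hfaith χ hi g x hx (by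
            intro h1
            apply hne
            have e : x * g = g * x * (x⁻¹ * g⁻¹ * x * g) := by group
            rw [e, h1, mul_one])
          rw [h5, zero_mul]
        · rw [if_neg hi]
      rw [Finset.sum_congr rfl (fun χ _ => h0 χ), Finset.sum_const_zero, mul_zero]
  have hB : (Nat.card {χ : Cfsg.IrrCharacter G // I χ} : ℂ) =
      (Nat.card G : ℂ)⁻¹ * ∑ g : G, ∑ χ : Cfsg.IrrCharacter G,
        (if I χ then (χ : G → ℂ) g * conj ((χ : G → ℂ) g) else 0) := by
    rw [Nat.card_eq_fintype_card, Fintype.card_subtype, Finset.card_filter]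
    push_cast
    rw [Finset.sum_comm, Finset.mul_sum]
    apply Finset.sum_congr rfl
    intro χ _
    by_cases hi : I χ
    · rw [if_pos hi]
      rw [Finset.sum_congr rfl (fun g _ => if_pos hi)]
      have h6 := classInner_irr_self χ.2
      unfold Cfsg.classInner at h6
      exact h6.symm
    · rw [if_neg hi, Finset.sum_congr rfl (fun g _ => if_neg hi), Finset.sum_const_zero,
        mul_zero]
  have hD : (Nat.card {C : ConjClasses (G ⧸ N) //
      ∃ g : G, ConjClasses.mk (g : G ⧸ N) = C ∧ Spec N g} : ℂ) =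
      (Nat.card N : ℂ)⁻¹ * ∑ g : G, if Spec N g then
        (Nat.card G : ℂ)⁻¹ * (Nat.card (Subgroup.centralizer ({g} : Set G)) : ℂ) else 0 := by
    haveI : Fintype (G ⧸ N) := Fintype.ofFinite _
    rw [card_classes_pred (fun C : ConjClasses (G ⧸ N) =>
      ∃ g : G, ConjClasses.mk (g : G ⧸ N) = C ∧ Spec N g)]
    have h1 := sum_quot_fiber N (fun q : G ⧸ N =>
      if (∃ g : G, ConjClasses.mk (g : G ⧸ N) = ConjClasses.mk q ∧ Spec N g) then
        (Nat.card (G ⧸ N) : ℂ)⁻¹ *
          (Nat.card (Subgroup.centralizer ({q} : Set (G ⧸ N))) : ℂ) else 0)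
    rw [eq_inv_mul_iff_mul_eq₀ hNne, ← h1]
    apply Finset.sum_congr rfl
    intro g _
    show (if (∃ g' : G, ConjClasses.mk (g' : G ⧸ N) = ConjClasses.mk (g : G ⧸ N) ∧
      Spec N g') then _ else 0) = _
    by_cases hs : Spec N g
    · rw [if_pos ((spec_class_iff N hN g).mpr hs), if_pos hs]
      have hi := spec_centralizer_index N hN g hs
      have e1 := Subgroup.card_mul_index
        (Subgroup.centralizer ({(g : G ⧸ N)} : Set (G ⧸ N)))
      have e2 := Subgroup.card_mul_index (Subgroup.centralizer ({g} : Set G))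
      rw [← e1, ← e2, hi]
      push_cast
      have hc1 : (Nat.card (Subgroup.centralizer ({(g : G ⧸ N)} : Set (G ⧸ N))) : ℂ) ≠ 0 := by
        exact_mod_cast Nat.card_pos.ne'
      have hc2 : (Nat.card (Subgroup.centralizer ({g} : Set G)) : ℂ) ≠ 0 := by
        exact_mod_cast Nat.card_pos.ne'
      have hc3 : ((Subgroup.centralizer ({g} : Set G)).index : ℂ) ≠ 0 := by
        exact_mod_cast Subgroup.index_ne_zero_of_finite
      field_simp
    · rw [if_neg (fun h => hs ((spec_class_iff N hN g).mp h)), if_neg hs]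
  have hC : (Nat.card {χ : Cfsg.IrrCharacter G // I χ} : ℂ) =
      (Nat.card {C : ConjClasses (G ⧸ N) //
        ∃ g : G, ConjClasses.mk (g : G ⧸ N) = C ∧ Spec N g} : ℂ) := by
    rw [hB, hD]
    have h3 : ∀ g : G, ∑ χ : Cfsg.IrrCharacter G,
        (if I χ then (χ : G → ℂ) g * conj ((χ : G → ℂ) g) else 0) =
        (Nat.card N : ℂ)⁻¹ *
          (if Spec N g then (Nat.card (Subgroup.centralizer ({g} : Set G)) : ℂ) else 0) := by
      intro g
      rw [← hval g, ← mul_assoc, inv_mul_cancel₀ hNne, one_mul]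
    rw [Finset.sum_congr rfl (fun g _ => h3 g), Finset.mul_sum, Finset.mul_sum]
    apply Finset.sum_congr rfl
    intro g _
    by_cases hs : Spec N g
    · rw [if_pos hs, if_pos hs]; ring
    · rw [if_neg hs, if_neg hs]; ring
  exact_mod_cast hC

end Cfsg.Agent.Lib.Helper7
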